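import Cfsg.Agent.Grp.ZassCoord

/-!
# Recognition of `PSL(2, p)` from its action on `p + 1` points
-/

set_option autoImplicit false
set_option linter.unusedSectionVars false

namespace Cfsg

open Subgroup OnePoint MulAction
open scoped Pointwise

universe u

section Perm

variable {G : Type u} [Group G] {p : ℕ} [hp : Fact p.Prime] [MulAction G (OnePoint (ZMod p))]
  {x : G}

namespace ZassHyp

variable (h : ZassHyp p G x) [Finite G] {e : ℕ}
include h

theorem exists_inv_of_odd (he : p = 2 * e + 1) (hG : Nat.card G = (p + 1) * p * e)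
    (hperf : commutator G = ⊤) (ho : Odd e) : ∃ (w : G) (c : ZMod p), c ≠ 0 ∧
      w • (∞ : OnePoint (ZMod p)) = (0 : ZMod p) ∧ w • ((0 : ZMod p) : OnePoint (ZMod p)) = ∞ ∧
      ∀ t : ZMod p, t ≠ 0 →
        w • (t : OnePoint (ZMod p)) = ((-c ^ 2 / t : ZMod p) : OnePoint (ZMod p)) := by
  obtain ⟨w, hw1, hw2⟩ := h.exists_smul_eq (coe_ne_infty (0 : ZMod p))
  have hsw : ∀ g : G, g • (∞ : OnePoint (ZMod p)) = (0 : ZMod p) →
      g • ((0 : ZMod p) : OnePoint (ZMod p)) = ∞ → g * w ∈ torus p G := fun g a b =>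
    mem_torus.2 ⟨by rw [mul_smul, hw1, b], by rw [mul_smul, hw2, a]⟩
  have hww := hsw w hw1 hw2
  have hcj : ∀ q ∈ torus p G, w * q * w⁻¹ ∈ torus p G := fun q hq => by
    rw [mem_torus] at hq ⊢
    refine ⟨?_, ?_⟩
    · conv_lhs => rw [← hw2, mul_smul, inv_smul_smul, mul_smul, hq.2, hw2]
    · conv_lhs => rw [← hw1, mul_smul, inv_smul_smul, mul_smul, hq.1, hw1]
  let K : Subgroup G :=
    { carrier := {q | q ∈ torus p G ∧ w * q * w⁻¹ = q⁻¹}
      one_mem' := ⟨one_mem _, by simp⟩
      mul_mem' := fun {a b} ha hb => ⟨mul_mem ha.1 hb.1, by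
        rw [← conj_mul, ha.2, hb.2, h.torus_comm ha.1 hb.1, mul_inv_rev]⟩
      inv_mem' := fun {a} ha => ⟨inv_mem ha.1, by rw [← conj_inv, ha.2]⟩ }
  have hK : torus p G ≤ K := by
    have hc : (Nat.card (torus p G)).Coprime (torus p G).index := by
      rw [h.card_torus hG, h.index_torus, he]
      refine Nat.Coprime.mul_right ?_ (by simp)
      rw [show 2 * e + 1 + 1 = 2 * e + 2 by ring, Nat.coprime_mul_right_add_right]
      exact (Nat.coprime_two_right).2 ho
    have h1 := commutator_inf_eq_focalSubgroup_of_coprime hc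
    rw [hperf, top_inf_eq] at h1
    rw [h1, focalSubgroup_le_iff]
    intro q hq g hg
    refine ⟨mul_mem hq (inv_mem hg), ?_⟩
    by_cases hq1 : q = 1
    · simp [hq1]
    have a1 : ∀ s : OnePoint (ZMod p), (g * q * g⁻¹) • s = s → g⁻¹ • s = ∞ ∨ g⁻¹ • s = (0 : ZMod p) := by
      intro s hs
      by_contra hne
      rw [not_or] at hne
      refine hq1 (h.eq_one_of_fix (infty_ne_coe 0) hne.1 hne.2 ?_ (mem_torus.1 hq).1
        (mem_torus.1 hq).2)
      conv_rhs => rw [← hs, ← mul_smul]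
      rw [← mul_smul]; congr 1; group
    have a2 : g ∈ torus p G ∨ w⁻¹ * g ∈ torus p G := by
      have b : g⁻¹ • (∞ : OnePoint (ZMod p)) ≠ g⁻¹ • ((0 : ZMod p) : OnePoint (ZMod p)) :=
        fun e => infty_ne_coe _ (smul_left_cancel _ e)
      rcases a1 _ (mem_torus.1 hg).1 with b1 | b1 <;> rcases a1 _ (mem_torus.1 hg).2 with b2 | b2
      · exact absurd (b1.trans b2.symm) b
      · exact Or.inl (inv_mem_iff.1 (mem_torus.2 ⟨b1, b2⟩))
      · exact Or.inr (by simpa using inv_mem (hsw _ b1 b2))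
      · exact absurd (b1.trans b2.symm) b
    rcases a2 with a2 | a2
    · rw [h.torus_comm a2 hq]; simp
    · have b1 : g * q * g⁻¹ = w * q * w⁻¹ := by
        calc g * q * g⁻¹ = w * ((w⁻¹ * g) * q) * g⁻¹ := by group
          _ = _ := by rw [h.torus_comm a2 hq]; group
      rw [b1]
      calc w * (q * (w * q * w⁻¹)⁻¹) * w⁻¹ = w * q * w⁻¹ * ((w * w) * q⁻¹) * (w * w)⁻¹ := by group
        _ = _ := by rw [h.torus_comm hww (inv_mem hq)]; group
  have hw : w * w = 1 := by
    have a1 : w * w = (w * w)⁻¹ := by rw [← (hK hww).2]; group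
    have a2 : (w * w) ^ 2 = 1 := by rw [sq]; exact mul_eq_one_iff_eq_inv.2 a1
    have a3 : (w * w) ^ e = 1 := by
      have := congrArg Subtype.val (pow_card_eq_one' (x := (⟨_, hww⟩ : torus p G)))
      rwa [h.card_torus hG] at this
    obtain ⟨k, rfl⟩ := ho
    rwa [pow_succ, pow_mul, a2, one_pow, one_mul] at a3
  have h2 : (2 : ZMod p) ≠ 0 := by
    intro h0
    have := (ZMod.natCast_eq_zero_iff 2 p).1 h0
    have := (Nat.prime_dvd_prime_iff_eq hp.out Nat.prime_two).1 this
    omega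
  have hm1 : ¬ IsSquare (-1 : ZMod p) := by
    rw [isSquare_iff he (by simp), ho.neg_one_pow]
    intro h0; exact h2 (by linear_combination -h0)
  have hfix : ∀ t : ZMod p, w • (t : OnePoint (ZMod p)) ≠ t := by
    intro t ht
    obtain ⟨k, hk, -⟩ := h.exists_smul_eq (coe_ne_infty t)
    obtain ⟨a, b, ha, hab⟩ := h.exists_affine (g := k⁻¹ * w * k)
      (by rw [mul_smul, mul_smul, hk, ht, ← hk, inv_smul_smul])
    have a1 : ∀ s : ZMod p, a * (a * s + b) + b = s := fun s => by
      have : (k⁻¹ * w * k) * (k⁻¹ * w * k) = 1 := by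
        calc _ = k⁻¹ * (w * w) * k := by group
          _ = 1 := by rw [hw]; group
      rw [← coe_eq_coe, ← hab, ← hab, ← mul_smul, this, one_smul]
    obtain ⟨y, hy1, hy⟩ := h.exists_transl (-b)
    have a2 : a ^ e = 1 := h.pow_eq_one_of_mul hG (q := y * (k⁻¹ * w * k)) (mem_torus.2
      ⟨by rw [mul_smul, mul_smul, mul_smul, hk, ht, ← hk, inv_smul_smul, hy1],
        by rw [mul_smul, hab, hy]; simp⟩) (by rw [mul_smul, hab, hy]; simp)
    have a3 : a = 1 := by
      have : a * a = 1 := by linear_combination a1 1 - a1 0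
      refine (mul_self_eq_one_iff.1 this).resolve_right fun h0 => hm1 ?_
      rw [isSquare_iff he (by simp), ← h0, a2]
    have a4 : b = 0 := by
      have := a1 0
      rw [a3] at this
      exact (mul_eq_zero.1 (show 2 * b = 0 by linear_combination this)).resolve_left h2
    have a5 : k⁻¹ * w * k = 1 := h.eq_of_infty
      (by rw [mul_smul, mul_smul, hk, ht, ← hk, inv_smul_smul, one_smul])
      (fun t => by rw [hab, a3, a4]; simp)
    have a6 : w = 1 := by
      calc w = k * (k⁻¹ * w * k) * k⁻¹ := by group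
        _ = 1 := by rw [a5]; group
    rw [a6, one_smul] at hw1
    exact infty_ne_coe _ hw1
  obtain ⟨f, hf, hf'⟩ := h.exists_fun he hG hw1 hw2 fun q hq => by
    rw [← (hK hq).2]; group
  have hα : ¬ IsSquare (f 1) := by
    rintro ⟨c, hc⟩
    have hc0 : c ≠ 0 := by rintro rfl; exact (hf 1 one_ne_zero).2 (by simpa using hc)
    have : ∃ r : ZMod p, r ≠ 0 ∧ r ^ 2 * r ^ 2 = f 1 := by
      by_cases hs : IsSquare c
      · obtain ⟨r, rfl⟩ := hs
        exact ⟨r, left_ne_zero_of_mul hc0, by rw [hc]; ring⟩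
      · obtain ⟨r, hr0, hr⟩ := exists_eq_sq_mul he hs hm1
        exact ⟨r, hr0, by rw [hc, hr]; ring⟩
    obtain ⟨r, hr0, hr⟩ := this
    have a1 := hf' r 1 hr0 one_ne_zero
    rw [mul_one, ← hr] at a1
    exact hfix (r ^ 2) (by
      rw [(hf _ (pow_ne_zero 2 hr0)).1, mul_left_cancel₀ (pow_ne_zero 2 hr0) a1])
  obtain ⟨c, hc0, hc⟩ := exists_eq_sq_mul he hα hm1
  have hff : f (f 1) = 1 := by
    rw [← coe_eq_coe, ← (hf _ (hf 1 one_ne_zero).2).1, ← (hf 1 one_ne_zero).1, ← mul_smul, hw,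
      one_smul]
  refine ⟨w, c, hc0, hw1, hw2, fun t ht => ?_⟩
  rw [(hf t ht).1, coe_eq_coe, eq_div_iff ht]
  by_cases hs : IsSquare t
  · obtain ⟨r, rfl⟩ := hs
    have := hf' r 1 (left_ne_zero_of_mul ht) one_ne_zero
    rw [mul_one, sq] at this
    linear_combination this + hc
  · obtain ⟨r, hr0, hr⟩ := exists_eq_sq_mul he hs hα
    have := hf' r _ hr0 (hf 1 one_ne_zero).2
    rw [← hr, hff] at this
    linear_combination f t * hr + f 1 * this + hc

theorem exists_inv_of_even (he : p = 2 * e + 1) (hG : Nat.card G = (p + 1) * p * e)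
    (ho : Even e) : ∃ (w : G) (c : ZMod p), c ≠ 0 ∧
      w • (∞ : OnePoint (ZMod p)) = (0 : ZMod p) ∧ w • ((0 : ZMod p) : OnePoint (ZMod p)) = ∞ ∧
      ∀ t : ZMod p, t ≠ 0 →
        w • (t : OnePoint (ZMod p)) = ((-c ^ 2 / t : ZMod p) : OnePoint (ZMod p)) := by
  have h2 : (2 : ZMod p) ≠ 0 := by
    intro h0
    have := (ZMod.natCast_eq_zero_iff 2 p).1 h0
    have := (Nat.prime_dvd_prime_iff_eq hp.out Nat.prime_two).1 this
    omega
  have hneg : ∀ t : ZMod p, t ≠ 0 → t ≠ -t := fun t ht e =>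
    ht ((mul_eq_zero.1 (show 2 * t = 0 by linear_combination e)).resolve_left h2)
  obtain ⟨u, hu, hu'⟩ := h.exists_torus hG ho.neg_one_pow
  have huniq : ∀ q ∈ torus p G, q * q = 1 → q ≠ 1 → q = u := by
    intro q hq hqq hq1
    obtain ⟨a, -, ha⟩ := h.exists_mul (mem_torus.1 hq).1 (mem_torus.1 hq).2
    have a1 : a * a = 1 := by
      have := ha (a * 1)
      rw [← ha, ← mul_smul, hqq, one_smul, coe_eq_coe] at this
      simpa using this.symm
    rcases mul_self_eq_one_iff.1 a1 with rfl | rfl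
    · exact absurd (h.eq_of_infty (by rw [(mem_torus.1 hq).1, one_smul])
        fun t => by rw [ha]; simp) hq1
    · exact h.eq_of_infty (by rw [(mem_torus.1 hq).1, (mem_torus.1 hu).1])
        fun t => by rw [ha, hu']
  have huu : u * u = 1 := h.eq_of_infty (by rw [mul_smul, (mem_torus.1 hu).1, (mem_torus.1 hu).1,
    one_smul]) fun t => by rw [mul_smul, hu', hu']; simp
  have hu1 : u ≠ 1 := by
    intro e
    have := hu' 1
    rw [e, one_smul, coe_eq_coe] at this
    exact hneg 1 one_ne_zero (by simpa using this)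
  have hv : ∀ t : ZMod p, ∃ v : G, t ≠ 0 → v * v = 1 ∧ v • (t : OnePoint (ZMod p)) = t ∧
      v • ((-t : ZMod p) : OnePoint (ZMod p)) = (-t : ZMod p) ∧
      v • (∞ : OnePoint (ZMod p)) = (0 : ZMod p) ∧
      v • ((0 : ZMod p) : OnePoint (ZMod p)) = ∞ := by
    intro t
    by_cases ht : t = 0
    · exact ⟨1, fun h => absurd ht h⟩
    have hne : (t : OnePoint (ZMod p)) ≠ (-t : ZMod p) := fun e => hneg t ht (coe_eq_coe.1 e)
    obtain ⟨k, hk1, hk2⟩ := h.exists_smul_eq hne
    set v := k * u * k⁻¹ with hv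
    have a0 : v * v = 1 := by
      calc v * v = k * (u * u) * k⁻¹ := by rw [hv]; group
        _ = 1 := by rw [huu]; group
    have a1 : v • (t : OnePoint (ZMod p)) = t := by
      rw [← hk1, hv, mul_smul, inv_smul_smul, mul_smul, (mem_torus.1 hu).1]
    have a2 : v • ((-t : ZMod p) : OnePoint (ZMod p)) = (-t : ZMod p) := by
      rw [← hk2, hv, mul_smul, inv_smul_smul, mul_smul, (mem_torus.1 hu).2]
    have hv1 : v ≠ 1 := fun e => hu1 (by
      calc u = k⁻¹ * v * k := by rw [hv]; group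
        _ = 1 := by rw [e]; group)
    have a3 : k⁻¹ * (u * v * u) * k = u := by
      refine huniq _ (mem_torus.2 ⟨?_, ?_⟩) ?_ ?_
      · simp only [mul_smul]
        rw [hk1, hu', neg_one_mul, a2, hu', neg_one_mul, neg_neg, ← hk1, inv_smul_smul]
      · simp only [mul_smul]
        rw [hk2, hu', neg_one_mul, neg_neg, a1, hu', neg_one_mul, ← hk2, inv_smul_smul]
      · calc _ = k⁻¹ * (u * (v * (u * u) * v) * u) * k := by group
          _ = 1 := by rw [huu, mul_one, a0, mul_one, huu]; group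
      · intro e
        apply hv1
        calc v = u⁻¹ * (k * (k⁻¹ * (u * v * u) * k) * k⁻¹) * u⁻¹ := by group
          _ = (u * u)⁻¹ := by rw [e]; group
          _ = 1 := by rw [huu, inv_one]
    have a4 : u * v = v * u := by
      calc u * v = k * (k⁻¹ * (u * v * u) * k) * k⁻¹ * u * (u * u)⁻¹ := by group
        _ = v * u := by rw [a3, huu]; simp [hv]
    have a5 : v • ((0 : ZMod p) : OnePoint (ZMod p)) = ∞ := by
      by_contra hc
      obtain ⟨s, hs⟩ := ne_infty_iff_exists.1 hc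
      have b1 : u • (s : OnePoint (ZMod p)) = s := by
        rw [hs, ← mul_smul, a4, mul_smul, (mem_torus.1 hu).2]
      rw [hu', coe_eq_coe, neg_one_mul] at b1
      have b2 : s = 0 := by_contra fun hs0 => hneg s hs0 b1.symm
      rw [b2] at hs
      exact hv1 (h.eq_one_of_fix hne (fun e => ht (coe_eq_coe.1 e).symm)
        (fun e => ht (neg_eq_zero.1 (coe_eq_coe.1 e).symm)) hs.symm a1 a2)
    exact ⟨v, fun _ => ⟨a0, a1, a2, by rw [← a5, ← mul_smul, a0, one_smul], a5⟩⟩
  choose v hv using hv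
  obtain ⟨hw, hw1, hwm, hw2, hw3⟩ := hv 1 one_ne_zero
  set w := v 1
  have hsw : ∀ g : G, g • (∞ : OnePoint (ZMod p)) = (0 : ZMod p) →
      g • ((0 : ZMod p) : OnePoint (ZMod p)) = ∞ → g * w ∈ torus p G := fun g a b =>
    mem_torus.2 ⟨by rw [mul_smul, hw2, b], by rw [mul_smul, hw3, a]⟩
  have hinv : ∀ q ∈ torus p G, w * q = q⁻¹ * w := by
    classical
    have := Fintype.ofFinite G
    let T := Finset.univ.filter fun q : G => q ∈ torus p G ∧ (q * w) * (q * w) = 1
    let U := Finset.univ.filter fun q : G => q ∈ torus p G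
    have hU : U.card = e := by
      rw [← h.card_torus hG, Nat.card_eq_fintype_card, Fintype.card_subtype]
    have hT : (Finset.univ.filter fun t : ZMod p => t ≠ 0).card ≤ 2 * T.card := by
      refine Finset.card_le_mul_card_image_of_maps_to (f := fun t => v t * w) ?_ _ ?_
      · intro t ht
        obtain ⟨b1, -, -, b2, b3⟩ := hv t (Finset.mem_filter.1 ht).2
        exact Finset.mem_filter.2 ⟨Finset.mem_univ _, hsw _ b2 b3, by
          rw [mul_assoc (v t) w w, hw, mul_one, b1]⟩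
      · intro q _
        rcases ((Finset.univ.filter fun t : ZMod p => t ≠ 0).filter
          fun t => v t * w = q).eq_empty_or_nonempty with h0 | ⟨t, ht⟩
        · rw [h0]; simp
        obtain ⟨ht0, ht⟩ := Finset.mem_filter.1 ht
        replace ht0 := (Finset.mem_filter.1 ht0).2
        refine le_trans (Finset.card_le_card (t := {t, -t}) fun s hs => ?_) Finset.card_le_two
        obtain ⟨hs0, hs⟩ := Finset.mem_filter.1 hs
        replace hs0 := (Finset.mem_filter.1 hs0).2
        have e : v s = v t := mul_right_cancel (hs.trans ht.symm)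
        by_contra hc
        simp only [Finset.mem_insert, Finset.mem_singleton, not_or] at hc
        obtain ⟨-, b1, b2, b3, -⟩ := hv t ht0
        have := h.eq_one_of_fix (fun e => hneg t ht0 (coe_eq_coe.1 e))
          (fun e => hc.1 (coe_eq_coe.1 e)) (fun e => hc.2 (coe_eq_coe.1 e))
          (e ▸ (hv s hs0).2.1) b1 b2
        rw [this, one_smul] at b3
        exact infty_ne_coe _ b3
    rw [Finset.filter_ne' Finset.univ (0 : ZMod p), Finset.card_erase_of_mem (Finset.mem_univ _),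
      Finset.card_univ, ZMod.card] at hT
    have hTU : T = U := Finset.eq_of_subset_of_card_le
      (fun q hq => Finset.mem_filter.2 ⟨Finset.mem_univ _, (Finset.mem_filter.1 hq).2.1⟩)
      (by omega)
    intro q hq
    have : q ∈ T := hTU ▸ Finset.mem_filter.2 ⟨Finset.mem_univ _, hq⟩
    have := (Finset.mem_filter.1 this).2.2
    calc w * q = q⁻¹ * (q * w * (q * w)) * w * (w * w)⁻¹ := by group
      _ = q⁻¹ * w := by rw [this, hw]; group
  obtain ⟨f, hf, hf'⟩ := h.exists_fun he hG hw2 hw3 hinv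
  have hf1 : f 1 = 1 := coe_eq_coe.1 ((hf 1 one_ne_zero).1.symm.trans hw1)
  obtain ⟨τ, hτ, σ, hσ0, hσ⟩ : ∃ τ : ZMod p, ¬ IsSquare τ ∧ ∃ σ, σ ≠ 0 ∧ τ = σ ^ 2 + 1 := by
    by_contra hc
    simp only [not_exists, not_and] at hc
    have key : ∀ n : ℕ, n < p → IsSquare (n : ZMod p) := by
      intro n
      induction n with
      | zero => simp
      | succ n ih =>
        intro hn
        rcases Nat.eq_zero_or_pos n with rfl | hn0
        · simp
        obtain ⟨σ, hσ⟩ := ih (by omega)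
        by_contra hs
        refine hc _ hs σ ?_ (by push_cast; rw [hσ, sq])
        rintro rfl
        exact absurd (Nat.le_of_dvd hn0 ((ZMod.natCast_eq_zero_iff n p).1 (by simpa using hσ)))
          (by omega)
    obtain ⟨a, ha⟩ := FiniteField.exists_nonsquare (F := ZMod p) (by
      rw [ZMod.ringChar_zmod_n]; omega)
    exact ha (by simpa using key a.val (ZMod.val_lt a))
  have hτ0 : τ ≠ 0 := by rintro rfl; exact hτ IsSquare.zero
  have hfτ : f τ * τ = 1 := by
    have hx : ∀ t : ZMod p, x⁻¹ • (t : OnePoint (ZMod p)) = (t - 1 : ZMod p) := fun t => by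
      rw [inv_smul_eq_iff, h.coe, sub_add_cancel]
    have hx' : x⁻¹ • (∞ : OnePoint (ZMod p)) = ∞ := by rw [inv_smul_eq_iff, h.infty]
    have a1 := hsw (x⁻¹ * w * x * w * x⁻¹)
      (by simp only [mul_smul]; rw [hx', hw2, h.coe, zero_add, hw1, hx, sub_self])
      (by simp only [mul_smul]; rw [hx, zero_sub, hwm, h.coe, neg_add_cancel, hw3, hx'])
    obtain ⟨a, -, ha⟩ := h.exists_mul (mem_torus.1 a1).1 (mem_torus.1 a1).2
    have a2 := ha 1
    simp only [mul_smul] at a2
    rw [hw1, hx, sub_self, hw3, h.infty, hw2, hx, coe_eq_coe] at a2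
    have a3 := ha (f τ)
    have a4 : σ ^ 2 * f (σ ^ 2) = 1 := by simpa [hf1] using hf' σ 1 hσ0 one_ne_zero
    have a5 : f (σ ^ 2) + 1 = σ⁻¹ ^ 2 * τ := by
      rw [hσ]; field_simp; linear_combination a4
    rw [mul_smul, ← (hf τ hτ0).1, ← mul_smul w, hw, one_smul] at a3
    simp only [mul_smul] at a3
    rw [hx, show τ - 1 = σ ^ 2 by rw [hσ]; ring, (hf _ (pow_ne_zero 2 hσ0)).1, h.coe, a5,
      (hf _ (mul_ne_zero (pow_ne_zero 2 (inv_ne_zero hσ0)) hτ0)).1, hx, coe_eq_coe] at a3
    have a6 := hf' σ⁻¹ τ (inv_ne_zero hσ0) hτ0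
    have a7 : f (σ⁻¹ ^ 2 * τ) = σ ^ 2 * f τ := by rw [← a6]; field_simp
    rw [a7] at a3
    linear_combination a3 + f τ * hσ - f τ * a2
  obtain ⟨c, hc⟩ := (isSquare_iff he (a := -1) (by simp)).2 ho.neg_one_pow
  refine ⟨w, c, by rintro rfl; simp at hc, hw2, hw3, fun t ht => ?_⟩
  rw [(hf t ht).1, coe_eq_coe, eq_div_iff ht]
  by_cases hs : IsSquare t
  · obtain ⟨r, rfl⟩ := hs
    have := hf' r 1 (left_ne_zero_of_mul ht) one_ne_zero
    rw [mul_one, sq, hf1] at this
    linear_combination this - hc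
  · obtain ⟨r, hr0, hr⟩ := exists_eq_sq_mul he hs hτ
    have := hf' r _ hr0 hτ0
    rw [← hr] at this
    linear_combination f t * hr + τ * this + hfτ - hc

theorem nonempty_equiv (he : p = 2 * e + 1) (hG : Nat.card G = (p + 1) * p * e)
    (hperf : commutator G = ⊤) :
    Nonempty (G ≃* Matrix.ProjectiveSpecialLinearGroup (Fin 2) (ZMod p)) := by
  obtain ⟨w, c, hc, hw1, hw2, hw3⟩ := (Nat.even_or_odd e).elim (h.exists_inv_of_even he hG)
    (h.exists_inv_of_odd he hG hperf)
  refine nonempty_equiv_psl_of_coord (toPermHom G (OnePoint (ZMod p)))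
    ((injective_iff_map_eq_one _).2 fun g hg => h.faithful g fun t => congrArg (· t) hg)
    (fun g hg => ?_) (fun a b ha => ?_) hc hw1 hw2 hw3
  · obtain ⟨a, b, ha, hab⟩ := h.exists_affine hg
    obtain ⟨y, hy1, hy⟩ := h.exists_transl (-b)
    have a2 : a ^ e = 1 := h.pow_eq_one_of_mul hG (q := y * g) (mem_torus.2
      ⟨by rw [mul_smul, show g • ∞ = ∞ from hg, hy1], by rw [mul_smul, hab, hy]; simp⟩)
      (by rw [mul_smul, hab, hy]; simp)
    obtain ⟨r, rfl⟩ := (isSquare_iff he ha).2 a2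
    exact ⟨r, b, left_ne_zero_of_mul ha, by simpa [sq] using hab⟩
  · obtain ⟨q, hq, hq'⟩ := h.exists_torus hG
      ((isSquare_iff he (pow_ne_zero 2 ha)).1 ⟨a, sq a⟩)
    obtain ⟨y, hy1, hy⟩ := h.exists_transl b
    exact ⟨y * q, by simp [mul_smul, (mem_torus.1 hq).1, hy1], fun t => by
      simp only [toPermHom_apply, toPerm_apply, mul_smul, hq', hy]⟩

end ZassHyp

end Perm

variable {G : Type u} [Group G] [Finite G] {p : ℕ} [hp : Fact p.Prime]

theorem Sylow.eq_of_smul_eq_of_card (P : Sylow p G) (hP : Nat.card P = p) {Q : Sylow p G} {y : G}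
    (hy : y ∈ (P : Subgroup G)) (hy1 : y ≠ 1) (h : y • Q = Q) : Q = P := by
  have h1 : zpowers y = P := by
    have : Fact (Nat.card P).Prime := ⟨hP.symm ▸ hp.out⟩
    have h2 := zpowers_eq_top_of_prime_card (G := (P : Subgroup G)) rfl
      (g := ⟨y, hy⟩) (fun e => hy1 (congrArg Subtype.val e))
    have := congrArg (map (P : Subgroup G).subtype) h2
    rwa [MonoidHom.map_zpowers, ← MonoidHom.range_eq_map, range_subtype] at this
  have h2 : (P : Subgroup G) ≤ normalizer ((Q : Subgroup G) : Set G) := by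
    rw [← h1, zpowers_le]; exact Sylow.smul_eq_iff_mem_normalizer.1 h
  have h3 : (P : Subgroup G) ⊓ normalizer ((Q : Subgroup G) : Set G) =
      (P : Subgroup G) ⊓ Q :=
    P.isPGroup'.inf_normalizer_sylow Q
  rw [inf_of_le_left h2] at h3
  exact Sylow.ext (P.is_maximal' Q.isPGroup' (h3 ▸ inf_le_right))

/-- Recognition of `PSL(2, p)` from the action on `p + 1` Sylow subgroups of order `p`. -/
theorem nonempty_quotient_equiv_psl (P : Sylow p G) (hP : Nat.card P = p) {e : ℕ}
    (he : p = 2 * e + 1) (hD : Nat.card (Sylow p G) = p + 1) (K : Subgroup G) [K.Normal]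
    (hK : ∀ g, g ∈ K ↔ ∀ Q : Sylow p G, g • Q = Q) (hG : K.index = (p + 1) * p * e)
    (hperf : commutator G ⊔ K = ⊤) :
    Nonempty (G ⧸ K ≃* Matrix.ProjectiveSpecialLinearGroup (Fin 2) (ZMod p)) := by
  classical
  have : Fact (Nat.card P).Prime := ⟨hP.symm ▸ hp.out⟩
  obtain ⟨x, hx⟩ := (isCyclic_of_prime_card (α := (P : Subgroup G)) rfl).exists_generator
  have hxo : orderOf (x : G) = p := by
    rw [orderOf_coe, orderOf_eq_card_of_forall_mem_zpowers hx, hP]
  have : Nontrivial (Sylow p G) := Finite.one_lt_card_iff_nontrivial.1 (by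
    have := hp.out.pos; omega)
  obtain ⟨Q, hQ⟩ := exists_ne P
  let f : OnePoint (ZMod p) → Sylow p G := fun t => t.elim P fun k => (x : G) ^ k.val • Q
  have hf1 : ∀ k : ℕ, (x : G) ^ k • P = P := fun k =>
    Sylow.smul_eq_iff_mem_normalizer.2 (le_normalizer (pow_mem x.2 k))
  have hf : Function.Injective f := by
    have a1 : ∀ k : ℕ, (x : G) ^ k • Q ≠ P := fun k e =>
      hQ (smul_left_cancel _ (e.trans (hf1 k).symm))
    intro s t hst
    cases s with
    | infty =>
      cases t with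
      | infty => rfl
      | coe t => exact absurd hst.symm (a1 _)
    | coe s =>
      cases t with
      | infty => exact absurd hst (a1 _)
      | coe t =>
        have a2 : (x : G) ^ s.val • Q = (x : G) ^ t.val • Q := hst
        have a3 : ((x : G) ^ t.val)⁻¹ * (x : G) ^ s.val = 1 := by
          by_contra hne
          exact hQ (Sylow.eq_of_smul_eq_of_card P hP
            (mul_mem (inv_mem (pow_mem x.2 _)) (pow_mem x.2 _)) hne
            (by rw [mul_smul, a2, inv_smul_smul]))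
        have a4 := pow_inj_mod.1 (inv_mul_eq_one.1 a3)
        rw [hxo, Nat.mod_eq_of_lt (ZMod.val_lt _), Nat.mod_eq_of_lt (ZMod.val_lt _)] at a4
        rw [ZMod.val_injective p a4]
  have hbij : Function.Bijective f := by
    refine (Nat.bijective_iff_injective_and_card f).2 ⟨hf, ?_⟩
    rw [hD, show Nat.card (OnePoint (ZMod p)) = Nat.card (Option (ZMod p)) from
      Nat.card_congr (Equiv.refl _), Finite.card_option, Nat.card_zmod]
  let κ := Equiv.ofBijective f hbij
  have hle : K ≤ (toPermHom G (Sylow p G)).ker := fun g hg => Equiv.ext fun Q => (hK g).1 hg Q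
  letI : MulAction (G ⧸ K) (Sylow p G) :=
    MulAction.compHom _ (QuotientGroup.lift K (toPermHom G (Sylow p G)) hle)
  letI : MulAction (G ⧸ K) (OnePoint (ZMod p)) := κ.mulAction (G ⧸ K)
  have hs : ∀ (g : G) (s t : OnePoint (ZMod p)), (g : G ⧸ K) • s = t ↔ g • f s = f t := by
    intro g s t
    rw [Equiv.smul_def, Equiv.symm_apply_eq]; rfl
  refine ZassHyp.nonempty_equiv (x := ((x : G) : G ⧸ K)) ⟨?_, ?_, ?_, ?_, ?_⟩ he hG ?_
  · intro g hg
    obtain ⟨g, rfl⟩ := QuotientGroup.mk_surjective g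
    rw [QuotientGroup.eq_one_iff, hK]
    intro R
    obtain ⟨t, rfl⟩ := hbij.2 R
    exact (hs g t t).1 (hg t)
  · rw [hs]; exact (pow_one (x : G)) ▸ hf1 1
  · intro t
    rw [hs]
    change (x : G) • (x : G) ^ t.val • Q = (x : G) ^ (t + 1).val • Q
    have := pow_mod_orderOf (x : G) (t.val + 1)
    rw [hxo] at this
    rw [← mul_smul, ← pow_succ', ZMod.val_add, ZMod.val_one, this]
  · intro g hg
    obtain ⟨g, rfl⟩ := QuotientGroup.mk_surjective g
    have a1 : g • P = P := (hs g _ _).1 hg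
    have a2 := (mem_normalizer_iff.1 (Sylow.smul_eq_iff_mem_normalizer.1 a1) x).1 x.2
    obtain ⟨k, hk⟩ := mem_powers_iff_mem_zpowers.2 (hx ⟨_, a2⟩)
    exact ⟨k, by
      have := congrArg (fun y : P => ((y : G) : G ⧸ K)) hk
      simpa using this.symm⟩
  · obtain ⟨g, hg⟩ := exists_smul_eq G P Q
    exact ⟨g, fun e => hQ (hg.symm.trans ((hs g _ _).1 e))⟩
  · have := congrArg (map (QuotientGroup.mk' K)) hperf
    rwa [Subgroup.map_sup, QuotientGroup.map_mk'_self, sup_bot_eq, _root_.commutator_def,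
      map_commutator,
      map_top_of_surjective _ (QuotientGroup.mk'_surjective K)] at this

end Cfsg
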