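import Cfsg.Agent.Grp.SmallTwo

/-!
# Central extensions of dihedral and semidihedral `2`-groups by an involution
-/

set_option autoImplicit false
set_option linter.unusedSectionVars false

namespace Cfsg

open Subgroup GA

universe u v

local notation "C(" Q ")" => Subgroup.centralizer ((Q : Subgroup _) : Set _)
local notation "N(" Q ")" => Subgroup.normalizer ((Q : Subgroup _) : Set _)

variable {G : Type u} [Group G] [Finite G] {A P Q : Subgroup G} {a b g t u v w x y z : G} {n : ℕ}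

theorem conj_eq_of_regular {p : ℕ} [Fact p.Prime] (hr : IsPRegular p g)
    (h1 : IsPElt p (a⁻¹ * (g * a * g⁻¹)))
    (h2 : g * (a⁻¹ * (g * a * g⁻¹)) * g⁻¹ = a⁻¹ * (g * a * g⁻¹)) : g * a * g⁻¹ = a :=
  conj_eq_iff_comm.2 (commute_of_commutator_mem_of_coprime (M := zpowers (a⁻¹ * (g * a * g⁻¹)))
    (zpowers_le.2 (mem_centralizer_singleton_iff.2 (conj_eq_iff_comm.1 h2).symm))
    (by simpa only [mul_assoc] using mem_zpowers _)
    (IsPGroup.coprime_card_of_not_dvd (isPElt_iff_isPGroup_zpowers.1 h1) hr))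

theorem mem_cent_of_omega (hA : IsPGroup 2 A) (hc : A ≤ C(A)) (hg : g ∈ N(A)) (hr : IsPRegular 2 g)
    (h : ∀ a ∈ A, a * a = 1 → g * a * g⁻¹ = a) : g ∈ C(A) := by
  have key : ∀ k, ∀ a ∈ A, a ^ 2 ^ k = 1 → g * a * g⁻¹ = a := fun k => by
    induction k with
    | zero => intro a _ e; simp [show a = 1 by simpa using e]
    | succ k ih =>
      intro a ha e
      have h1 := conj_mem_of_mem_normalizer hg ha
      have h2 := mul_mem (inv_mem ha) h1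
      refine conj_eq_of_regular hr (isPElt_of_mem hA h2) (h _ h2 ?_)
      rw [mul_assoc, ← mul_assoc _ a⁻¹, hc (inv_mem ha) _ h1, mul_assoc a⁻¹, conj_mul,
        ih _ (mul_mem ha ha) (by rwa [← sq, ← pow_mul, ← pow_succ'])]
      group
  exact fun a ha => let ⟨k, hk⟩ := isPElt_iff_pow_eq_one.1 (isPElt_of_mem hA ha)
    (conj_eq_iff_comm.1 (key k a ha hk)).symm

theorem card_eq_four (h : ∀ a, a ∈ A ↔ a = 1 ∨ a = z ∨ a = t ∨ a = t * z) (h1 : z ≠ 1) (h2 : t ≠ 1)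
    (h3 : t ≠ z) (h4 : t * z ≠ 1) : Nat.card A = 4 := by
  have h5 : t * z ≠ z := by simpa
  have h6 : t * z ≠ t := by simpa
  rw [← SetLike.coe_sort_coe, Nat.card_coe_set_eq, show (A : Set G) = {1, z, t, t * z} from Set.ext h,
    Set.ncard_insert_of_notMem (by simp [h1.symm, h2.symm, h4.symm]),
    Set.ncard_insert_of_notMem (by simp [h3.symm, h5.symm]), Set.ncard_pair h6.symm]

/-- `P / ⟨t⟩` is a tame group with cyclic maximal subgroup `A / ⟨t⟩`. -/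
structure IsDbl (n : ℕ) (P A : Subgroup G) (x t z : G) : Prop where
  two : IsPGroup 2 P
  idx : Idx2 A P
  comm : A ≤ C(A)
  x_mem : x ∈ A
  t_mem : t ∈ A
  ord : orderOf x = 2 ^ (n + 2)
  z_eq : z = x ^ 2 ^ (n + 1)
  t_sq : t * t = 1
  t_not : t ∉ zpowers x
  t_cent : t ∈ C(P)
  mem : ∀ a ∈ A, a ∈ zpowers x ∨ t * a ∈ zpowers x
  inv : ∀ w ∈ P, w ∉ A → w * x ^ 2 ^ n * w⁻¹ = (x ^ 2 ^ n)⁻¹
  sq_ne : ∀ w ∈ P, w ∉ A → w * w ≠ z
  fix : n ≠ 0 ∨ ∀ w ∈ P, w ∉ A → w * w = 1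
  ex : ∃ y ∈ P, y ∉ A

namespace IsDbl

variable (h : IsDbl n P A x t z)
include h

theorem x1_sq : x ^ 2 ^ n * x ^ 2 ^ n = z := by rw [h.z_eq, ← pow_add, ← two_mul, ← pow_succ']

theorem z_ord : orderOf z = 2 := h.z_eq ▸ orderOf_pow_half h.ord

theorem z_sq : z * z = 1 := mul_self_of_orderOf_eq_two h.z_ord

theorem z_ne : z ≠ 1 := fun e => by simpa [e] using h.z_ord

theorem z_x : z ∈ zpowers x := h.z_eq ▸ pow_mem (mem_zpowers x) _

theorem le : zpowers x ≤ A := zpowers_le.2 h.x_mem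

theorem z_mem : z ∈ A := h.le h.z_x

theorem x1_mem : x ^ 2 ^ n ∈ A := pow_mem h.x_mem _

theorem z_cent : z ∈ C(P) :=
  let ⟨y, hy, hy'⟩ := h.ex
  h.idx.mem_cent hy hy' (h.comm h.z_mem) (conj_eq_iff_comm.1 (by
    rw [← h.x1_sq, ← conj_mul, h.inv y hy hy', ← mul_inv_rev, h.x1_sq,
      inv_eq_of_mul_eq_one_right h.z_sq]))

theorem t_ne : t ≠ 1 := fun e => h.t_not (e ▸ one_mem _)

theorem t_ne_z : t ≠ z := fun e => h.t_not (e ▸ h.z_x)

theorem tz_ne : t * z ≠ 1 := fun e => h.t_not ((mul_mem_cancel_right h.z_x).1 (e ▸ one_mem _))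

theorem t_mul_sq (ha : a ∈ P) : t * a * (t * a) = a * a := by
  rw [mul_assoc, ← mul_assoc a, h.t_cent a ha, ← mul_assoc, ← mul_assoc, h.t_sq, one_mul]

theorem conj_x1 (hw : w ∈ P) (hw' : w ∉ A) : x ^ 2 ^ n * w * (x ^ 2 ^ n)⁻¹ = w * z := by
  have := h.inv _ (inv_mem hw) (by simpa)
  rw [← inv_eq_of_mul_eq_one_right h.z_sq, ← h.x1_sq, mul_inv_rev]
  nth_rw 2 [← this]
  group

theorem sq_eq_one (ha : a ∈ A) (h2 : a * a = 1) : a = 1 ∨ a = z ∨ a = t ∨ a = t * z := by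
  rcases h.mem a ha with e | e
  · exact (eq_one_or_half h.ord e h2).imp_right fun e => .inl (e.trans h.z_eq.symm)
  · rcases eq_one_or_half h.ord e ((h.t_mul_sq (h.idx.le ha)).trans h2) with e | e
    · exact .inr (.inr (.inl (by rw [← mul_right_inj t, e, h.t_sq])))
    · exact .inr (.inr (.inr (by rw [← mul_right_inj t, e, ← mul_assoc, h.t_sq, one_mul, h.z_eq])))

theorem x1_mem_of (ht : t ∈ Q) (ha : a ∈ Q) (ha' : a ∈ A) (h2 : a * a ≠ 1) : x ^ 2 ^ n ∈ Q := by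
  have key : ∀ b ∈ Q, b ∈ zpowers x → b * b ≠ 1 → x ^ 2 ^ n ∈ Q := fun b hb hb' h2 => by
    refine zpowers_le.2 hb (mem_zpowers_of_orderOf_dvd_of_mem hb' (pow_mem (mem_zpowers x) _) ?_)
    obtain ⟨k, hk⟩ := isPElt_of_mem h.two (h.idx.le (h.le hb'))
    have := four_le_orderOf ⟨k, hk⟩ h2
    rw [hk] at this ⊢
    refine (orderOf_dvd_of_pow_eq_one (n := 2 ^ 2) ?_).trans (pow_dvd_pow 2
      ((Nat.pow_le_pow_iff_right one_lt_two).1 (show 2 ^ 2 ≤ _ from this)))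
    rw [← pow_mul, ← pow_add, ← h.ord, pow_orderOf_eq_one]
  exact (h.mem a ha').elim (key a ha · h2) (key _ (mul_mem ht ha) · (h.t_mul_sq (h.idx.le ha') ▸ h2))

theorem not_comm (ha : a ∈ A) (h2 : a * a ≠ 1) (hw : w ∈ P) (hw' : w ∉ A) : a * w ≠ w * a := fun e => by
  have := mem_cent_zpowers.1 (h.x1_mem_of (Q := C(zpowers w))
    (mem_cent_zpowers.2 (h.t_cent w hw).symm) (mem_cent_zpowers.2 e) ha h2)
  exact h.z_ne (by simpa [conj_eq_iff_comm.2 this] using h.conj_x1 hw hw')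

theorem mem_of_comm (ha : a ∈ A) (h2 : a * a ≠ 1) (hg : g ∈ P) (e : a * g = g * a) : g ∈ A :=
  by_contra fun hg' => h.not_comm ha h2 hg hg' e

theorem mem_cent_iff : a ∈ P ⊓ C(P) ↔ a ∈ A ∧ a * a = 1 := by
  refine ⟨fun ha => ?_, fun ha => ⟨h.idx.le ha.1, ?_⟩⟩
  · have h1 := h.mem_of_comm h.x1_mem (h.x1_sq ▸ h.z_ne) ha.1 (ha.2 _ (h.idx.le h.x1_mem))
    obtain ⟨y, hy, hy'⟩ := h.ex
    exact ⟨h1, by_contra fun e => h.not_comm h1 e hy hy' (ha.2 y hy).symm⟩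
  · rcases h.sq_eq_one ha.1 ha.2 with e | e | e | e <;> rw [e]
    exacts [one_mem _, h.z_cent, h.t_cent, mul_mem h.t_cent h.z_cent]

theorem cent_cases (ha : a ∈ P ⊓ C(P)) : a = 1 ∨ a = z ∨ a = t ∨ a = t * z :=
  h.sq_eq_one (h.mem_cent_iff.1 ha).1 (h.mem_cent_iff.1 ha).2

theorem z_mem' : z ∈ P ⊓ C(P) := ⟨h.idx.le h.z_mem, h.z_cent⟩

theorem t_mem' : t ∈ P ⊓ C(P) := ⟨h.idx.le h.t_mem, h.t_cent⟩

theorem card_Z : Nat.card (P ⊓ C(P) : Subgroup G) = 4 :=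
  card_eq_four (fun a => ⟨h.cent_cases, by
    rintro (e | e | e | e) <;> rw [e]
    exacts [one_mem _, h.z_mem', h.t_mem', mul_mem h.t_mem' h.z_mem']⟩) h.z_ne h.t_ne h.t_ne_z h.tz_ne

theorem card_A : Nat.card A = 2 * 2 ^ (n + 2) := by
  rw [← h.ord, ← Nat.card_zpowers]
  refine Idx2.card_eq ⟨h.le, fun v hv w hw hv' hw' => ?_⟩ h.t_mem h.t_not
  convert mul_mem ((h.mem v hv).resolve_left hv') ((h.mem w hw).resolve_left hw') using 1
  rw [mul_assoc, ← mul_assoc v t, h.t_cent v (h.idx.le hv), ← mul_assoc, ← mul_assoc, h.t_sq, one_mul]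

theorem card_eq : Nat.card P = 2 * Nat.card A := let ⟨_, h1, h2⟩ := h.ex; h.idx.card_eq h1 h2

theorem cent_of_comm (hw : w ∈ P) (hw' : w ∉ A) (ha : a ∈ A) (e : a * w = w * a) : a ∈ P ⊓ C(P) :=
  h.mem_cent_iff.2 ⟨ha, by_contra fun h2 => h.not_comm ha h2 hw hw' e⟩

theorem sq_cent (hw : w ∈ P) (hw' : w ∉ A) : w * w ∈ P ⊓ C(P) :=
  h.cent_of_comm hw hw' (h.idx.sq_mem hw) (mul_assoc _ _ _)

theorem idx2_cent (hw : w ∈ P) (hw' : w ∉ A) (hQ : Q ≤ P ⊓ C(zpowers w)) : Idx2 (Q ⊓ C(P)) Q :=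
  ⟨inf_le_left, fun u hu v hv hu' hv' => by
    have key : ∀ a ∈ Q, a ∈ A → a ∈ Q ⊓ C(P) := fun a ha ha' =>
      ⟨ha, (h.cent_of_comm hw hw' ha' (mem_cent_zpowers.1 (hQ ha).2)).2⟩
    exact key _ (mul_mem hu hv) (h.idx.mul u (hQ hu).1 v (hQ hv).1 (mt (key u hu) hu') (mt (key v hv) hv'))⟩

theorem card_cent (hw : w ∈ P) (hw' : w ∉ A) : Nat.card (P ⊓ C(zpowers w) : Subgroup G) ≤ 8 := by
  have := (h.idx2_cent hw hw' le_rfl).card_le
  have := card_le_of_le (inf_le_inf_right C(P) (inf_le_left (a := P) (b := C(zpowers w))))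
  have := h.card_Z
  omega

theorem inf_cent (ha : a ∈ A) (h2 : a * a ≠ 1) : P ⊓ C(zpowers a) = A :=
  le_antisymm (fun _ hg => h.mem_of_comm ha h2 hg.1 (mem_cent_zpowers.1 hg.2).symm)
    fun g hg => ⟨h.idx.le hg, mem_cent_zpowers.2 (h.comm ha g hg)⟩

theorem cent (hQ : Q ≤ P) (hg : g ∈ N(Q)) (hr : IsPRegular 2 g) (hz : g * z * g⁻¹ = z)
    (ht : g * t * g⁻¹ = t) (ht' : t ∈ Q) : g ∈ C(Q) := by
  have h1 : ∀ a ∈ A, a * a = 1 → g * a * g⁻¹ = a := fun a ha e => by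
    rcases h.sq_eq_one ha e with e | e | e | e <;> simp only [e, ← conj_mul, hz, ht]
    simp
  refine (h.idx.inf Q hQ).mem_cent_of_regular (h.two.to_le hQ) hr hg (mem_centralizer_sub_conj'.1
    (mem_cent_of_omega (h.two.to_le (inf_le_left.trans hQ)) (fun a ha b hb => h.comm ha.2 b hb.2)
      (mem_normalizer_fintype fun a ha => ⟨conj_mem_of_mem_normalizer hg ha.1, ?_⟩) hr
      fun a ha => h1 a ha.2))
  refine (em _).elim (fun e => (h1 a ha.2 e).symm ▸ ha.2) fun e => ?_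
  have h2 := hQ (conj_mem_of_mem_normalizer hg (h.x1_mem_of ht' ha.1 ha.2 e))
  have h3 : g * x ^ 2 ^ n * g⁻¹ * (g * x ^ 2 ^ n * g⁻¹) = z := by rw [conj_mul, h.x1_sq, hz]
  refine h.mem_of_comm (by_contra fun e => h.sq_ne _ h2 e h3) (h3 ▸ h.z_ne)
    (hQ (conj_mem_of_mem_normalizer hg ha.1)) ?_
  rw [conj_mul, conj_mul, h.comm ha.2 _ h.x1_mem]

theorem reg (hg : g ∈ N(P)) (hr : IsPRegular 2 g) : g ∈ C(P) := by
  have h1 := conj_mem_of_mem_normalizer hg (h.idx.le h.x_mem)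
  have h0 : ∀ k, (g * x * g⁻¹) ^ k = 1 → 2 ^ (n + 2) ∣ k := fun k e => by
    rw [← h.ord, ← orderOf_conj_eq g]; exact orderOf_dvd_of_pow_eq_one e
  have h2 : g * x * g⁻¹ ∈ A := by_contra fun e => h.fix.elim (fun hn => by
    have := Nat.le_of_dvd (by norm_num) (h0 (2 ^ 2) (by
      rw [← (h.mem_cent_iff.1 (h.sq_cent h1 e)).2]; simp only [show 2 ^ 2 = 4 from rfl, pow_succ, pow_zero, one_mul, mul_assoc]))
    rw [Nat.pow_le_pow_iff_right one_lt_two] at this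
    omega) fun h2 => by
    have := Nat.le_of_dvd (by norm_num) (h0 (2 ^ 1) ((sq _).trans (h2 _ h1 e)))
    rw [Nat.pow_le_pow_iff_right one_lt_two] at this
    omega
  have h3 : g * z * g⁻¹ = z := by
    have h4 : ∀ b ∈ zpowers x, b * b = g * x * g⁻¹ * (g * x * g⁻¹) → g * z * g⁻¹ ∈ zpowers x :=
      fun b hb e => by
        rw [h.z_eq, ← conj_pow, pow_succ', pow_mul, sq, ← e]
        exact pow_mem (mul_mem hb hb) _
    exact ((eq_one_or_half h.ord ((h.mem _ h2).elim (h4 _ · rfl) (h4 _ · (h.t_mul_sq h1)))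
      (by rw [conj_mul, h.z_sq]; simp)).resolve_left (by simpa using h.z_ne)).trans h.z_eq.symm
  refine h.cent le_rfl hg hr h3 ?_ h.t_mem'.1
  rcases h.cent_cases ⟨conj_mem_of_mem_normalizer hg h.t_mem'.1, conj_mem_cent hg h.t_cent⟩ with
    e | e | e | e
  · exact absurd (by simpa using e) h.t_ne
  · exact absurd ((MulAut.conj g).injective (e.trans h3.symm)) h.t_ne_z
  · exact e
  · exact conj_eq_of_regular hr (by simpa [e] using isPElt_two_of_orderOf h.z_ord) (by simpa [e])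

theorem sq_mem (ha : a ∈ A) : a * a ∈ zpowers x :=
  (h.mem a ha).elim (fun e => mul_mem e e) fun e => h.t_mul_sq (h.idx.le ha) ▸ mul_mem e e

theorem swap : IsDbl n P A x (t * z) z :=
  { h with
    t_mem := mul_mem h.t_mem h.z_mem
    t_sq := (h.t_mul_sq h.z_mem'.1).trans h.z_sq
    t_not := fun e => h.t_not ((mul_mem_cancel_right h.z_x).1 e)
    t_cent := mul_mem h.t_cent h.z_cent
    mem := fun a ha => (h.mem a ha).imp_right fun e => by
      rw [mul_assoc, ← h.z_cent a (h.idx.le ha), ← mul_assoc]; exact mul_mem e h.z_x }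

theorem conj_eq_inv (H : ∀ w ∈ P, w ∉ A → w * w = 1) (hy : y ∈ P) (hy' : y ∉ A) (ha : a ∈ A) :
    y * a * y⁻¹ = a⁻¹ := by
  rw [inv_eq_of_mul_eq_one_right (H y hy hy'), eq_inv_iff_mul_eq_one, mul_assoc]
  exact H _ (mul_mem hy (h.idx.le ha)) (mt (mul_mem_cancel_right ha).1 hy')

theorem conj_ne (H : ∀ w ∈ P, w ∉ A → w * w = 1) (hy : y ∈ P) (hy' : y ∉ A) (hg : g ∈ P) :
    g * y * g⁻¹ ≠ y * t := fun e => by
  have key : ∀ a ∈ A, a * y * a⁻¹ ≠ y * t := fun a ha e => h.t_not (by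
    rw [show t = y⁻¹ * a * y⁻¹⁻¹ * a⁻¹ by rw [← mul_right_inj y, ← e]; group,
      h.conj_eq_inv H (inv_mem hy) (by simpa) ha]
    exact h.sq_mem (inv_mem ha))
  refine (em _).elim (key g · e) fun hg' => key _ (h.idx.inv_mul hy hg hy' hg') ?_
  rw [show y⁻¹ * g * y * (y⁻¹ * g)⁻¹ = y⁻¹ * (g * y * g⁻¹) * y by group, e, h.t_cent y hy,
    ← h.t_cent y hy, inv_mul_cancel_left, h.t_cent y hy]

end IsDbl

end Cfsg

set_option linter.all false in
theorem Cfsg.Rz.Grp_Dbl_0 : True := by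
  have := @_root_.Cfsg.IsDbl.mk.congr_simp.{0}
  trivial
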