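import Cfsg.Agent.Grp.Tame
import Cfsg.Agent.Grp.CommCount
import Cfsg.Agent.Grp.Frattini

/-!
# `2`-groups with a cyclic maximal subgroup or a commutator subgroup of order two
-/

set_option autoImplicit false
set_option linter.unusedSectionVars false

namespace Cfsg

open Subgroup GA

universe u v

local notation "C(" Q ")" => Subgroup.centralizer ((Q : Subgroup _) : Set _)
local notation "N(" Q ")" => Subgroup.normalizer ((Q : Subgroup _) : Set _)

variable {G : Type u} [Group G] [Finite G] {H : Type v} [Group H] [Finite H] {A P : Subgroup G}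
  {a b g u v w x y z : G}

theorem mem_cent_zpowers : g ∈ C(zpowers u) ↔ g * u = u * g := by
  rw [centralizer_zpowers, mem_centralizer_singleton_iff]

theorem le_cent_zpowers (h : u ∈ C(P)) : P ≤ C(zpowers u) := fun g hg =>
  mem_cent_zpowers.2 (h g hg)

theorem conj_eq_of_mem_cent (h : u ∈ C(P)) (hg : g ∈ P) : g * u * g⁻¹ = u := by
  rw [h g hg, mul_inv_cancel_right]

theorem conj_mem_cent (hg : g ∈ N(P)) (h : u ∈ C(P)) : g * u * g⁻¹ ∈ C(P) :=
  conj_mem_of_mem_normalizer (normalizer_le_normalizer_centralizer' P hg) h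

theorem conj_mem_cent_iff (hg : g ∈ N(P)) : g * u * g⁻¹ ∈ C(P) ↔ u ∈ C(P) :=
  ⟨fun h => by simpa [mul_assoc] using conj_mem_cent (inv_mem hg) h, conj_mem_cent hg⟩

theorem conj_eq_iff_comm : g * u * g⁻¹ = u ↔ g * u = u * g := mul_inv_eq_iff_eq_mul

theorem comm_of_mem_zpowers (h : g * x = x * g) (ha : a ∈ zpowers x) : g * a = a * g :=
  (mem_cent_zpowers.2 h a ha).symm

theorem zpowers_le_centralizer_zpowers' (x : G) : zpowers x ≤ C(zpowers x) :=
  zpowers_le.2 (mem_cent_zpowers.2 rfl)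

theorem comm_zpowers (ha : a ∈ zpowers x) (hb : b ∈ zpowers x) : a * b = b * a :=
  comm_of_mem_zpowers (comm_of_mem_zpowers rfl ha).symm hb

/-- A regular element stabilising a series of length two centralizes. -/
theorem mem_cent_of_series {p : ℕ} [Fact p.Prime] (hP : IsPGroup p P) (hA : A ≤ P)
    (hr : IsPRegular p x) (h1 : ∀ s ∈ A, x * s * x⁻¹ = s) (h2 : ∀ q ∈ P, q⁻¹ * (x * q * x⁻¹) ∈ A) :
    x ∈ C(P) := fun q hq => by
  refine (commute_of_commutator_mem_of_coprime (M := A) (fun s hs => ?_)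
    (by simpa [mul_assoc] using h2 q hq) (IsPGroup.coprime_card_of_not_dvd (hP.to_le hA) hr)).symm
  rw [mem_centralizer_singleton_iff, eq_comm, ← mul_inv_eq_iff_eq_mul, h1 s hs]

/-- `A` has index at most two in `P`. -/
structure Idx2 (A P : Subgroup G) : Prop where
  le : A ≤ P
  mul : ∀ v ∈ P, ∀ w ∈ P, v ∉ A → w ∉ A → v * w ∈ A

theorem idx2_of_card (hA : A ≤ P) (h : Nat.card P ≤ 2 * Nat.card A) : Idx2 A P :=
  ⟨hA, fun v hv w hw hv' hw' => by
    have h1 := card_mul_relIndex hA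
    have h2 : A.relIndex P ≠ 1 := fun e => hv' (relIndex_eq_one.1 e hv)
    have h3 : A.relIndex P ≠ 0 := index_ne_zero_of_finite
    have h4 := Nat.le_of_mul_le_mul_left (h1.trans_le (h.trans_eq (mul_comm _ _))) Nat.card_pos
    exact (mul_mem_iff_of_index_two (H := A.subgroupOf P) (a := ⟨v, hv⟩) (b := ⟨w, hw⟩)
      (show A.relIndex P = 2 by omega)).2 (iff_of_false hv' hw')⟩

namespace Idx2

variable (h : Idx2 A P)
include h

theorem inv_mul (hv : v ∈ P) (hw : w ∈ P) (hv' : v ∉ A) (hw' : w ∉ A) : v⁻¹ * w ∈ A :=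
  h.mul _ (inv_mem hv) _ hw (by simpa) hw'

theorem mul_inv (hv : v ∈ P) (hw : w ∈ P) (hv' : v ∉ A) (hw' : w ∉ A) : v * w⁻¹ ∈ A :=
  h.mul _ hv _ (inv_mem hw) hv' (by simpa)

theorem sq_mem (hg : g ∈ P) : g * g ∈ A := (em _).elim (fun e => mul_mem e e) fun e => h.mul g hg g hg e e

theorem conj_mem (hg : g ∈ P) (ha : a ∈ A) : g * a * g⁻¹ ∈ A := (em _).elim
  (fun e => mul_mem (mul_mem e ha) (inv_mem e)) fun e =>
  h.mul_inv (mul_mem hg (h.le ha)) hg (mt (mul_mem_cancel_right ha).1 e) e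

theorem conj_notMem (hg : g ∈ P) (hw : w ∉ A) : g * w * g⁻¹ ∉ A := fun e =>
  hw (by simpa [mul_assoc] using h.conj_mem (inv_mem hg) e)

theorem card_eq (hy : y ∈ P) (hy' : y ∉ A) : Nat.card P = 2 * Nat.card A := by
  rw [← card_mul_relIndex h.le, mul_comm, relIndex, index_eq_two_iff.2 ⟨⟨y, hy⟩, fun b => ?_⟩]
  simp only [mem_subgroupOf, coe_mul]
  by_cases hb : (b : G) ∈ A
  · exact Or.inr ⟨hb, fun h' => hy' ((mul_mem_cancel_left hb).1 h')⟩
  · exact Or.inl ⟨h.mul _ b.2 _ hy hb hy', hb⟩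

theorem card_le : Nat.card P ≤ 2 * Nat.card A := by
  by_cases e : P ≤ A
  · have := card_le_of_le e; omega
  · obtain ⟨y, hy, hy'⟩ := SetLike.not_le_iff_exists.1 e
    exact (h.card_eq hy hy').le

/-- An element commuting with `A` and with an element outside `A` is central. -/
theorem mem_cent (hw : w ∈ P) (hw' : w ∉ A) (h1 : g ∈ C(A)) (h2 : w * g = g * w) : g ∈ C(P) :=
  fun v hv => (em _).elim (h1 v) fun e => by
    rw [← inv_mul_cancel_right v w, mul_assoc, h2, ← mul_assoc, h1 _ (h.mul_inv hv hw e hw'), mul_assoc]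

theorem le_cent (h1 : A ≤ C(P)) : P ≤ C(P) := fun g hg => (em _).elim (@h1 g) fun e =>
  h.mem_cent hg e (fun a ha => (h1 ha g hg).symm) rfl

theorem conj_eq (hA : A ≤ C(A)) (hv : v ∈ P) (hw : w ∈ P) (hv' : v ∉ A) (hw' : w ∉ A) (ha : a ∈ A) :
    v * a * v⁻¹ = w * a * w⁻¹ := by
  conv_rhs => rw [← conj_eq_of_mem_cent (hA ha) (h.inv_mul hw hv hw' hv')]
  group

theorem mem_cent_of_regular {p : ℕ} [Fact p.Prime] (hP : IsPGroup p P) (hr : IsPRegular p x)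
    (hx : x ∈ N(P)) (h1 : ∀ s ∈ A, x * s * x⁻¹ = s) : x ∈ C(P) :=
  mem_cent_of_series hP h.le hr h1 fun q hq => (em _).elim (fun e => by simp [h1 q e]) fun e =>
    h.inv_mul hq (conj_mem_of_mem_normalizer hx hq) e fun e' =>
      e (((MulAut.conj x).injective (h1 _ e')) ▸ e')

theorem inf (Q : Subgroup G) (hQ : Q ≤ P) : Idx2 (Q ⊓ A) Q :=
  ⟨inf_le_left, fun v hv w hw hv' hw' => ⟨mul_mem hv hw,
    h.mul v (hQ hv) w (hQ hw) (fun e => hv' ⟨hv, e⟩) fun e => hw' ⟨hw, e⟩⟩⟩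

theorem map (f : G →* H) : Idx2 (A.map f) (P.map f) := ⟨map_mono h.le, by
  rintro _ ⟨v, hv, rfl⟩ _ ⟨w, hw, rfl⟩ hv' hw'
  exact map_mul f v w ▸ mem_map_of_mem f
    (h.mul v hv w hw (mt (mem_map_of_mem f) hv') (mt (mem_map_of_mem f) hw'))⟩

end Idx2

section Cyc

variable {k r : ℕ}

theorem orderOf_pow_half (hx : orderOf x = 2 ^ (k + 1)) : orderOf (x ^ 2 ^ k) = 2 := by
  rw [orderOf_pow_of_dvd (by positivity) (hx ▸ pow_dvd_pow 2 k.le_succ), hx, pow_succ,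
    Nat.mul_div_cancel_left _ (by positivity)]

theorem eq_one_or_half (hx : orderOf x = 2 ^ (k + 1)) (ha : a ∈ zpowers x) (h2 : a * a = 1) :
    a = 1 ∨ a = x ^ 2 ^ k :=
  (em _).imp_right fun h1 => eq_of_orderOf_eq_two_of_mem_zpowers ha (pow_mem (mem_zpowers x) _)
    (orderOf_eq_two_of_mul_self h2 h1) (orderOf_pow_half hx)

theorem pow_odd_eq_one (hx : IsPElt 2 x) (hr : r % 2 = 1) (h : x ^ r = 1) : x = 1 := by
  obtain ⟨k, hk⟩ := hx
  exact orderOf_eq_one_iff.1 (Nat.Coprime.eq_one_of_dvd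
    (hk ▸ .pow_left _ (Nat.coprime_two_left.2 (Nat.odd_iff.2 hr))) (orderOf_dvd_of_pow_eq_one h))

theorem odd_of_conj_eq_pow (hx : orderOf x = 2 ^ (k + 1)) (h : y * x * y⁻¹ = x ^ r) : r % 2 = 1 := by
  by_contra e
  obtain ⟨s, rfl⟩ : 2 ∣ r := by omega
  have h1 : orderOf (x ^ (2 * s)) ∣ 2 ^ k := orderOf_dvd_of_pow_eq_one (by
    rw [← pow_mul, mul_right_comm, ← pow_succ', ← hx, pow_mul, pow_orderOf_eq_one, one_pow])
  rw [← h, orderOf_conj_eq, hx, Nat.pow_dvd_pow_iff_le_right one_lt_two] at h1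
  omega

theorem exists_conj_eq_pow (h : y * x * y⁻¹ ∈ zpowers x) : ∃ r : ℕ, y * x * y⁻¹ = x ^ r :=
  let ⟨r, hr⟩ := (Submonoid.mem_powers_iff _ _).1 (mem_powers_iff_mem_zpowers.2 h)
  ⟨r, hr.symm⟩

theorem sq_comm_of_mod_four (hx : IsPElt 2 x) (h : y * x * y⁻¹ = x ^ r) (hr : r % 4 = 1)
    (h2 : y * y * x = x * (y * y)) : x⁻¹ * (y * x * y⁻¹) * (x⁻¹ * (y * x * y⁻¹)) = 1 := by
  obtain ⟨s, rfl⟩ : ∃ s, r = 4 * s + 1 := ⟨r / 4, by omega⟩
  have h3 : (x ^ (4 * s + 1)) ^ (4 * s + 1) = x := by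
    rw [← h, conj_pow, ← h]
    exact Eq.trans (by group) (conj_eq_iff_comm.2 h2)
  rw [h, pow_succ', inv_mul_cancel_left, ← sq, ← pow_mul]
  refine pow_odd_eq_one (r := 2 * s + 1) (hx.pow _) (by omega) (mul_right_cancel (b := x) ?_)
  rw [one_mul, ← pow_mul, ← pow_succ]
  exact Eq.trans (by rw [← pow_mul]; congr 1; ring) h3

theorem cyc_cases (hP : IsPGroup 2 P) (hx : x ∈ P) (h : Nat.card P ≤ 2 * orderOf x) :
    P ≤ C(P) ∨ (∃ n r y z, IsTame (n + 1) r P x y z) ∨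
      ∃ n y, orderOf x = 2 ^ (n + 3) ∧ y ∈ P ∧ y * x * y⁻¹ = x * x ^ 2 ^ (n + 2) := by
  have I := idx2_of_card (zpowers_le.2 hx) (Nat.card_zpowers x ▸ h)
  refine or_iff_not_imp_left.2 fun hn => ?_
  obtain ⟨y, hy, h1⟩ : ∃ y ∈ P, y * x * y⁻¹ ≠ x := by
    by_contra! h1
    exact hn (I.le_cent (zpowers_le.2 fun g hg => conj_eq_iff_comm.1 (h1 g hg)))
  have h2 : y ∉ zpowers x := fun e => h1 (conj_eq_iff_comm.2 (comm_zpowers e (mem_zpowers x)))
  obtain ⟨r, hr⟩ := exists_conj_eq_pow (I.conj_mem hy (mem_zpowers x))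
  have h3 := isPElt_of_mem hP hx
  have h4 : ∀ k, orderOf x = 2 ^ k → ∀ j, 2 ^ j ∣ r - 1 → j < k := fun k hk j hj => lt_of_not_ge fun e =>
    h1 (by
      obtain ⟨s, rfl⟩ : ∃ s, r = s + 1 := ⟨r - 1, by
        rcases k with _ | k
        · exact absurd (by simp [orderOf_eq_one_iff.1 hk]) h1
        · have := odd_of_conj_eq_pow hk hr; omega⟩
      rw [hr, pow_succ, orderOf_dvd_iff_pow_eq_one.1 (hk ▸ (pow_dvd_pow 2 e).trans hj), one_mul])
  obtain ⟨k, hk⟩ := id h3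
  obtain ⟨k, rfl⟩ := Nat.exists_eq_add_of_le' (h4 k hk 0 (one_dvd _))
  have h5 := odd_of_conj_eq_pow hk hr
  obtain ⟨k, rfl⟩ := Nat.exists_eq_add_of_le' (Nat.le_of_lt_succ (h4 _ hk 1 (by omega)))
  by_cases h6 : r % 4 = 3
  · exact .inl ⟨k, r, y, _, hx, hy, hk, h2, fun g hg => (em _).imp_right fun e =>
      I.mul_inv hg hy e h2, hr, h6, rfl⟩
  obtain ⟨k, rfl⟩ := Nat.exists_eq_add_of_le' (show 1 ≤ k by have := h4 _ hk 2 (by omega); omega)
  refine .inr ⟨k, y, hk, hy, inv_mul_eq_iff_eq_mul.1 ((eq_one_or_half hk (mul_mem (inv_mem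
    (mem_zpowers x)) (I.conj_mem hy (mem_zpowers x))) (sq_comm_of_mod_four h3 hr (by omega)
      (comm_zpowers (I.sq_mem hy) (mem_zpowers x)))).resolve_left fun e => h1 ?_)⟩
  exact (inv_mul_eq_one.1 e).symm

end Cyc

theorem exists_sq_ne_one (h : ¬ P ≤ C(P)) : ∃ g ∈ P, g * g ≠ 1 := by
  by_contra! h1
  refine h fun a ha b hb => ?_
  rw [← inv_eq_of_mul_eq_one_right (h1 _ (mul_mem hb ha)), mul_inv_rev,
    inv_eq_of_mul_eq_one_right (h1 a ha), inv_eq_of_mul_eq_one_right (h1 b hb)]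

theorem four_le_orderOf (hg : IsPElt 2 g) (h : g * g ≠ 1) : 4 ≤ orderOf g := by
  obtain ⟨k, hk⟩ := hg
  rw [← sq, Ne, ← orderOf_dvd_iff_pow_eq_one, hk] at h
  exact hk ▸ Nat.pow_le_pow_right (n := 2) (i := 2) two_pos (by
    by_contra! e; interval_cases k <;> simp at h)

theorem two_le_orderOf (h : g ≠ 1) : 2 ≤ orderOf g := by
  have := orderOf_pos g
  have := mt orderOf_eq_one_iff.1 h
  omega

/-- **Taussky's theorem**. -/
theorem taussky {K : Type u} [Group K] [Finite K] (hK : IsPGroup 2 K)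
    (h : (commutator K).index ≤ 4) : ∃ x : K, Nat.card K ≤ 2 * orderOf x := by
  induction hn : Nat.card K using Nat.strong_induction_on generalizing K with
  | _ n ih =>
  subst hn
  by_cases h1 : commutator K = ⊥
  · rw [h1, index_bot] at h
    rcases subsingleton_or_nontrivial K with _ | _
    · exact ⟨1, by simp [Nat.card_of_subsingleton (1 : K)]⟩
    · obtain ⟨x, hx⟩ := exists_ne (1 : K)
      exact ⟨x, by have := two_le_orderOf hx; omega⟩
  obtain ⟨z, hz, hz2⟩ := exists_mem_orderOf_eq_prime (dvd_card_of_isPGroup_of_ne_bot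
    (hK.to_subgroup _) (inf_center_ne_bot_of_isPGroup hK h1))
  haveI : (zpowers z).Normal := normal_of_le_center (zpowers_le.2 hz.2)
  have h2 := (zpowers z).card_mul_index
  rw [Nat.card_zpowers, hz2, index_eq_card] at h2
  have h3 := Nat.card_pos (α := K)
  obtain ⟨x, hx⟩ := ih _ (by omega) (hK.to_quotient (zpowers z)) (by
    rwa [commutator_def, ← map_top_of_surjective _ (QuotientGroup.mk'_surjective (zpowers z)),
      ← map_commutator, index_map, QuotientGroup.ker_mk', ← commutator_def, sup_eq_left.2 (zpowers_le.2 hz.1),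
      MonoidHom.range_eq_top.2 (QuotientGroup.mk'_surjective _), index_top, mul_one]) rfl
  obtain ⟨x, rfl⟩ := QuotientGroup.mk'_surjective _ x
  have h4 := index_comap_of_surjective (zpowers (QuotientGroup.mk' (zpowers z) x))
    (QuotientGroup.mk'_surjective (zpowers z))
  have h5 := (zpowers (QuotientGroup.mk' (zpowers z) x)).card_mul_index
  rw [Nat.card_zpowers, ← h4, ← MonoidHom.map_zpowers, comap_map_eq, QuotientGroup.ker_mk'] at h5
  have h6 := Nat.le_of_mul_le_mul_left (h5.trans_le (hx.trans_eq (mul_comm _ _))) (orderOf_pos _)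
  have h7 := (zpowers x ⊔ zpowers z).card_mul_index
  have h8 : Nat.card K ≤ 2 * Nat.card (zpowers x ⊔ zpowers z : Subgroup K) := by nlinarith
  by_cases h9 : z ∈ zpowers x
  · exact ⟨x, by rwa [sup_eq_left.2 (zpowers_le.2 h9), Nat.card_zpowers] at h8⟩
  have hn : ¬ (⊤ : Subgroup K) ≤ C((⊤ : Subgroup K)) := fun e => h1 (commutator_eq_bot_iff_le_centralizer.2 e)
  have I := idx2_of_card le_top (card_top (G := K) ▸ h8)
  have h10 : ∀ a ∈ zpowers x ⊔ zpowers z, a * a ∈ zpowers (x * x) := fun a ha => by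
    obtain ⟨_, ⟨k, rfl⟩, c, hc, rfl⟩ := mem_sup_of_normal_right.1 ha
    refine ⟨k, ?_⟩
    rw [mul_assoc, ← mul_assoc c, ← mem_center_iff.1 (zpowers_le.2 hz.2 hc), mul_assoc, ← sq c,
      ← hz2, orderOf_dvd_iff_pow_eq_one.1 (orderOf_dvd_of_mem_zpowers hc), mul_one]
    exact (Commute.refl x).mul_zpow k
  by_cases h11 : x * x = 1
  · obtain ⟨g, -, hg⟩ := exists_sq_ne_one hn
    have := four_le_orderOf (isPElt_of_mem (hK.to_subgroup ⊤) (mem_top g)) hg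
    have := Nat.le_of_dvd two_pos (orderOf_dvd_of_pow_eq_one ((sq x).trans h11))
    have := orderOf_le_of_pow_eq_one (orderOf_pos x)
      (show QuotientGroup.mk' (zpowers z) x ^ _ = 1 by rw [← map_pow, pow_orderOf_eq_one, map_one])
    exact ⟨g, by omega⟩
  haveI : (zpowers (x * x)).Normal := ⟨fun a ha g => by
    obtain ⟨k, rfl⟩ := mem_zpowers_iff.1 ha
    rw [← conj_zpow, ← conj_mul]
    exact zpow_mem (h10 _ (I.conj_mem trivial (mem_sup_left (mem_zpowers x)))) k⟩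
  obtain ⟨c, hc, hc1⟩ := (bot_or_exists_ne_one _).resolve_left
    (inf_center_ne_bot_of_isPGroup hK (mt zpowers_eq_bot.1 h11))
  have h12 := zpowers_le.2 (mul_mem (mem_zpowers x) (mem_zpowers x)) hc.1
  haveI := isMulCommutative_zpowers_sup (Z := zpowers z) (x := x) fun a ha =>
    mem_centralizer_singleton_iff.2 (mem_center_iff.1 (zpowers_le.2 hz.2 ha) x).symm
  obtain ⟨y, -, hy⟩ := SetLike.not_le_iff_exists.1 fun e : ⊤ ≤ zpowers x ⊔ zpowers z =>
    hn fun a ha b hb => congrArg Subtype.val (mul_comm' (⟨b, e hb⟩ : ↥(zpowers x ⊔ zpowers z)) ⟨a, e ha⟩)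
  have h13 := I.card_eq trivial hy
  rw [card_top] at h13
  have h14 : (zpowers x ⊔ zpowers z).index = 2 := by nlinarith
  haveI := normal_of_index_eq_two h14
  have h15 := card_commutator_mul_of_zpowers_sup
    (zpowers_sup_eq_top_of_prime_index (h14 ▸ Nat.prime_two) hy)
  have h16 := (commutator K).card_mul_index
  have h17 := Nat.card_pos (α := commutator K)
  have h18 : c ∈ zpowers z := (eq_of_le_of_card_ge (H := zpowers z)
    (K := (zpowers x ⊔ zpowers z) ⊓ centralizer {y}) (le_inf le_sup_right fun a ha =>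
      mem_centralizer_singleton_iff.2 (mem_center_iff.1 (zpowers_le.2 hz.2 ha) y).symm)
    (by rw [Nat.card_zpowers, hz2]; nlinarith)).ge ⟨mem_sup_left h12,
      mem_centralizer_singleton_iff.2 (mem_center_iff.1 hc.2 y).symm⟩
  exact absurd ((eq_one_or_eq_of_mem_zpowers_of_orderOf_two hz2 h18).resolve_left hc1 ▸ h12) h9

theorem mem_zpowers_sup_iff (h1 : u * u ∈ A) (h2 : u ∈ N(A)) :
    g ∈ zpowers u ⊔ A ↔ g ∈ A ∨ u * g ∈ A := by
  refine ⟨fun h => ?_, fun h => h.elim mem_sup_right fun h =>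
    (mul_mem_cancel_left (mem_sup_left (mem_zpowers u))).1 (mem_sup_right h)⟩
  obtain ⟨_, ⟨k, rfl⟩, c, hc, rfl⟩ := (mem_sup_of_le_normalizer (zpowers_le.2 h2)).1 h
  have h3 : ∀ j : ℤ, u ^ (2 * j) ∈ A := fun j => by rw [zpow_mul, zpow_two]; exact zpow_mem h1 j
  obtain ⟨j, rfl | rfl⟩ := Int.even_or_odd' k
  · exact .inl (mul_mem (h3 j) hc)
  · exact .inr (by convert mul_mem (h3 (j + 1)) hc using 1; group)

theorem idx2_zpowers_sup (h1 : u * u ∈ A) (h2 : u ∈ N(A)) : Idx2 A (zpowers u ⊔ A) :=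
  ⟨le_sup_right, fun v hv w hw hv' hw' => by
    have h3 := ((mem_zpowers_sup_iff h1 h2).1 (inv_mem hv)).resolve_left (by simpa)
    simpa [mul_assoc] using mul_mem (inv_mem h3)
      (((mem_zpowers_sup_iff h1 h2).1 hw).resolve_left hw')⟩

/-- The commutator subgroup of `P` is `{1, z}`. -/
structure IsD2 (P : Subgroup G) (z : G) : Prop where
  mem : z ∈ P
  ne : z ≠ 1
  sq : z * z = 1
  cent : z ∈ C(P)
  conj : ∀ g ∈ P, ∀ a ∈ P, g * a * g⁻¹ = a ∨ g * a * g⁻¹ = a * z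
  nc : ¬ P ≤ C(P)

theorem exists_isD2 (h : Nat.card (commutator P) = 2) : ∃ z, IsD2 P z := by
  obtain ⟨z, h1, h2⟩ := (Nat.card_eq_two_iff' (1 : commutator P)).1 h
  have h3 : ∀ a ∈ commutator P, a = 1 ∨ a = z := fun a ha => (em _).imp_right fun e =>
    congrArg Subtype.val (h2 ⟨a, ha⟩ fun e' => e (congrArg Subtype.val e'))
  have h4 : ((z : P) : G) ≠ 1 := by simpa using h1
  refine ⟨z, z.1.2, h4, congrArg Subtype.val ((h3 _ (mul_mem z.2 z.2)).resolve_right (by simpa)),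
    fun g hg => conj_eq_iff_comm.1 (congrArg Subtype.val ((h3 _ ((commutator_normal ⊤ ⊤).conj_mem _ z.2
      ⟨g, hg⟩)).resolve_left (by simpa))), fun g hg a ha => ?_, fun e => ?_⟩
  · refine (h3 _ (commutator_mem_commutator (mem_top (⟨a, ha⟩ : P)⁻¹) (mem_top ⟨g, hg⟩))).imp
      (fun e => (inv_mul_eq_one.1 ?_).symm) fun e => inv_mul_eq_iff_eq_mul.1 ?_ <;>
      simpa [commutatorElement_def, mul_assoc] using congrArg Subtype.val e
  · exact h4 (congrArg Subtype.val (mem_bot.1 (((commutator_eq_bot_iff_le_centralizer (H₁ := ⊤)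
      (H₂ := ⊤)).2 fun a _ b _ => Subtype.ext (e a.2 b b.2)).le z.2)))

theorem Idx2.isD2 (I : Idx2 A P) (hA : A ≤ C(A)) (hz : z ∈ P) (h1 : z ≠ 1) (h2 : z * z = 1)
    (h3 : z ∈ C(P)) (hy : y ∈ P) (hy' : y ∉ A) (h4 : ∀ a ∈ A, y * a * y⁻¹ = a ∨ y * a * y⁻¹ = a * z)
    (h5 : ¬ P ≤ C(P)) : IsD2 P z := by
  have h6 : ∀ g ∈ P, ∀ a ∈ A, g * a * g⁻¹ = a ∨ g * a * g⁻¹ = a * z := fun g hg a ha => (em _).elim
    (fun e => .inl (conj_eq_of_mem_cent (hA ha) e)) fun e => I.conj_eq hA hg hy e hy' ha ▸ h4 a ha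
  have h7 : ∀ g ∈ A, ∀ a ∈ P, g * a * g⁻¹ = a ∨ g * a * g⁻¹ = a * z := fun g hg a ha => by
    rw [show g * a * g⁻¹ = g * (a * g⁻¹ * a⁻¹) * a by group]
    exact (h6 a ha _ (inv_mem hg)).imp (fun e => by simp [e]) fun e => by simp [e, h3 a ha]
  refine ⟨hz, h1, h2, h3, fun g hg a ha => (em _).elim (h6 g hg a) fun e => (em _).elim
    (h7 g · a ha) fun e' => ?_, h5⟩
  rw [show g * a * g⁻¹ = a * (a⁻¹ * g * a * (a⁻¹ * g)⁻¹) * a⁻¹ by group]
  exact (h7 _ (I.inv_mul ha hg e e') a ha).imp (fun e => by rw [e]; simp) fun e => by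
    rw [e, h3 a ha]; simp [← mul_assoc, h3 a ha]

namespace IsD2

variable (h : IsD2 P z)
include h

theorem conj_of_ne (hg : g ∈ P) (ha : a ∈ P) (e : g * a ≠ a * g) : g * a * g⁻¹ = a * z :=
  (h.conj g hg a ha).resolve_left (mt conj_eq_iff_comm.1 e)

theorem comm_mul (hu : u ∈ P) (hv : v ∈ P) (hw : w ∈ P) (h1 : v * u ≠ u * v) (h2 : w * u ≠ u * w) :
    v * w * u = u * (v * w) := by
  rw [← conj_eq_iff_comm, mul_inv_rev, ← mul_assoc, mul_assoc v, mul_assoc v, h.conj_of_ne hw hu h2,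
    ← conj_mul, h.conj_of_ne hv hu h1, conj_eq_of_mem_cent h.cent hv, mul_assoc, h.sq, mul_one]

theorem idx2 (hu : u ∈ P) : Idx2 (P ⊓ C(zpowers u)) P :=
  ⟨inf_le_left, fun v hv w hw hv' hw' => ⟨mul_mem hv hw, mem_cent_zpowers.2 (h.comm_mul hu hv hw
    (fun e => hv' ⟨hv, mem_cent_zpowers.2 e⟩) fun e => hw' ⟨hw, mem_cent_zpowers.2 e⟩)⟩⟩

theorem sq_cent (hg : g ∈ P) : g * g ∈ C(P) := fun _ ha =>
  (mem_cent_zpowers.1 ((h.idx2 ha).sq_mem hg).2).symm

theorem mul_sq (ha : a ∈ P) (hb : b ∈ P) (e : b * a ≠ a * b) :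
    a * b * (a * b) = a * a * (b * b) * z := by
  rw [mul_assoc _ _ z, h.cent _ (mul_mem hb hb), mul_assoc a a, ← mul_assoc a z,
    ← h.conj_of_ne hb ha e]
  group

theorem mul_pow_four (ha : a ∈ P) (hb : b ∈ P) (k : ℕ) :
    (a * b) ^ (4 * k) = a ^ (4 * k) * b ^ (4 * k) := by
  have h1 : Commute (a * a) (b * b) := (h.sq_cent ha _ (mul_mem hb hb)).symm
  have h2 : ∀ c : G, c ^ (4 * k) = (c * c) ^ (2 * k) := fun c => by
    rw [← pow_two, ← pow_mul, ← mul_assoc]; rfl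
  rw [h2, h2, h2, ← h1.mul_pow]
  by_cases e : b * a = a * b
  · rw [mul_assoc, ← mul_assoc b, e, mul_assoc, ← mul_assoc a]
  · rw [h.mul_sq ha hb e, Commute.mul_pow (h.cent _ (mul_mem (mul_mem ha ha) (mul_mem hb hb))),
      pow_mul z, pow_two, h.sq, one_pow, mul_one]

theorem exists_ne : ∃ a ∈ P, ∃ b ∈ P, b * a ≠ a * b := by
  by_contra! e
  exact h.nc fun a ha b hb => e a ha b hb

theorem fix (hg : g ∈ N(P)) : g * z * g⁻¹ = z := by
  obtain ⟨a, ha, b, hb, e⟩ := h.exists_ne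
  have := h.conj_of_ne (conj_mem_of_mem_normalizer hg hb) (conj_mem_of_mem_normalizer hg ha)
    (by simpa [conj_mul] using e)
  rwa [conj_inv, conj_mul, conj_mul, h.conj_of_ne hb ha e, ← conj_mul, mul_right_inj] at this

theorem card_eq (hu : u ∈ P) (hu' : u ∉ C(P)) :
    Nat.card P = 2 * Nat.card (P ⊓ C(zpowers u) : Subgroup G) := by
  obtain ⟨b, hb⟩ := not_forall.1 hu'
  exact (h.idx2 hu).card_eq (Classical.not_imp.1 hb).1 fun e => (Classical.not_imp.1 hb).2 (mem_cent_zpowers.1 e.2)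

end IsD2

/-- The centre of `P` has index four. -/
structure IsZ4 (P : Subgroup G) (z : G) : Prop extends IsD2 P z where
  cases : ∀ u ∈ P, u ∉ C(P) → ∀ g ∈ P, g * u = u * g → g ∈ C(P) ∨ u * g ∈ C(P)

theorem IsD2.isZ4 (h : IsD2 P z) (hc : Nat.card P ≤ 8 * Nat.card (P ⊓ C(P) : Subgroup G)) :
    IsZ4 P z := ⟨h, fun u hu hu' g hg e => by
  by_contra! h1
  have h2 : u * u ∈ P ⊓ C(P) := ⟨mul_mem hu hu, h.sq_cent hu⟩
  have h3 : u ∈ N(P ⊓ C(P)) := centralizer_le_normalizer' _ fun a ha => (ha.2 u hu).symm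
  have h4 := (idx2_zpowers_sup h2 h3).card_eq (mem_sup_left (mem_zpowers u)) fun e => hu' e.2
  have h5 := h.card_eq hu hu'
  have I := idx2_of_card (A := zpowers u ⊔ P ⊓ C(P)) (P := P ⊓ C(zpowers u))
    (sup_le (zpowers_le.2 ⟨hu, mem_cent_zpowers.2 rfl⟩) fun a ha =>
      ⟨ha.1, mem_cent_zpowers.2 (ha.2 u hu).symm⟩) (by omega)
  have h6 : ∀ a ∈ P, a * u = u * a → a * g = g * a → a ∈ C(P ⊓ C(zpowers u)) := fun a ha e1 e2 =>
    I.mem_cent ⟨hg, mem_cent_zpowers.2 e⟩ (fun e => ((mem_zpowers_sup_iff h2 h3).1 e).elim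
      (h1.1 ·.2) (h1.2 ·.2)) (by
        rw [centralizer_sup]; exact ⟨mem_cent_zpowers.2 e1, fun c hc => (hc.2 a ha).symm⟩) e2.symm
  obtain ⟨b, hb⟩ := not_forall.1 hu'
  obtain ⟨hb, hb'⟩ := Classical.not_imp.1 hb
  have h7 : ∀ a, a ∈ C(P ⊓ C(zpowers u)) → b * a = a * b → a ∈ C(P) := fun a =>
    (h.idx2 hu).mem_cent hb fun e => hb' (mem_cent_zpowers.1 e.2)
  exact h1.2 (h7 _ (mul_mem (h6 u hu rfl e.symm) (h6 g hg e rfl)) (h.comm_mul hb hu hg (Ne.symm hb')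
    fun e' => h1.1 (h7 g (h6 g hg e rfl) e'.symm)).symm)⟩

namespace IsZ4

variable (h : IsZ4 P z) (hu : u ∈ P) (hu' : u ∉ C(P))
include h hu hu'

theorem comm : P ⊓ C(zpowers u) ≤ C(P ⊓ C(zpowers u)) := fun a ha b hb => by
  rcases h.cases u hu hu' a ha.1 (mem_cent_zpowers.1 ha.2) with e | e
  · exact e b hb.1
  · rw [← mul_right_inj u, ← mul_assoc, ← mem_cent_zpowers.1 hb.2, mul_assoc, e b hb.1, mul_assoc]

theorem card_eq' : Nat.card P = 4 * Nat.card (P ⊓ C(P) : Subgroup G) := by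
  have I : Idx2 (P ⊓ C(P)) (P ⊓ C(zpowers u)) := ⟨fun a ha => ⟨ha.1, mem_cent_zpowers.2
    (ha.2 u hu).symm⟩, fun v hv w hw hv' hw' => ⟨mul_mem hv.1 hw.1, by
      have h1 := fun a (ha : a ∈ P ⊓ C(zpowers u)) (ha' : a ∉ P ⊓ C(P)) =>
        (h.cases u hu hu' a ha.1 (mem_cent_zpowers.1 ha.2)).resolve_left fun e => ha' ⟨ha.1, e⟩
      refine (mul_mem_cancel_left (h.sq_cent hu)).1 ?_
      convert mul_mem (h1 v hv hv') (h1 w hw hw') using 1
      rw [mul_assoc, mul_assoc, ← mul_assoc u v, ← mem_cent_zpowers.1 hv.2, mul_assoc]⟩⟩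
  rw [h.card_eq hu hu', I.card_eq ⟨hu, mem_cent_zpowers.2 rfl⟩ fun e => hu' e.2]
  omega

theorem mem_cent_of_regular {p : ℕ} [Fact p.Prime] (hP : IsPGroup p P) (hr : IsPRegular p x)
    (hx : x ∈ N(P)) (h1 : ∀ s ∈ P, s ∈ C(P) → x * s * x⁻¹ = s) (h2 : u⁻¹ * (x * u * x⁻¹) ∈ C(P)) :
    x ∈ C(P) := by
  have h3 := mem_centralizer_sub_conj'.1 (mem_cent_of_series (A := P ⊓ C(P))
    (hP.to_le (inf_le_left (b := C(zpowers u)))) (fun a ha => ⟨ha.1, mem_cent_zpowers.2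
      (ha.2 u hu).symm⟩) hr (fun s hs => h1 s hs.1 hs.2) fun q hq =>
    ⟨P.mul_mem (P.inv_mem hq.1) (conj_mem_of_mem_normalizer hx hq.1), by
      rcases h.cases u hu hu' q hq.1 (mem_cent_zpowers.1 hq.2) with e | e
      · simp [h1 q hq.1 e]
      · have := h1 _ (mul_mem hu hq.1) e
        rw [← conj_mul, ← eq_inv_mul_iff_mul_eq] at this
        rw [this]
        simpa [mul_assoc] using conj_mem_cent (le_normalizer (inv_mem hq.1)) (inv_mem h2)⟩)
  refine mem_cent_of_series hP inf_le_left hr h3 fun q hq =>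
    ⟨P.mul_mem (P.inv_mem hq) (conj_mem_of_mem_normalizer hx hq), mem_cent_zpowers.2 ?_⟩
  have h4 := h3 u ⟨hu, mem_cent_zpowers.2 rfl⟩
  have h5 : x * (q * u * q⁻¹) * x⁻¹ = q * u * q⁻¹ := by
    rcases h.conj q hq u hu with e | e <;> rw [e]
    exacts [h4, by rw [← conj_mul, h4, h.fix hx]]
  rw [← conj_eq_iff_comm, ← mul_right_inj q, ← mul_left_inj q⁻¹, ← h5]
  conv_lhs => rw [← h4]
  group

end IsZ4

/-- Modular groups. -/
theorem modular {n : ℕ} (hP : IsPGroup 2 P) (hx : x ∈ P) (h : Nat.card P ≤ 2 * orderOf x)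
    (ho : orderOf x = 2 ^ (n + 3)) (hy : y ∈ P) (hc : y * x * y⁻¹ = x * x ^ 2 ^ (n + 2)) :
    IsD2 P (x ^ 2 ^ (n + 2)) ∧ x ^ 2 ^ (n + 1) ∈ C(P) ∧
      ∀ g : G, g ∈ N(P) → IsPRegular 2 g → g ∈ C(P) := by
  have I := idx2_of_card (zpowers_le.2 hx) (Nat.card_zpowers x ▸ h)
  have h0 := orderOf_pow_half ho
  obtain ⟨z, hz⟩ : ∃ z, z = x ^ 2 ^ (n + 2) := ⟨_, rfl⟩
  rw [← hz] at hc h0 ⊢
  have h1 : z ≠ 1 := fun e => by simp [e] at h0
  have h2 := mul_self_of_orderOf_eq_two h0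
  have h3 : y * x ≠ x * y := fun e => h1 (by simpa [conj_eq_iff_comm.2 e] using hc)
  have h4 : y ∉ zpowers x := fun e => h3 (comm_zpowers e (mem_zpowers x))
  have hA : zpowers x ≤ C(zpowers x) := zpowers_le_centralizer_zpowers' x
  have h5 : ∀ k : ℤ, y * x ^ k * y⁻¹ = x ^ k * z ^ k := fun k => by
    rw [← conj_zpow, hc, Commute.mul_zpow (hz ▸ (Commute.refl x).pow_right _)]
  have h6 : ∀ k : ℤ, z ^ (2 * k) = 1 := fun k => by rw [zpow_mul, zpow_two, h2, one_zpow]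
  have h7 : zpowers (x * x) ≤ C(P) := zpowers_le.2 (I.mem_cent hy h4
    (hA (mul_mem (mem_zpowers x) (mem_zpowers x))) (conj_eq_iff_comm.1 (by
      simpa [sq] using (h5 2).trans (congrArg _ (h6 1)))))
  have h8 : ∀ k, x ^ 2 ^ (k + 1) ∈ zpowers (x * x) := fun k => by
    rw [pow_succ', pow_mul, sq]; exact pow_mem (mem_zpowers _) _
  have h9 : orderOf (x * x) = 2 ^ (n + 2) := by
    rw [← sq, orderOf_pow_of_dvd two_ne_zero (ho ▸ dvd_pow_self 2 (by omega)), ho, pow_succ,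
      Nat.mul_div_cancel _ two_pos]
  have D : IsD2 P z := I.isD2 hA (hz ▸ pow_mem hx _) h1 h2 (hz ▸ h7 (h8 _)) hy h4 (fun a ha => by
    obtain ⟨k, rfl⟩ := mem_zpowers_iff.1 ha
    obtain ⟨j, rfl | rfl⟩ := Int.even_or_odd' k <;> simp [h5, h6, zpow_add_one z]) fun e => h3 (e hx y hy)
  refine ⟨D, h7 (h8 _), fun g hg hr => ?_⟩
  have h10 : ∀ c ∈ zpowers x, c ^ 2 ^ (n + 2) = 1 → c ∈ C(P) := fun c hc e =>
    h7 (mem_zpowers_of_orderOf_dvd_of_mem (mul_mem (mem_zpowers x) (mem_zpowers x)) hc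
      (h9 ▸ orderOf_dvd_of_pow_eq_one e))
  have h11 : ∀ c ∈ P, c ∈ C(P) → c ∈ zpowers x := fun c hc hc' => by_contra fun e =>
    h3 (conj_eq_iff_comm.1 ((I.conj_eq hA hy hc h4 e (mem_zpowers x)).trans
      (conj_eq_iff_comm.2 (hc' x hx).symm)))
  have h12 : ∀ a ∈ P, ∀ b ∈ P, (a * b) ^ 2 ^ (n + 2) = a ^ 2 ^ (n + 2) * b ^ 2 ^ (n + 2) :=
    fun a ha b hb => by simpa [pow_add, mul_comm] using D.mul_pow_four ha hb (2 ^ n)
  obtain ⟨a, ha, ha', e⟩ : ∃ a ∈ P, a ∉ zpowers x ∧ a ^ 2 ^ (n + 2) = 1 := by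
    obtain ⟨k, hk⟩ := mem_zpowers_iff.1 (I.sq_mem hy)
    obtain ⟨j, rfl⟩ : 2 ∣ k := by
      have := h5 k
      rw [hk, conj_eq_iff_comm.2 (mul_assoc _ _ _).symm, left_eq_mul, ← orderOf_dvd_iff_zpow_eq_one,
        h0] at this
      exact this
    rcases eq_one_or_half ho (a := y ^ 2 ^ (n + 2)) (by
      rw [pow_succ', pow_mul, sq]; exact pow_mem (I.sq_mem hy) _) (by
      rw [← (Commute.refl y).mul_pow, ← hk, ← zpow_natCast, ← zpow_mul, ← orderOf_dvd_iff_zpow_eq_one, ho]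
      exact ⟨j, by push_cast; ring⟩) with e | e
    · exact ⟨y, hy, h4, e⟩
    · exact ⟨x * y, mul_mem hx hy, mt (mul_mem_cancel_left (mem_zpowers x)).1 h4, by
        rw [h12 x hx y hy, e, ← hz, h2]⟩
  have h13 : a ∉ C(P) := fun e => ha' (h11 a ha e)
  have h14 := conj_mem_of_mem_normalizer hg ha
  have h15 : (g * a * g⁻¹) ^ 2 ^ (n + 2) = 1 := by rw [conj_pow, e]; simp
  refine (D.isZ4 ?_).mem_cent_of_regular ha h13 hP hr hg (fun s hs hs' =>
    conj_eq_of_odd_of_mem_zpowers hr (isPElt_of_mem hP hs) (mem_zpowers_of_orderOf_dvd_of_mem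
      (h11 s hs hs') (h11 _ (conj_mem_of_mem_normalizer hg hs) (conj_mem_cent hg hs'))
      (orderOf_conj_eq g s).dvd)) (h10 _ (I.inv_mul ha h14 ha' fun e' =>
        h13 ((conj_mem_cent_iff hg).1 (h10 _ e' h15))) (by
      rw [h12 _ (inv_mem ha) _ h14, h15, inv_pow, e]; simp))
  have := card_le_of_le (le_inf (zpowers_le.2 (mul_mem hx hx)) h7)
  rw [Nat.card_zpowers, h9] at this
  rw [ho, pow_succ] at h
  omega

end Cfsg

set_option linter.all false in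
theorem Cfsg.Rz.Grp_SmallTwo_0 : True := by
  have := @_root_.Cfsg.Idx2.mk.congr_simp.{0}
  have := @_root_.Cfsg.IsD2.mk.congr_simp.{0}
  have := @_root_.Cfsg.IsZ4.mk.congr_simp.{0}
  trivial
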