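import Cfsg.Agent.Grp.Misc

/-!
# Groups with a self-centralizing element of prime order
-/

set_option autoImplicit false

namespace Cfsg

open Subgroup

universe u v

variable {G : Type u} [Group G] {p : ℕ}

theorem orderOf_eq_of_isConj' {a b : G} (h : IsConj a b) : orderOf a = orderOf b := by
  obtain ⟨c, rfl⟩ := isConj_iff.mp h
  exact ((MulAut.conj c).orderOf_eq a).symm

/-- `x` has order `p` and commutes only with its powers. -/
structure SelfCent (p : ℕ) (x : G) : Prop where
  order : orderOf x = p
  cent : centralizer {x} = zpowers x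

namespace SelfCent

variable {x : G}

theorem card_zpowers (h : SelfCent p x) : Nat.card (zpowers x) = p := by
  rw [Nat.card_zpowers, h.order]

theorem isPGroup (h : SelfCent p x) : IsPGroup p (zpowers x) :=
  IsPGroup.of_card (h.card_zpowers.trans (pow_one p).symm)

theorem centralizer_eq (h : SelfCent p x) :
    centralizer ((zpowers x : Subgroup G) : Set G) = zpowers x := by
  rw [centralizer_zpowers, h.cent]

theorem subgroup (h : SelfCent p x) {H : Subgroup G} (hx : x ∈ H) : SelfCent p (⟨x, hx⟩ : H) :=
  ⟨by rw [← orderOf_coe, h.order], by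
    rw [centralizer_singleton_subgroupOf, h.cent]
    ext y
    rw [mem_subgroupOf, ← mem_map_iff_mem H.subtype_injective, MonoidHom.map_zpowers]
    rfl⟩

variable [Finite G] [hp : Fact p.Prime]

omit [Finite G] in
theorem ne_one (h : SelfCent p x) : x ≠ 1 := fun e =>
  hp.out.one_lt.ne (by rw [← h.order, e, orderOf_one])

omit [Finite G] in
theorem ne_bot (h : SelfCent p x) : zpowers x ≠ ⊥ := mt zpowers_eq_bot.mp h.ne_one

omit [Finite G] in
theorem prime_card (h : SelfCent p x) : (Nat.card (zpowers x)).Prime := h.card_zpowers ▸ hp.out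

theorem not_dvd_index (h : SelfCent p x) : ¬ p ∣ (zpowers x).index := by
  obtain ⟨P, hP⟩ := h.isPGroup.exists_le_sylow
  have h1 := inf_centralizer_ne_bot_of_isPGroup P.isPGroup' P.isPGroup' le_normalizer
    (ne_bot_of_le_ne_bot h.ne_bot hP)
  have h2 : (P : Subgroup G) ⊓ centralizer ((P : Subgroup G) : Set G) = zpowers x :=
    (eq_bot_or_eq_of_prime_card h.prime_card (inf_le_right.trans
      ((centralizer_le (SetLike.coe_subset_coe.mpr hP)).trans h.centralizer_eq.le))).resolve_left h1
  have h3 : (P : Subgroup G) ≤ zpowers x :=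
    h.centralizer_eq ▸ le_centralizer_iff.mp (h2.ge.trans inf_le_right)
  rw [← le_antisymm h3 hP]
  exact P.not_dvd_index

/-- `⟨x⟩` is a Sylow `p`-subgroup. -/
def sylow (h : SelfCent p x) : Sylow p G := h.isPGroup.toSylow h.not_dvd_index

theorem coe_sylow (h : SelfCent p x) : (h.sylow : Subgroup G) = zpowers x := rfl

theorem le_of_dvd (h : SelfCent p x) {S : Subgroup G} [S.Normal] (hS : p ∣ Nat.card S) :
    zpowers x ≤ S :=
  (le_or_inf_eq_bot_of_prime_card h.prime_card S).resolve_right
    (sylow_inf_ne_bot_of_isSubnormal h.sylow (Normal.isSubnormal inferInstance) hS)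

omit [Finite G] hp in
theorem dvd_of_le (h : SelfCent p x) {S : Subgroup G} (hS : zpowers x ≤ S) : p ∣ Nat.card S :=
  h.card_zpowers ▸ card_dvd_of_le hS

omit [Finite G] hp in
theorem commutator_normalizer_le (h : SelfCent p x) :
    ⁅normalizer ((zpowers x : Subgroup G) : Set G), normalizer ((zpowers x : Subgroup G) : Set G)⁆ ≤
      zpowers x := (commutator_normalizer_le_centralizer _).trans h.centralizer_eq.le

theorem normalizer_sup_eq_top (h : SelfCent p x) {S : Subgroup G} [S.Normal] (hS : zpowers x ≤ S) :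
    normalizer ((zpowers x : Subgroup G) : Set G) ⊔ S = ⊤ :=
  Sylow.normalizer_sup_eq_top' h.sylow hS

theorem commutator_le (h : SelfCent p x) {S : Subgroup G} [S.Normal] (hS : p ∣ Nat.card S) :
    commutator G ≤ S :=
  commutator_le_of_sup_eq_top (h.normalizer_sup_eq_top (h.le_of_dvd hS))
    (h.commutator_normalizer_le.trans (h.le_of_dvd hS))

theorem inf_centralizer_eq_bot (h : SelfCent p x) {S : Subgroup G} (hS : ¬ p ∣ Nat.card S) :
    S ⊓ centralizer ((zpowers x : Subgroup G) : Set G) = ⊥ := by
  rw [h.centralizer_eq, inf_comm, inf_eq_bot_of_isPGroup_of_not_dvd h.isPGroup hS]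

theorem inf_normalizer_eq_bot (h : SelfCent p x) {S : Subgroup G} (hS : ¬ p ∣ Nat.card S)
    (hn : zpowers x ≤ normalizer (S : Set G)) :
    S ⊓ normalizer ((zpowers x : Subgroup G) : Set G) = ⊥ := by
  rw [inf_normalizer_eq_inf_centralizer hn
    (by rw [inf_comm, inf_eq_bot_of_isPGroup_of_not_dvd h.isPGroup hS]), h.inf_centralizer_eq_bot hS]

theorem commutator_eq (h : SelfCent p x) {S : Subgroup G} (hS : ¬ p ∣ Nat.card S)
    (hn : zpowers x ≤ normalizer (S : Set G)) : ⁅S, zpowers x⁆ = S := by
  have := (isCoprimeAction_of_isPGroup_left hn h.isPGroup hS).inf_centralizer_sup_commutator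
  rwa [h.inf_centralizer_eq_bot hS, bot_sup_eq] at this

theorem le_commutator (h : SelfCent p x) {S : Subgroup G} (hS : ¬ p ∣ Nat.card S)
    (hn : zpowers x ≤ normalizer (S : Set G)) : S ≤ commutator G :=
  h.commutator_eq hS hn ▸ commutator_mono le_top le_top

theorem pPrimeCore_le_commutator (h : SelfCent p x) : pPrimeCore p G ≤ commutator G :=
  h.le_commutator (not_dvd_card_pPrimeCore p G) le_normalizer_of_normal

theorem card_modEq_one (h : SelfCent p x) {S : Subgroup G} (hS : ¬ p ∣ Nat.card S)
    (hn : zpowers x ≤ normalizer (S : Set G)) : Nat.card S ≡ 1 [MOD p] := by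
  have := card_modEq_card_inf_centralizer h.isPGroup hn
  rwa [h.inf_centralizer_eq_bot hS, card_bot] at this

theorem quotient (h : SelfCent p x) {S : Subgroup G} [S.Normal] (hS : ¬ p ∣ Nat.card S) :
    SelfCent p (x : G ⧸ S) := by
  constructor
  · have h1 := card_map_mk'_eq_relIndex S (zpowers x)
    rw [MonoidHom.map_zpowers, Nat.card_zpowers, ← inf_relIndex_right, inf_comm,
      inf_eq_bot_of_isPGroup_of_not_dvd h.isPGroup hS, relIndex_bot_left, h.card_zpowers] at h1
    exact h1
  · have h1 := (isCoprimeAction_of_isPGroup_left (N := S) le_normalizer_of_normal h.isPGroup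
      hS).centralizer_map_mk'
    rwa [h.centralizer_eq, MonoidHom.map_zpowers, centralizer_zpowers] at h1

theorem exists_map_conj_eq (h : SelfCent p x) {H : Subgroup G} (hH : Nat.card H = p) :
    ∃ g : G, H.map (MulAut.conj g).toMonoidHom = zpowers x := by
  obtain ⟨g, hg⟩ := exists_map_conj_le_sylow (IsPGroup.of_card (hH.trans (pow_one p).symm)) h.sylow
  exact ⟨g, eq_of_le_of_card_ge hg (by rw [card_map_conj, hH, h.card_zpowers])⟩

theorem card_subgroups (h : SelfCent p x) : Nat.card {H : Subgroup G // Nat.card H = p} =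
    (normalizer ((zpowers x : Subgroup G) : Set G)).index := by
  refine Eq.trans (Nat.card_congr ?_) (Sylow.card_eq_index_normalizer h.sylow)
  refine (Equiv.ofBijective (fun P : Sylow p G => ⟨(P : Subgroup G), (card_sylow_eq P h.sylow).trans
    h.card_zpowers⟩) ⟨fun P Q e => Sylow.ext (congrArg Subtype.val e :), fun ⟨H, hH⟩ => ?_⟩).symm
  obtain ⟨R, hR⟩ := exists_sylow_eq_of_card (IsPGroup.of_card (hH.trans (pow_one p).symm)) h.sylow
    (by rw [hH, coe_sylow, h.card_zpowers])
  exact ⟨R, Subtype.ext hR⟩

theorem of_orderOf (h : SelfCent p x) {y : G} (hy : orderOf y = p) : SelfCent p y := by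
  obtain ⟨g, hg⟩ := h.exists_map_conj_eq (H := zpowers y) (by rw [Nat.card_zpowers, hy])
  refine ⟨hy, (map_conj_inj (g := g)).mp ?_⟩
  rw [← centralizer_zpowers, ← centralizer_map_conj, hg, h.centralizer_eq]

omit [Finite G] hp in
theorem index_zpowers_mul (h : SelfCent p x) : (zpowers x).index * p = Nat.card G := by
  rw [← index_mul_card (zpowers x), h.card_zpowers]

/-- `t · |N_G(P) : P| = p - 1`, `t` the number of classes of elements of order `p`. -/
theorem card_classes_mul (h : SelfCent p x) :
    Nat.card {C : ConjClasses G // ∃ g ∈ C.carrier, orderOf g = p} *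
      (zpowers x).relIndex (normalizer ((zpowers x : Subgroup G) : Set G)) = p - 1 := by
  have h1 := card_orderOf_eq_prime (G := G) (p := p)
  rw [h.card_subgroups, card_eq_card_mul_of_fiber (n := (zpowers x).index)
    (β := {C : ConjClasses G // ∃ g ∈ C.carrier, orderOf g = p})
    (fun g => ⟨ConjClasses.mk g.1, g.1, ConjClasses.mem_carrier_mk, g.2⟩),
    ← relIndex_mul_index le_normalizer, ← mul_assoc, mul_comm] at h1
  · exact Nat.eq_of_mul_eq_mul_left (index_pos _) h1
  · rintro ⟨C, y, hy, hyp⟩
    obtain rfl := ConjClasses.mem_carrier_iff_mk_eq.mp hy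
    have h2 := card_isConj_eq_index_centralizer y
    rw [(h.of_orderOf hyp).cent] at h2
    have h3 : (zpowers y).index = (zpowers x).index :=
      Nat.eq_of_mul_eq_mul_right hp.out.pos
        ((h.of_orderOf hyp).index_zpowers_mul.trans h.index_zpowers_mul.symm)
    rw [← h3, ← h2]
    refine Nat.card_congr
      { toFun := fun a => ⟨a.1.1, (ConjClasses.mk_eq_mk_iff_isConj.mp
          (congrArg Subtype.val a.2)).symm⟩
        invFun := fun a => ⟨⟨a.1, by rw [← orderOf_eq_of_isConj' a.2, hyp]⟩,
          Subtype.ext (ConjClasses.mk_eq_mk_iff_isConj.mpr a.2.symm)⟩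
        left_inv := fun _ => rfl
        right_inv := fun _ => rfl }

theorem card_classes_eq_iff (h : SelfCent p x) :
    Nat.card {C : ConjClasses G // ∃ g ∈ C.carrier, orderOf g = p} = p - 1 ↔
      normalizer ((zpowers x : Subgroup G) : Set G) = zpowers x := by
  have h1 := h.card_classes_mul
  have h2 : 0 < p - 1 := Nat.sub_pos_of_lt hp.out.one_lt
  constructor
  · intro e
    rw [e, mul_eq_left₀ h2.ne', relIndex_eq_one] at h1
    exact le_antisymm h1 le_normalizer
  · intro e
    rwa [e, relIndex_self, mul_one] at h1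

theorem le_commutator_of_ne (h : SelfCent p x)
    (hn : normalizer ((zpowers x : Subgroup G) : Set G) ≠ zpowers x) : zpowers x ≤ commutator G := by
  have h1 : ⁅zpowers x, normalizer ((zpowers x : Subgroup G) : Set G)⁆ = zpowers x :=
    (eq_bot_or_eq_of_prime_card h.prime_card
      (le_normalizer_iff_commutator_le_left.mp le_rfl)).resolve_left fun e => hn (le_antisymm
        ((le_centralizer_iff.mp (commutator_eq_bot_iff_le_centralizer.mp e)).trans
          h.centralizer_eq.le)
        le_normalizer)
  exact h1 ▸ commutator_mono le_top le_top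

theorem hasNormalPComplement (h : SelfCent p x)
    (hn : normalizer ((zpowers x : Subgroup G) : Set G) = zpowers x) : HasNormalPComplement p G :=
  hasNormalPComplement_of_normalizer_le_centralizer h.sylow (hn.trans h.centralizer_eq.symm).le

theorem index_pPrimeCore (h : SelfCent p x)
    (hn : normalizer ((zpowers x : Subgroup G) : Set G) = zpowers x) :
    (pPrimeCore p G).index = p := by
  refine (card_eq_index_of_inf_of_sup ?_ ?_).symm.trans h.card_zpowers
  · rw [inf_comm, inf_eq_bot_of_isPGroup_of_not_dvd h.isPGroup (not_dvd_card_pPrimeCore p G)]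
  · rw [sup_comm]
    exact (hasNormalPComplement_iff_sup_eq_top h.sylow).mp (h.hasNormalPComplement hn)

theorem commutator_eq_pPrimeCore (h : SelfCent p x)
    (hn : normalizer ((zpowers x : Subgroup G) : Set G) = zpowers x) :
    commutator G = pPrimeCore p G :=
  le_antisymm (commutator_le_of_prime_index (by rw [h.index_pPrimeCore hn]; exact hp.out))
    h.pPrimeCore_le_commutator

/-- A normal subgroup of `G'` containing `O_{p'}(G)` is `O_{p'}(G)` or `G'`. -/
theorem eq_or_eq_top (h : SelfCent p x) (hx : x ∈ commutator G) (M : Subgroup (commutator G))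
    [M.Normal] (hM : (pPrimeCore p G).subgroupOf (commutator G) ≤ M) :
    M = (pPrimeCore p G).subgroupOf (commutator G) ∨ M = ⊤ := by
  by_cases hd : p ∣ Nat.card M
  · right
    have h1 : pPrimeResidual p (commutator G) ≤ M := pPrimeResidual_le_iff.mpr
      (not_dvd_index_of_sylow_le (h.subgroup hx).sylow ((h.subgroup hx).le_of_dvd hd))
    have h2 := h.commutator_le (S := (pPrimeResidual p (commutator G)).map (commutator G).subtype)
      (by
        rw [card_map_subtype]
        exact (h.subgroup hx).dvd_of_le (le_pPrimeResidual_of_isPGroup (h.subgroup hx).isPGroup))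
    rw [eq_top_iff, ← map_subtype_le_map_subtype, ← MonoidHom.range_eq_map, range_subtype]
    exact h2.trans (map_mono h1)
  · left
    exact le_antisymm (pPrimeCore_eq_subgroupOf_of_normal (p := p) (commutator G) ▸
      le_pPrimeCore_of_not_dvd hd) hM

theorem isSimpleGroup (h : SelfCent p x) (hx : x ∈ commutator G) :
    IsSimpleGroup (commutator G ⧸ (pPrimeCore p G).subgroupOf (commutator G)) :=
  isSimpleGroup_quotient_iff.mpr ⟨fun e => not_dvd_card_pPrimeCore p G
    (h.dvd_of_le ((zpowers_le.mpr hx).trans (subgroupOf_eq_top.mp e))),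
    fun M _ hM => h.eq_or_eq_top hx M hM⟩

end SelfCent

end Cfsg

set_option linter.all false in
theorem Cfsg.Rz.Grp_SelfCent_0 : True := by
  have := @_root_.Cfsg.SelfCent.mk.congr_simp.{0}
  have := @_root_.Cfsg.SelfCent.sylow.congr_simp.{0}
  have := @_root_.Cfsg.SelfCent.sylow.eq_def.{0}
  have := @_root_.Cfsg.SelfCent.sylow.eq_1.{0}
  have := @_root_.Cfsg.SelfCent.sylow.fun_cases
  trivial
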