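import Cfsg.Agent.Grp.InvolSL2
import Cfsg.Agent.Grp.SelfCent
import Cfsg.Agent.Grp.Zass

/-!
# Involutions acting on self-centralizing Sylow subgroups of prime order
-/

set_option autoImplicit false
set_option linter.unusedSectionVars false

namespace Cfsg

open Subgroup MulAction
open scoped Pointwise MatrixGroups

universe u

variable {G : Type u} [Group G] [Finite G] {p : ℕ} [hp : Fact p.Prime] {x : G}

namespace SelfCent

theorem card_sylow (h : SelfCent p x) (Q : Sylow p G) : Nat.card Q = p := by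
  rw [Q.card_eq_multiplicity, ← h.sylow.card_eq_multiplicity, h.coe_sylow, h.card_zpowers]

theorem zpowers_eq (h : SelfCent p x) {Q : Sylow p G} {y : G} (hy : y ∈ (Q : Subgroup G))
    (h1 : y ≠ 1) : orderOf y = p ∧ zpowers y = Q := by
  have h2 : orderOf y ∣ p := h.card_sylow Q ▸ (Q : Subgroup G).orderOf_dvd_natCard hy
  have h3 : orderOf y = p := ((Nat.dvd_prime hp.out).1 h2).resolve_left
    (by rwa [orderOf_eq_one_iff])
  exact ⟨h3, Subgroup.eq_of_le_of_card_ge (zpowers_le.2 hy)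
    (by rw [h.card_sylow, Nat.card_zpowers, h3])⟩

theorem mem_of_commute (h : SelfCent p x) {Q : Sylow p G} {y : G} (hy : y ∈ (Q : Subgroup G))
    (h1 : y ≠ 1) {g : G} (hg : g * y = y * g) : g ∈ (Q : Subgroup G) := by
  obtain ⟨h2, h3⟩ := h.zpowers_eq hy h1
  rw [← h3, ← (h.of_orderOf h2).cent]
  exact mem_centralizer_singleton_iff.2 hg

theorem exists_mem_ne_one (h : SelfCent p x) (Q : Sylow p G) :
    ∃ y ∈ (Q : Subgroup G), y ≠ 1 := by
  have : (Q : Subgroup G) ≠ ⊥ := fun e => by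
    have := h.card_sylow Q
    rw [e, card_bot] at this
    exact hp.out.one_lt.ne this
  obtain ⟨⟨y, hy⟩, h1⟩ := ne_bot_iff_exists_ne_one.1 this
  exact ⟨y, hy, fun e => h1 (Subtype.ext e)⟩

theorem comm (h : SelfCent p x) {Q : Sylow p G} {a b : G} (ha : a ∈ (Q : Subgroup G))
    (hb : b ∈ (Q : Subgroup G)) : a * b = b * a := by
  have : IsCyclic Q := isCyclic_of_prime_card (h.card_sylow Q)
  exact congrArg Subtype.val (mul_comm' (⟨a, ha⟩ : (Q : Subgroup G)) ⟨b, hb⟩)

theorem eq_one_of_mem (h : SelfCent p x) {Q : Sylow p G} {y : G} (hy : y ∈ (Q : Subgroup G))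
    (hd : ¬ p ∣ orderOf y) : y = 1 := by
  by_contra h1
  exact hd (dvd_of_eq (h.zpowers_eq hy h1).1.symm)

variable (h : SelfCent p x) (hp2 : p ≠ 2)
include h hp2

theorem not_mem_of_invol {Q : Sylow p G} {z : G} (hz : orderOf z = 2) :
    z ∉ (Q : Subgroup G) := fun hm =>
  hp2 ((h.zpowers_eq hm (ne_one_of_orderOf_two hz)).1.symm.trans hz)

theorem inv_of_invol {Q : Sylow p G} {z : G} (hz : orderOf z = 2) (hQ : z • Q = Q) {y : G}
    (hy : y ∈ (Q : Subgroup G)) : z * y * z⁻¹ = y⁻¹ := by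
  have hn := Sylow.smul_eq_iff_mem_normalizer.1 hQ
  have h1 : z * y * z⁻¹ ∈ (Q : Subgroup G) := (mem_normalizer_iff.1 hn y).1 hy
  have hzz := mul_self_of_orderOf hz
  rw [← mul_eq_one_iff_eq_inv']
  by_contra hne
  refine h.not_mem_of_invol hp2 hz (h.mem_of_commute (mul_mem hy h1) hne ?_)
  have hi : z⁻¹ = z := inv_eq_of_mul_eq_one_right hzz
  conv_rhs => rw [h.comm hy h1]
  rw [hi]
  calc z * (y * (z * y * z)) = z * y * z * y * 1 * z := by group
    _ = z * y * z * y * z := by rw [mul_one]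

theorem mul_mem_of_invol {Q : Sylow p G} {z z' : G} (hz : orderOf z = 2) (hQ : z • Q = Q)
    (hz' : orderOf z' = 2) (hQ' : z' • Q = Q) : z * z' ∈ (Q : Subgroup G) := by
  obtain ⟨y, hy, h1⟩ := h.exists_mem_ne_one Q
  refine h.mem_of_commute hy h1 ?_
  calc z * z' * y = z * (z' * y * z'⁻¹) * z⁻¹ * (z * z') := by group
    _ = y * (z * z') := by
      rw [h.inv_of_invol hp2 hz' hQ' hy, h.inv_of_invol hp2 hz hQ (inv_mem hy), inv_inv]

theorem invol_mul {Q : Sylow p G} {z : G} (hz : orderOf z = 2) (hQ : z • Q = Q) {y : G}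
    (hy : y ∈ (Q : Subgroup G)) :
    orderOf (z * y) = 2 ∧ (z * y) • Q = Q ∧ IsConj z (z * y) := by
  have hzz := mul_self_of_orderOf hz
  have hi : z⁻¹ = z := inv_eq_of_mul_eq_one_right hzz
  obtain ⟨k, hk⟩ := hp.out.odd_of_ne_two hp2
  have h2 : y ^ (k + 1) * y ^ (k + 1) = y := by
    have : y ^ p = 1 := by
      rw [← h.card_sylow Q]
      exact congrArg Subtype.val (pow_card_eq_one' (x := (⟨y, hy⟩ : (Q : Subgroup G))))
    rw [← pow_add, show k + 1 + (k + 1) = p + 1 by omega, pow_succ, this, one_mul]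
  have h3 : IsConj z (z * y) := by
    refine isConj_iff.2 ⟨(y ^ (k + 1))⁻¹, ?_⟩
    have := h.inv_of_invol hp2 hz hQ (pow_mem hy (k + 1))
    conv_rhs => rw [← h2]
    rw [← this, hi]
    calc z * y ^ (k + 1) * z * z * (z * y ^ (k + 1) * z)⁻¹ =
        z * y ^ (k + 1) * (z * z) * (z * y ^ (k + 1) * z⁻¹)⁻¹ := by rw [hi]; group
      _ = _ := by rw [hzz, this]; group
  exact ⟨(orderOf_eq_of_isConj' h3).symm.trans hz, by
    rw [mul_smul, Sylow.smul_eq_iff_mem_normalizer.2 (le_normalizer hy), hQ], h3⟩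

theorem isConj_of_invol {Q : Sylow p G} {z z' : G} (hz : orderOf z = 2) (hQ : z • Q = Q)
    (hz' : orderOf z' = 2) (hQ' : z' • Q = Q) : IsConj z z' := by
  have := (h.invol_mul hp2 hz hQ (h.mul_mem_of_invol hp2 hz hQ hz' hQ')).2.2
  rwa [← mul_assoc, mul_self_of_orderOf hz, one_mul] at this

theorem card_invol {Q : Sylow p G} {z : G} (hz : orderOf z = 2) (hQ : z • Q = Q) :
    Nat.card {w : G // orderOf w = 2 ∧ w • Q = Q} = p := by
  refine (Nat.card_congr ⟨fun w => ⟨z * w, h.mul_mem_of_invol hp2 hz hQ w.2.1 w.2.2⟩,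
    fun y => ⟨z * y, (h.invol_mul hp2 hz hQ y.2).1, (h.invol_mul hp2 hz hQ y.2).2.1⟩,
    fun w => ?_, fun y => ?_⟩).trans (h.card_sylow Q) <;>
  · ext
    simp only
    rw [← mul_assoc, mul_self_of_orderOf hz, one_mul]

theorem eq_of_invol {Q Q' : Sylow p G} (hne : Q ≠ Q') {z z' : G} (hz : orderOf z = 2)
    (hQ : z • Q = Q) (hz' : orderOf z' = 2) (hQ' : z' • Q = Q) (hR : z • Q' = Q')
    (hR' : z' • Q' = Q') : z = z' := by
  have h1 : z * z' = 1 := by
    by_contra h1
    exact hne (Sylow.eq_of_smul_eq_of_card Q (h.card_sylow Q)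
      (h.mul_mem_of_invol hp2 hz hQ hz' hQ') h1 (by rw [mul_smul, hR', hR])).symm
  rw [← mul_self_of_orderOf hz] at h1
  exact (mul_left_cancel h1).symm

/-- The number of ways to write `x` as a product of two conjugates of an involution. -/
theorem card_pairs {z : G} (hz : orderOf z = 2)
    (h0 : Nat.card {w : G × G // IsConj z w.1 ∧ IsConj z w.2 ∧ w.1 * w.2 = x} ≠ 0) :
    Nat.card {w : G × G // IsConj z w.1 ∧ IsConj z w.2 ∧ w.1 * w.2 = x} = p ∧
      ∃ Q : Sylow p G, z • Q = Q := by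
  have hx : x ∈ (h.sylow : Subgroup G) := h.coe_sylow ▸ mem_zpowers x
  have key : ∀ w : G × G, IsConj z w.1 → IsConj z w.2 → w.1 * w.2 = x →
      orderOf w.1 = 2 ∧ w.1 • h.sylow = h.sylow := by
    rintro ⟨a, b⟩ ha hb e
    have ha' : orderOf a = 2 := (orderOf_eq_of_isConj' ha).symm.trans hz
    have hb' : orderOf b = 2 := (orderOf_eq_of_isConj' hb).symm.trans hz
    refine ⟨ha', Sylow.ext ?_⟩
    have h1 : a * x * a⁻¹ = x⁻¹ := by
      rw [← e, mul_inv_rev, inv_eq_of_mul_eq_one_right (mul_self_of_orderOf hb'), ← mul_assoc,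
        mul_self_of_orderOf ha', one_mul]
    rw [Sylow.coe_subgroup_smul, h.coe_sylow]
    change (zpowers x).map (MulAut.conj a).toMonoidHom = _
    rw [MonoidHom.map_zpowers, ← zpowers_inv (g := x), ← h1]
    rfl
  obtain ⟨⟨⟨a, b⟩, ha, hb, e⟩⟩ := (Nat.card_ne_zero.1 h0).1
  obtain ⟨ha', hs⟩ := key _ ha hb e
  refine ⟨?_, ?_⟩
  · refine Eq.trans ?_ (h.card_invol hp2 ha' hs)
    refine Nat.card_congr ⟨fun w => ⟨w.1.1, key _ w.2.1 w.2.2.1 w.2.2.2⟩,
      fun w => ⟨(w.1, w.1 * x), ha.trans (h.isConj_of_invol hp2 ha' hs w.2.1 w.2.2),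
        (ha.trans (h.isConj_of_invol hp2 ha' hs w.2.1 w.2.2)).trans
          (h.invol_mul hp2 w.2.1 w.2.2 hx).2.2, ?_⟩, fun w => ?_, fun w => rfl⟩
    · simp only
      rw [← mul_assoc, mul_self_of_orderOf w.2.1, one_mul]
    · ext
      · rfl
      · simp only
        refine (congrArg (w.1.1 * ·) w.2.2.2.symm).trans ?_
        rw [← mul_assoc, mul_self_of_orderOf (key _ w.2.1 w.2.2.1 w.2.2.2).1, one_mul]
  · obtain ⟨g, hg⟩ := isConj_iff.1 ha
    refine ⟨g⁻¹ • h.sylow, ?_⟩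
    rw [← mul_smul, show z * g⁻¹ = g⁻¹ * a by simp only at hg; rw [← hg]; group, mul_smul, hs]

open Finset in
/-- The fixed point sets of involutions form the lines of a linear space on the Sylow subgroups. -/
theorem exists_geo {e t : ℕ} (het : e * t + 1 = p)
    (hG : Nat.card G = p * e * Nat.card (Sylow p G))
    (hD : Nat.card (Sylow p G) = 1 + (t - 1) * p)
    (hc : ∀ z : G, orderOf z = 2 →
      Nat.card (centralizer ({z} : Set G)) = p - 1 ∧ ∃ Q : Sylow p G, z • Q = Q)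
    {z : G} (hz : orderOf z = 2) :
    ∃ E ≤ centralizer ({z} : Set G), z ∈ E ∧ Nat.card E = e ∧
      (∀ y ∈ E, y * y = 1 → y = 1 ∨ y = z) ∧
      ∀ g ∈ centralizer ({z} : Set G), g ∉ E → g * g = 1 := by
  classical
  let _ := Fintype.ofFinite G
  let _ := Fintype.ofFinite (Sylow p G)
  have hp1 := hp.out.one_lt
  have he0 : 0 < e := Nat.pos_of_ne_zero (by rintro rfl; omega)
  have ht0 : 0 < t := Nat.pos_of_ne_zero (by rintro rfl; omega)
  have hcop : (p - 1).Coprime p := (Nat.coprime_self_sub_left hp1.le).2 (Nat.coprime_one_left _)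
  have hN : ∀ Q : Sylow p G, Nat.card (normalizer ((Q : Subgroup G) : Set G)) = p * e := by
    intro Q
    have := (normalizer ((Q : Subgroup G) : Set G)).card_mul_index
    rw [hG, Q.card_eq_index_normalizer] at this
    exact Nat.eq_of_mul_eq_mul_right (Nat.pos_of_ne_zero FiniteIndex.index_ne_zero) this
  let fx : G → Finset (Sylow p G) := fun w => univ.filter fun Q => w • Q = Q
  have mfx : ∀ {w Q}, Q ∈ fx w ↔ w • Q = Q := by simp [fx]
  have hfc : ∀ {w g Q}, g ∈ centralizer ({w} : Set G) → Q ∈ fx w → g • Q ∈ fx w := by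
    intro w g Q hg hQ
    rw [mfx] at hQ ⊢
    rw [← mul_smul, ← mem_centralizer_singleton_iff.1 hg, mul_smul, hQ]
  have hA : ∀ (w : G) (Q : Sylow p G), orderOf w = 2 → w • Q = Q →
      Nat.card (centralizer ({w} : Set G) ⊓ normalizer ((Q : Subgroup G) : Set G) : Subgroup G) ∣ e
      ∧ p - 1 ≤ Nat.card (centralizer ({w} : Set G) ⊓
        normalizer ((Q : Subgroup G) : Set G) : Subgroup G) * (fx w).card := by
    intro w Q hw hQ
    have h1 := card_dvd_of_le (inf_le_left (a := centralizer ({w} : Set G))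
      (b := normalizer ((Q : Subgroup G) : Set G)))
    have h2 := card_dvd_of_le (inf_le_right (a := centralizer ({w} : Set G))
      (b := normalizer ((Q : Subgroup G) : Set G)))
    rw [(hc w hw).1] at h1
    rw [hN] at h2
    refine ⟨(hcop.coprime_dvd_left h1).dvd_of_dvd_mul_left h2, ?_⟩
    have h3 := (stabilizer (centralizer ({w} : Set G)) Q).card_mul_index
    rw [(hc w hw).1, index_stabilizer] at h3
    rw [← h3]
    refine Nat.mul_le_mul (le_of_eq (Nat.card_congr ⟨fun a => ⟨a.1.1, a.1.2,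
      Sylow.smul_eq_iff_mem_normalizer.1 a.2⟩, fun a => ⟨⟨a.1, a.2.1⟩,
      Sylow.smul_eq_iff_mem_normalizer.2 a.2.2⟩, fun a => rfl, fun a => rfl⟩)) ?_
    rw [← Set.ncard_coe_finset]
    refine Set.ncard_le_ncard ?_
    rintro _ ⟨g, rfl⟩
    exact hfc g.2 (mfx.2 hQ)
  have hge : ∀ w, orderOf w = 2 → t ≤ (fx w).card := by
    intro w hw
    obtain ⟨Q, hQ⟩ := (hc w hw).2
    obtain ⟨h1, h2⟩ := hA w Q hw hQ
    have := Nat.mul_le_mul_right (fx w).card (Nat.le_of_dvd he0 h1)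
    exact Nat.le_of_mul_le_mul_left (by omega : e * t ≤ e * (fx w).card) he0
  have hline : ∀ Q : Sylow p G, (∀ w : G, orderOf w = 2 → w • Q = Q → (fx w).card = t) ∧
      ∀ Q' : Sylow p G, Q' ≠ Q → ∃ w : G, orderOf w = 2 ∧ w • Q = Q ∧ w • Q' = Q' := by
    intro Q
    obtain ⟨Q₀, hQ₀⟩ := (hc z hz).2
    obtain ⟨g, rfl⟩ := MulAction.exists_smul_eq G Q₀ Q
    set Q := g • Q₀ with hQ
    have hz' : orderOf (g * z * g⁻¹) = 2 := (orderOf_eq_of_isConj' (isConj_iff.2 ⟨g, rfl⟩)).symm.trans hz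
    have h1 := h.card_invol hp2 hz' (Q := Q) (by rw [hQ, mul_smul, inv_smul_smul, mul_smul, hQ₀])
    set I : Finset G := univ.filter fun w => orderOf w = 2 ∧ w • Q = Q with hI
    have mI : ∀ {w}, w ∈ I ↔ orderOf w = 2 ∧ w • Q = Q := by simp [hI]
    have h2 : I.card = p := by rw [← h1, Nat.card_eq_fintype_card, Fintype.card_subtype]
    have h3 : (I.biUnion fun w => (fx w).erase Q).card = ∑ w ∈ I, ((fx w).card - 1) := by
      rw [card_biUnion]
      · exact sum_congr rfl fun w hw => card_erase_of_mem (mfx.2 (mI.1 hw).2)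
      · intro w hw w' hw' hne
        rw [Function.onFun, Finset.disjoint_left]
        intro R hR hR'
        rw [mem_erase, mfx] at hR hR'
        exact hne (h.eq_of_invol hp2 hR.1.symm (mI.1 hw).1 (mI.1 hw).2 (mI.1 hw').1 (mI.1 hw').2
          hR.2 hR'.2)
    have h4 : (I.biUnion fun w => (fx w).erase Q) ⊆ univ.erase Q := by
      intro R hR
      obtain ⟨w, -, hw⟩ := mem_biUnion.1 hR
      exact mem_erase.2 ⟨(mem_erase.1 hw).1, mem_univ _⟩
    have h5 : (univ.erase Q).card = ∑ w ∈ I, (t - 1) := by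
      rw [card_erase_of_mem (mem_univ _), card_univ, ← Nat.card_eq_fintype_card, hD, sum_const, h2,
        smul_eq_mul, mul_comm p]
      omega
    have h6 : ∀ w ∈ I, t - 1 ≤ (fx w).card - 1 := fun w hw =>
      Nat.sub_le_sub_right (hge w (mI.1 hw).1) 1
    have h7 := card_le_card h4
    rw [h3, h5] at h7
    have h8 := le_antisymm (sum_le_sum h6) h7
    refine ⟨fun w hw hw' => ?_, fun Q' hQ' => ?_⟩
    · have := (sum_eq_sum_iff_of_le h6).1 h8 w (mI.2 ⟨hw, hw'⟩)
      have := hge w hw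
      omega
    · have := eq_of_subset_of_card_le h4 (by rw [h3, h5, h8])
      obtain ⟨w, hw, hw'⟩ := mem_biUnion.1 (this.ge (mem_erase.2 ⟨hQ', mem_univ _⟩))
      exact ⟨w, (mI.1 hw).1, (mI.1 hw).2, mfx.1 (mem_erase.1 hw').2⟩
  have hft : ∀ w, orderOf w = 2 → (fx w).card = t := fun w hw =>
    (hline _).1 w hw (hc w hw).2.choose_spec
  obtain ⟨Q, hQ⟩ := (hc z hz).2
  obtain ⟨h1, h2⟩ := hA z Q hz hQ
  rw [hft z hz] at h2
  have hE : Nat.card (centralizer ({z} : Set G) ⊓
      normalizer ((Q : Subgroup G) : Set G) : Subgroup G) = e :=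
    le_antisymm (Nat.le_of_dvd he0 h1) (Nat.le_of_mul_le_mul_right (by omega : e * t ≤ _) ht0)
  have huniq : ∀ y ∈ centralizer ({z} : Set G), y • Q = Q → orderOf y = 2 → y = z := by
    intro y hy hyQ hy2
    have h3 := h.eq_one_of_mem (h.mul_mem_of_invol hp2 hz hQ hy2 hyQ) fun hd => by
      have := hd.trans ((centralizer ({z} : Set G)).orderOf_dvd_natCard
        (mul_mem (mem_centralizer_singleton_iff.2 rfl) hy))
      rw [(hc z hz).1] at this
      have := Nat.le_of_dvd (by omega) this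
      omega
    rw [← mul_self_of_orderOf hz] at h3
    exact (mul_left_cancel h3)
  refine ⟨_, inf_le_left, ⟨mem_centralizer_singleton_iff.2 rfl,
    Sylow.smul_eq_iff_mem_normalizer.1 hQ⟩, hE, fun y hy hyy => ?_, fun g hg hgE => ?_⟩
  · by_cases h1 : y = 1
    · exact Or.inl h1
    · exact Or.inr (huniq y hy.1 (Sylow.smul_eq_iff_mem_normalizer.2 hy.2)
        (orderOf_two_of_mul_self hyy h1))
  set J : Finset G := univ.filter fun w => orderOf w = 2 ∧ w ∈ centralizer ({z} : Set G) ∧ w ≠ z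
    with hJ
  have mJ : ∀ {w}, w ∈ J ↔ orderOf w = 2 ∧ w ∈ centralizer ({z} : Set G) ∧ w ≠ z := by simp [hJ]
  have h3 : (fx z)ᶜ ⊆ J.biUnion fx := by
    intro R hR
    rw [mem_compl, mfx] at hR
    obtain ⟨w, hw, hw1, hw2⟩ := (hline R).2 (z • R) hR
    have hzz : z • z • R = R := by rw [← mul_smul, mul_self_of_orderOf hz, one_smul]
    have hi : z⁻¹ = z := inv_eq_of_mul_eq_one_right (mul_self_of_orderOf hz)
    have := h.eq_of_invol hp2 (Ne.symm hR) hw hw1
      ((orderOf_eq_of_isConj' (isConj_iff.2 ⟨z, rfl⟩)).symm.trans hw)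
      (by rw [hi, mul_smul, mul_smul, hw2, hzz]) hw2 (by rw [hi, mul_smul, mul_smul, hzz, hw1])
    refine mem_biUnion.2 ⟨w, mJ.2 ⟨hw, mem_centralizer_singleton_iff.2 ?_, ?_⟩, mfx.2 hw1⟩
    · conv_lhs => rw [this]
      group
    · rintro rfl
      exact hR hw1
  have h4 := (card_le_card h3).trans card_biUnion_le
  rw [card_compl, ← Nat.card_eq_fintype_card, hD, hft z hz,
    sum_congr rfl fun w hw => hft w (mJ.1 hw).1, sum_const, smul_eq_mul] at h4
  set K : Finset G := univ.filter fun w => w ∈ centralizer ({z} : Set G) ∧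
    w ∉ centralizer ({z} : Set G) ⊓ normalizer ((Q : Subgroup G) : Set G) with hK
  have h5 : J ⊆ K := by
    intro w hw
    obtain ⟨a, b, c⟩ := mJ.1 hw
    exact mem_filter.2 ⟨mem_univ _, b, fun d =>
      c (huniq w b (Sylow.smul_eq_iff_mem_normalizer.2 d.2) a)⟩
  have h6 : K.card + e = p - 1 := by
    rw [← hE, ← (hc z hz).1, Nat.card_eq_fintype_card, Nat.card_eq_fintype_card,
      Fintype.card_subtype, Fintype.card_subtype,
      ← card_filter_add_card_filter_not (s := univ.filter (· ∈ centralizer ({z} : Set G)))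
        (fun w => w ∈ centralizer ({z} : Set G) ⊓ normalizer ((Q : Subgroup G) : Set G)),
      filter_filter, filter_filter, add_comm]
    congr 2
    ext w
    simp only [mem_filter, mem_univ, true_and]
    exact ⟨fun a => ⟨a.1, a⟩, fun a => a.2⟩
  have h7 : K.card ≤ J.card := by
    refine Nat.le_of_mul_le_mul_right (le_trans (le_of_eq ?_) h4) ht0
    obtain ⟨s, rfl⟩ : ∃ s, t = s + 1 := ⟨t - 1, by omega⟩
    have h8 : K.card = e * s := by
      have : e * (s + 1) = e * s + e := by ring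
      omega
    rw [h8, ← het, Nat.add_sub_cancel]
    exact (Nat.sub_eq_of_eq_add (by ring)).symm
  have := eq_of_subset_of_card_le h5 h7
  exact mul_self_of_orderOf (mJ.1 (this.ge (mem_filter.2 ⟨mem_univ _, hg, hgE⟩))).1

theorem elemInvol {e t : ℕ} (het : e * t + 1 = p)
    (hG : Nat.card G = p * e * Nat.card (Sylow p G))
    (hD : Nat.card (Sylow p G) = 1 + (t - 1) * p)
    (hc : ∀ z : G, orderOf z = 2 →
      Nat.card (centralizer ({z} : Set G)) = p - 1 ∧ ∃ Q : Sylow p G, z • Q = Q)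
    (h2 : e = 2 ∨ 3 ≤ t) {z : G} (hz : orderOf z = 2) :
    (∀ g ∈ centralizer ({z} : Set G), g * g = 1) ∧ e = 2 := by
  classical
  obtain ⟨E, hE, hzE, hcE, h1, h3⟩ := h.exists_geo hp2 het hG hD hc hz
  have hz1 := ne_one_of_orderOf_two hz
  have hle : zpowers z ≤ E := zpowers_le.2 hzE
  have hcz : Nat.card (zpowers z) = 2 := by rw [Nat.card_zpowers, hz]
  have h4 : (∀ y ∈ E, y * y = 1) ∧ e = 2 := by
    rcases h2 with rfl | h2
    · refine ⟨fun y hy => ?_, rfl⟩
      rw [← Subgroup.eq_of_le_of_card_ge hle (by rw [hcE, hcz])] at hy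
      have := congrArg Subtype.val (pow_card_eq_one' (x := (⟨y, hy⟩ : zpowers z)))
      rwa [hcz, pow_two] at this
    have hinv : ∀ g ∈ centralizer ({z} : Set G), g ∉ E → ∀ y ∈ E, g * y * g⁻¹ = y⁻¹ := by
      intro g hg hgE y hy
      have := h3 (g * y) (mul_mem hg (hE hy)) fun a => hgE ((mul_mem_cancel_right hy).1 a)
      rw [inv_eq_of_mul_eq_one_right (h3 g hg hgE), ← mul_eq_one_iff_eq_inv, ← this]
      group
    have hex : ∀ a b : G, ∃ g ∈ centralizer ({z} : Set G), a * g ∉ E ∧ b * g ∉ E := by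
      intro a b
      by_contra hne
      push Not at hne
      let _ := Fintype.ofFinite G
      have h5 : ∀ a : G, (Finset.univ.filter fun g => a * g ∈ E).card = e := fun a => by
        rw [← hcE, Nat.card_eq_fintype_card, Fintype.card_subtype]
        exact Finset.card_bijective _ (Group.mulLeft_bijective a) (by simp)
      have h6 : (Finset.univ.filter (· ∈ centralizer ({z} : Set G))) ⊆
          (Finset.univ.filter fun g => a * g ∈ E) ∪ (Finset.univ.filter fun g => b * g ∈ E) := by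
        intro g hg
        simp only [Finset.mem_filter, Finset.mem_univ, true_and, Finset.mem_union] at hg ⊢
        exact or_iff_not_imp_left.2 (hne g hg)
      have h7 := (Finset.card_le_card h6).trans (Finset.card_union_le _ _)
      rw [h5, h5, ← Fintype.card_subtype, ← Nat.card_eq_fintype_card, (hc z hz).1] at h7
      have : 0 < e := hcE ▸ Nat.card_pos
      have : e * 3 ≤ e * t := Nat.mul_le_mul_left _ h2
      omega
    obtain ⟨a, ha, haE, -⟩ := hex 1 1
    obtain ⟨b, hb, hbE, habE⟩ := hex 1 a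
    rw [one_mul] at haE hbE
    have h5 : ∀ y ∈ E, y * y = 1 := by
      intro y hy
      have := hinv _ (mul_mem ha hb) habE y hy
      rw [show a * b * y * (a * b)⁻¹ = a * (b * y * b⁻¹) * a⁻¹ by group, hinv b hb hbE y hy,
        hinv a ha haE _ (inv_mem hy), inv_inv] at this
      exact mul_eq_one_iff_eq_inv.2 this
    refine ⟨h5, ?_⟩
    rw [← hcE, ← hcz, le_antisymm hle fun y hy => ?_]
    rcases h1 y hy (h5 y hy) with rfl | rfl
    exacts [one_mem _, mem_zpowers _]
  exact ⟨fun g hg => (em (g ∈ E)).elim (h4.1 g) (h3 g hg), h4.2⟩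

omit hp2 in
theorem eq_one_of_forall_smul (hO : pPrimeCore p G = ⊥) (hD : Nat.card (Sylow p G) ≠ 1) {g : G}
    (hg : ∀ Q : Sylow p G, g • Q = Q) : g = 1 := by
  have h1 : ¬ p ∣ Nat.card (toPermHom G (Sylow p G)).ker := fun hd => hD (by
    have h2 := h.le_of_dvd hd (mem_zpowers x)
    rw [Nat.card_eq_one_iff_unique]
    have h3 : ∀ Q : Sylow p G, Q = h.sylow := fun Q =>
      Sylow.eq_of_smul_eq_of_card h.sylow (h.card_sylow _) (h.coe_sylow ▸ mem_zpowers x) h.ne_one
        (congrArg (fun σ : Equiv.Perm (Sylow p G) => σ Q) h2)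
    exact ⟨⟨fun a b => (h3 a).trans (h3 b).symm⟩, inferInstance⟩)
  have := le_pPrimeCore_of_not_dvd h1 (show g ∈ _ from Equiv.ext hg)
  rwa [hO] at this

theorem psl_or_sl2 {e t : ℕ} (het : e * t + 1 = p) (ht : 2 ≤ t)
    (hG : Nat.card G = p * e * Nat.card (Sylow p G))
    (hD : Nat.card (Sylow p G) = 1 + (t - 1) * p)
    (hc : ∀ z : G, orderOf z = 2 →
      Nat.card (centralizer ({z} : Set G)) = p - 1 ∧ ∃ Q : Sylow p G, z • Q = Q)
    (hev : 2 ∣ Nat.card G) (hperf : commutator G = ⊤) (hO : pPrimeCore p G = ⊥) :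
    Nonempty (G ≃* Matrix.ProjectiveSpecialLinearGroup (Fin 2) (ZMod p)) ∨
      ∃ (a : ℕ) (F : Type) (_ : Field F) (_ : Fintype F),
        p = 2 ^ a + 1 ∧ Fintype.card F = 2 ^ a ∧ Nonempty (G ≃* SL(2, F)) := by
  have hp1 := hp.out.pos
  rcases ht.eq_or_lt with rfl | ht3
  · have hD' : Nat.card (Sylow p G) = p + 1 := by omega
    obtain ⟨φ⟩ := nonempty_quotient_equiv_psl h.sylow (h.card_sylow _) (e := e) (by omega) hD' ⊥
      (fun g => ⟨fun hg Q => by rw [mem_bot.1 hg, one_smul], fun hg =>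
        mem_bot.2 (h.eq_one_of_forall_smul hO (by omega) hg)⟩)
      (by rw [index_bot, hG, hD']; ring) (by rw [hperf, top_sup_eq])
    exact Or.inl ⟨QuotientGroup.quotientBot.symm.trans φ⟩
  obtain ⟨z, hz⟩ := exists_prime_orderOf_dvd_card' 2 hev
  obtain rfl := (h.elemInvol hp2 het hG hD hc (Or.inr ht3) hz).2
  have hE : ElemInvol G (p - 1) := fun z hz =>
    ⟨(hc z hz).1, (h.elemInvol hp2 het hG hD hc (Or.inl rfl) hz).1⟩
  obtain ⟨a, F, _, _, h1, h2, h3⟩ := hE.exists_mulEquiv (by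
    obtain ⟨s, rfl⟩ : ∃ s, t = s + 1 := ⟨t - 1, by omega⟩
    rw [hG, hD, ← het, Nat.add_sub_cancel, Nat.add_sub_cancel,
      show 2 * (s + 1) - 1 = 2 * s + 1 by omega]
    ring) ⟨t, by omega⟩
  exact Or.inr ⟨a, F, _, _, by omega, h2, h3⟩

end SelfCent

end Cfsg
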