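import Cfsg.Agent.Grp.Misc

/-!
# Tate's transfer theorem and Roquette's theorem
-/

set_option autoImplicit false

namespace Cfsg

open Subgroup

universe u v

variable {G : Type u} [Group G] {G' : Type v} [Group G'] {p : ℕ}

theorem pResidual_le_ker [Fact p.Prime] (f : G →* G') (h : IsPGroup p G') :
    pResidual p G ≤ f.ker :=
  (closure_le _).mpr fun x hx => (isPElt_of_mem (h.to_subgroup ⊤) (mem_top (f x))).eq_one_of_isPRegular
    (IsPRegular.map (coprime_iff_not_dvd'.mp hx) f)

/-- The pull-back of `G → G/K ← V → X`. -/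
private def tateE (K V : Subgroup G) [K.Normal] {X : Type v} [Group X] (π : V →* X) :
    Subgroup (G × X) where
  carrier := {e | ∃ v : V, π v = e.2 ∧ e.1 * (v : G)⁻¹ ∈ K}
  one_mem' := ⟨1, map_one π, by simp⟩
  mul_mem' := by
    rintro a b ⟨v, hv, h1⟩ ⟨w, hw, h2⟩
    refine ⟨v * w, by rw [map_mul, hv, hw]; rfl, ?_⟩
    convert mul_mem (Normal.conj_mem ‹_› _ h2 a.1) h1 using 1
    simp [mul_assoc]
  inv_mem' := by
    rintro a ⟨v, hv, h1⟩
    refine ⟨v⁻¹, by rw [map_inv, hv]; rfl, ?_⟩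
    convert Normal.conj_mem ‹_› _ (inv_mem h1) a.1⁻¹ using 1
    simp [mul_assoc]

open scoped IsMulCommutative in
/-- Core of Tate's theorem: a central factor `Z` of order prime to `|G : V|` covered by `V ⊓ K`
is split off by a homomorphism, if `K` has no nontrivial homomorphism to `Z`. -/
theorem exists_hom_of_central_factor [Finite G] {K V : Subgroup G} [K.Normal] (hs : V ⊔ K = ⊤)
    {X : Type v} [Group X] [Finite X] (π : V →* X) (hc : (K.subgroupOf V).map π ≤ center X)
    (hK : ∀ f : K →* (K.subgroupOf V).map π, f = 1) :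
    ∃ ψ : V →* (K.subgroupOf V).map π, ∀ l ∈ K.subgroupOf V, (ψ l : X) = π l ^ V.index := by
  set Z := (K.subgroupOf V).map π with hZ
  have : IsMulCommutative Z :=
    isMulCommutative_iff_forall.mpr fun a ha b _ => (mem_center_iff.mp (hc ha) b).symm
  set E := tateE K V π with hE
  set H := (V.comap (MonoidHom.fst G X)).subgroupOf E with hH
  have hmem : ∀ e : H, e.1.1.2 * (π ⟨e.1.1.1, e.2⟩)⁻¹ ∈ Z := fun e => by
    obtain ⟨v, hv, h1⟩ := e.1.2
    refine ⟨v * ⟨e.1.1.1, e.2⟩⁻¹, ?_, by rw [map_mul, map_inv, hv]⟩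
    change (v : G) * e.1.1.1⁻¹ ∈ K
    simpa using inv_mem h1
  let θ : H →* Z :=
    { toFun := fun e => ⟨_, hmem e⟩
      map_one' := Subtype.ext (by
        change (1 : X) * (π 1)⁻¹ = 1
        simp)
      map_mul' := fun a b => Subtype.ext (by
        change a.1.1.2 * b.1.1.2 * (π (⟨a.1.1.1, a.2⟩ * ⟨b.1.1.1, b.2⟩))⁻¹ =
          a.1.1.2 * (π ⟨a.1.1.1, a.2⟩)⁻¹ * (b.1.1.2 * (π ⟨b.1.1.1, b.2⟩)⁻¹)
        rw [mul_assoc _ _ (b.1.1.2 * _), mem_center_iff.mp (hc (hmem b)), map_mul, mul_inv_rev]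
        simp only [mul_assoc]) }
  have hi : H.index = V.index := by
    have h1 : E.map (MonoidHom.fst G X) = ⊤ := by
      refine eq_top_iff.mpr fun g _ => ?_
      obtain ⟨k, hk, v, hv, rfl⟩ := (mem_sup_of_le_normalizer' (H := V) (N := K)
        le_normalizer_of_normal (x := g)).mp (by rw [sup_comm, hs]; exact mem_top g)
      exact ⟨(k * v, π ⟨v, hv⟩), ⟨⟨v, hv⟩, rfl, by simpa using hk⟩, rfl⟩
    rw [hH, ← relIndex, relIndex_comap, h1, relIndex_top_right]
  let T := MonoidHom.transfer θ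
  let iK : K →* E := ((MonoidHom.inl G X).comp K.subtype).codRestrict E fun k =>
    ⟨1, map_one π, by simp⟩
  let iV : V →* E := (V.subtype.prod π).codRestrict E fun v => ⟨v, rfl, by simp⟩
  refine ⟨T.comp iV, fun l hl => ?_⟩
  let z : E := ⟨(1, π l), l, rfl, by simpa using mem_subgroupOf.mp hl⟩
  have hz : z ∈ center E := mem_center_iff.mpr fun e => Subtype.ext (Prod.ext (by simp [z])
    (mem_center_iff.mp (hc (mem_map_of_mem π hl)) e.1.2))
  have h1 := transfer_of_mem_center θ ⟨z, V.one_mem⟩ hz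
  have h2 : iV l = iK ⟨l, hl⟩ * z := Subtype.ext (Prod.ext (mul_one _).symm (one_mul _).symm)
  have h3 : T (iK ⟨l, hl⟩) = 1 := DFunLike.congr_fun (hK (T.comp iK)) _
  rw [MonoidHom.comp_apply, h2, map_mul, h3, one_mul, h1, hi, coe_pow]
  congr 1
  change π l * (π 1)⁻¹ = π l
  simp

/-- **Tate's theorem**: if `V` has `p'`-index and `V ⊓ O^p(G)` lies in every normal subgroup of
index `p` of `V`, then `V ⊓ O^p(G) = O^p(V)`. -/
theorem pResidual_subgroupOf_eq_of_forall_le [Finite G] [hp : Fact p.Prime] {V : Subgroup G}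
    (hV : ¬ p ∣ V.index)
    (h : ∀ W : Subgroup V, W.Normal → W.index = p → (pResidual p G).subgroupOf V ≤ W) :
    (pResidual p G).subgroupOf V = pResidual p V := by
  by_contra hne
  have hlt : pResidual p V < (pResidual p G).subgroupOf V :=
    lt_of_le_of_ne (map_le_iff_le_comap.mp (map_pResidual_le V.subtype)) (Ne.symm hne)
  obtain ⟨R, hR, hUR, hRL, hmin⟩ := exists_chief_below hlt
  have hX : IsPGroup p (V ⧸ R) := pResidual_le_iff.mp hUR
  have := hX.isNilpotent
  have hc := hmin.le_center_of_isNilpotent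
  have hZ := IsPGroup.eq_of_prime_dvd_card' (hX.to_subgroup _) (hmin.prime_card_of_le_center hc)
    dvd_rfl
  obtain ⟨ψ, hψ⟩ := exists_hom_of_central_factor
    (by rw [sup_comm]; exact pResidual_sup_eq_top hV) (QuotientGroup.mk' R) hc fun f =>
      MonoidHom.ker_eq_top_iff.mp (top_le_iff.mp
        (pResidual_pResidual (p := p) (G := G) ▸ pResidual_le_ker f (hX.to_subgroup _)))
  have hn : ¬ (pResidual p G).subgroupOf V ≤ ψ.ker := fun hle => hRL.not_ge fun l hl => by
    have h1 := hψ l hl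
    rw [MonoidHom.mem_ker.mp (hle hl), coe_one, eq_comm] at h1
    exact (QuotientGroup.eq_one_iff _).mp ((isPElt_of_mem (hX.to_subgroup ⊤)
      (mem_top _)).eq_one_of_isPRegular fun hd => hV (hd.trans (orderOf_dvd_of_pow_eq_one h1)))
  refine hn (h _ inferInstance (((Nat.dvd_prime hp.out).mp ?_).resolve_left fun e => hn ?_))
  · rw [index_ker]
    exact (card_subgroup_dvd_card _).trans hZ.dvd
  · rw [index_eq_one.mp e]
    exact le_top

/-- **Tate's theorem**, focal form: if `V ⊓ G' ≤ V'`-modulo `O^p(V)`, i.e. `V` controls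
`p`-transfer, then `V ⊓ O^p(G) = O^p(V)`. -/
theorem pResidual_subgroupOf_eq_of_commutator [Finite G] [hp : Fact p.Prime] {V : Subgroup G}
    (P : Sylow p G) (hV : (P : Subgroup G) ≤ V) (h : commutator G ⊓ P ≤ ⁅V, V⁆) :
    (pResidual p G).subgroupOf V = pResidual p V := by
  refine pResidual_subgroupOf_eq_of_forall_le (not_dvd_index_of_sylow_le P hV) fun W _ hW => ?_
  have h1 : (P : Subgroup G) ⊓ pResidual p G ≤ commutator G := by
    have h2 := focalSubgroup_eq_of_pResidual_eq_top pResidual_pResidual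
      (sylowInfNormal P (pResidual p G))
    rw [← map_sylowInfNormal, ← h2]
    refine (map_mono (focalSubgroup_le_commutator _)).trans ?_
    rw [map_subtype_commutator]
    exact commutator_mono le_top le_top
  have h3 : ((P : Subgroup G) ⊓ pResidual p G).subgroupOf V ≤ W := by
    refine (comap_mono ((le_inf h1 inf_le_left).trans h)).trans ?_
    rw [← map_subtype_commutator, comap_map_eq_self_of_injective V.subtype_injective]
    exact commutator_le_of_prime_index (hW ▸ hp.out)
  refine relIndex_eq_one.mp (Nat.eq_one_of_dvd_coprimes (hp.out.coprime_iff_not_dvd.mpr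
    (not_dvd_relIndex_sylow_inf_normal P (pResidual p G))) (hW ▸ relIndex_dvd_index_of_normal _ _)
    ((relIndex_dvd_of_le_left _ h3).trans ?_))
  rw [← inf_subgroupOf_right (pResidual p G), relIndex_subgroupOf inf_le_right,
    ← inf_relIndex_right (P : Subgroup G) (pResidual p G)]
  exact Dvd.intro _ (relIndex_mul_relIndex _ _ _ (le_inf inf_le_right (inf_le_left.trans hV))
    inf_le_left)

/-- **Roquette**: if `P ⊓ N ≤ Φ(P)` for `N ⊴ G` then `N` has a normal `p`-complement. -/
theorem hasNormalPComplement_of_inf_le_frattiniOf [Finite G] [hp : Fact p.Prime] {P N : Subgroup G}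
    (hP : IsPGroup p P) (hn : P ≤ normalizer (N : Set G)) (hi : ¬ p ∣ P.relIndex N)
    (h : P ⊓ N ≤ frattiniOf P) : HasNormalPComplement p N := by
  have hle : P ≤ P ⊔ N := le_sup_left
  have hi' : ¬ p ∣ (P.subgroupOf (P ⊔ N)).index := by
    rwa [← relIndex, relIndex_sup_eq_relIndex_of_le_normalizer hn]
  have : (N.subgroupOf (P ⊔ N)).Normal :=
    normal_subgroupOf_of_le_normalizer (sup_le hn le_normalizer)
  have hP' : IsPGroup p (P.subgroupOf (P ⊔ N)) := hP.comap_subtype
  have h1 : pResidual p (P ⊔ N : Subgroup G) ≤ N.subgroupOf (P ⊔ N) := by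
    rw [pResidual_le_iff, ← isPGroup_top_iff, ← map_mk'_eq_top_iff.mpr
      subgroupOf_sup_subgroupOf_eq_top']
    exact hP'.map _
  have h2 := pResidual_subgroupOf_eq_of_forall_le hi' fun W _ hW => by
    refine le_trans ?_ (frattini_le_coatom ((IsPGroup.isCoatom_iff hP').mpr hW))
    intro x hx
    have h3 : (x.1.1 : G) ∈ frattiniOf P := h ⟨x.2, h1 hx⟩
    have h4 := map_frattiniOf hP' (P ⊔ N).subtype
    rw [map_subgroupOf_eq_of_le hle] at h4
    rw [← h4] at h3
    exact (mem_map_iff_mem (subtype_injective _)).mp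
      ((mem_map_iff_mem (subtype_injective _)).mp h3)
  rw [pResidual_eq_bot_iff.mpr hP', subgroupOf_eq_bot, disjoint_iff] at h2
  have h4 := relIndex_normal_dvd_index (P.subgroupOf (P ⊔ N)) (pResidual p (P ⊔ N : Subgroup G))
  rw [← inf_relIndex_right, inf_comm, h2, relIndex_bot_left] at h4
  exact (hasNormalPComplement_iff_not_dvd_card_pResidual.mpr fun hd => hi' (hd.trans h4)).to_le
    le_sup_right

theorem hasNormalPComplement_of_sylow_inf_le_frattiniOf [Finite G] [Fact p.Prime] (P : Sylow p G)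
    {N : Subgroup G} [N.Normal] (h : (P : Subgroup G) ⊓ N ≤ frattiniOf P) :
    HasNormalPComplement p N :=
  hasNormalPComplement_of_inf_le_frattiniOf P.isPGroup' le_normalizer_of_normal
    (not_dvd_relIndex_sylow_inf_normal P N) h

/-- Transfer into a normal subgroup, evaluated at an element whose outer conjugates are killed. -/
theorem transfer_eq_self_of_normal {H : Subgroup G} [H.Normal] [H.FiniteIndex] {A : Type*}
    [CommGroup A] (φ : H →* A) (a : H)
    (h : ∀ t : G, t ∉ H → ∀ ht : t⁻¹ * a * t ∈ H, φ ⟨_, ht⟩ = 1) :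
    MonoidHom.transfer φ a = φ a := by
  classical
  have : Fintype (Quotient (MulAction.orbitRel (zpowers (a : G)) (G ⧸ H))) := Fintype.ofFinite _
  have hfix : ∀ z ∈ H, ∀ x : G ⧸ H, z • x = x := fun z hz x => by
    obtain ⟨x, rfl⟩ := QuotientGroup.mk_surjective x
    exact QuotientGroup.eq.mpr (by simpa using Normal.conj_mem' ‹_› _ (inv_mem hz) x)
  have hper : ∀ x : G ⧸ H, Function.minimalPeriod ((a : G) • ·) x = 1 := fun x =>
    Function.minimalPeriod_eq_one_iff_isFixedPt.mpr (hfix a a.2 x)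
  rw [MonoidHom.transfer_eq_prod_quotient_orbitRel_zpowers_quot,
    Finset.prod_eq_single (Quotient.mk'' ((1 : G) : G ⧸ H))]
  · generalize_proofs _ h1
    obtain ⟨z, hz⟩ := Quotient.exact' (Quotient.out_eq' (s₁ := MulAction.orbitRel (zpowers (a : G))
      (G ⧸ H)) (Quotient.mk'' ((1 : G) : G ⧸ H)))
    have h2 := (hfix z (zpowers_le.mpr a.2 z.2) ((1 : G) : G ⧸ H)).symm.trans (by exact hz)
    generalize Quotient.out (Quotient.mk'' ((1 : G) : G ⧸ H) :
      Quotient (MulAction.orbitRel (zpowers (a : G)) (G ⧸ H))) = x at h1 h2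
    have h3 : x.out ∈ H := by
      simpa using QuotientGroup.eq.mp (h2.trans (QuotientGroup.out_eq' x).symm)
    have : (⟨_, h1⟩ : H) = ⟨x.out, h3⟩⁻¹ * a * ⟨x.out, h3⟩ := Subtype.ext (by simp [hper])
    rw [this, map_mul, map_mul, map_inv, mul_comm, mul_inv_cancel_left]
  · intro q _ hq
    have := h q.out.out (fun hq' => hq (by
      rw [← Quotient.out_eq' q, ← QuotientGroup.out_eq' q.out,
        (QuotientGroup.eq_one_iff _).mpr hq']
      rfl)) (Normal.conj_mem' ‹_› _ a.2 _)
    simpa only [hper, pow_one] using this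
  · exact fun hq => absurd (Finset.mem_univ _) hq

/-- If `P ⊓ S`, `P ⊓ T` are Sylow in `S`, `T`, which commute and meet trivially, then
`P ⊓ ST = (P ⊓ S)(P ⊓ T)`. -/
theorem inf_sup_eq_of_not_dvd_relIndex [Finite G] [hp : Fact p.Prime] {P S T : Subgroup G}
    (hP : IsPGroup p P) (hn : S ≤ centralizer (T : Set G)) (hd : S ⊓ T = ⊥)
    (hS : ¬ p ∣ P.relIndex S) (hT : ¬ p ∣ P.relIndex T) :
    P ⊓ (S ⊔ T) = (P ⊓ S) ⊔ (P ⊓ T) := by
  have hle : (P ⊓ S) ⊔ (P ⊓ T) ≤ P ⊓ (S ⊔ T) := le_inf_sup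
  refine le_antisymm (relIndex_eq_one.mp ?_) hle
  have h1 := card_mul_relIndex (hle.trans inf_le_right)
  rw [card_sup_of_le_normalizer_of_disjoint (hn.trans (centralizer_le_normalizer _)) hd,
    card_sup_of_le_normalizer_of_disjoint (((inf_le_right.trans hn).trans (centralizer_le
      (SetLike.coe_subset_coe.mpr inf_le_right))).trans (centralizer_le_normalizer _))
      (eq_bot_iff.mpr (hd ▸ inf_le_inf inf_le_right inf_le_right)),
    ← card_inf_mul_relIndex P S, ← card_inf_mul_relIndex P T, mul_mul_mul_comm] at h1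
  refine Nat.eq_one_of_dvd_coprimes (IsPGroup.coprime_card_of_not_dvd (hP.to_le inf_le_left)
    (n := P.relIndex S * P.relIndex T) (mt hp.out.dvd_mul.mp (not_or.mpr ⟨hS, hT⟩)))
    (relIndex_dvd_card _ _) ?_
  rw [← Nat.eq_of_mul_eq_mul_left (Nat.mul_pos Nat.card_pos Nat.card_pos) h1]
  exact Dvd.intro _ (relIndex_mul_relIndex _ _ _ hle inf_le_right)

end Cfsg
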