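import Cfsg.Agent.Char.SimpleLin

/-!
# Ree's inequality for the regular action; recognising alternating groups
-/

set_option autoImplicit false
set_option linter.unusedSectionVars false
set_option linter.style.haveILetI false

namespace Cfsg

open Subgroup Module

universe u

variable {G : Type u} [Group G] [Finite G]

theorem finrank_ker_funLeft_mul (g : G) :
    finrank ℚ (LinearMap.ker (1 - LinearMap.funLeft ℚ ℚ (· * g) : End ℚ (G → ℚ))) =
      (zpowers g).index := by
  let _ := Fintype.ofFinite (G ⧸ zpowers g)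
  have h1 : LinearMap.ker (1 - LinearMap.funLeft ℚ ℚ (· * g) : End ℚ (G → ℚ)) =
      LinearMap.range (LinearMap.funLeft ℚ ℚ (QuotientGroup.mk : G → G ⧸ zpowers g)) := by
    ext f
    rw [LinearMap.mem_ker, LinearMap.sub_apply, sub_eq_zero]
    refine ⟨fun h => ⟨fun q => f q.out, funext fun x => ?_⟩, ?_⟩
    · obtain ⟨⟨_, hk⟩, e⟩ := QuotientGroup.mk_out_eq_mul (zpowers g) x
      obtain ⟨k, rfl⟩ := (mem_powers_iff_mem_zpowers.2 hk)
      change f (QuotientGroup.mk x : G ⧸ zpowers g).out = f x
      rw [e]
      change f (x * g ^ k) = f x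
      clear e hk
      induction k with
      | zero => simp
      | succ k ih => simpa [pow_succ, ← mul_assoc] using (congrFun h (x * g ^ k)).symm.trans ih
    · rintro ⟨F, rfl⟩
      funext x
      exact congrArg F (QuotientGroup.mk_mul_of_mem x (mem_zpowers g)).symm
  rw [h1, LinearMap.finrank_range_of_inj (LinearMap.funLeft_injective_of_surjective _ _ _
    QuotientGroup.mk_surjective), finrank_fintype_fun_eq_card, index, Nat.card_eq_fintype_card]

theorem index_zpowers_add_le {a b : G} (h : closure {a, b} = ⊤) :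
    (zpowers a).index + (zpowers b).index + (zpowers (a * b)).index ≤ Nat.card G + 2 := by
  classical
  let _ := Fintype.ofFinite G
  let L : G → End ℚ (G → ℚ) := fun g => 1 - LinearMap.funLeft ℚ ℚ (· * g)
  have hL : ∀ g f x, L g f x = f x - f (x * g) := fun _ _ _ => rfl
  have hn : finrank ℚ (G → ℚ) = Nat.card G := by
    rw [finrank_fintype_fun_eq_card, Nat.card_eq_fintype_card]
  have h1 : ∀ g, finrank ℚ (LinearMap.range (L g)) + (zpowers g).index = Nat.card G := fun g => by
    rw [← finrank_ker_funLeft_mul, LinearMap.finrank_range_add_finrank_ker, hn]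
  have h2 : ∀ g f, L g f ∈ LinearMap.range (L a) ⊔ LinearMap.range (L b) := fun g => by
    refine closure_induction (p := fun g _ => ∀ f, L g f ∈ _) ?_ (fun f => ?_)
      (fun g k _ _ hg hk f => ?_) (fun g _ hg f => ?_) (h ▸ mem_top g)
    · rintro g (rfl | rfl) f
      exacts [Submodule.mem_sup_left ⟨f, rfl⟩, Submodule.mem_sup_right ⟨f, rfl⟩]
    · convert Submodule.zero_mem _
      funext x
      simp [hL]
    · convert Submodule.add_mem _ (hg fun x => f (x * k)) (hk f)
      funext x
      simp [hL, mul_assoc]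
    · convert Submodule.neg_mem _ (hg fun x => f (x * g⁻¹))
      funext x
      simp [hL]
  have h3 : Nat.card G ≤ finrank ℚ (LinearMap.range (L a) ⊔ LinearMap.range (L b) :
      Submodule ℚ _) + 1 := by
    have h4 : LinearMap.range (L a) ⊔ LinearMap.range (L b) ⊔
        Submodule.span ℚ {Pi.single 1 1} = ⊤ := by
      rw [eq_top_iff, ← (Pi.basisFun ℚ G).span_eq, Submodule.span_le]
      rintro _ ⟨g, rfl⟩
      have : Pi.basisFun ℚ G g = -L g⁻¹ (Pi.single 1 1) + Pi.single 1 1 := by
        funext x
        simp [hL, Pi.single_apply, mul_inv_eq_one]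
      rw [this]
      exact Submodule.add_mem_sup (Submodule.neg_mem _ (h2 _ _)) (Submodule.mem_span_singleton_self _)
    rw [← hn, ← finrank_top, ← h4]
    exact (Submodule.finrank_add_le_finrank_add_finrank _ _).trans
      (Nat.add_le_add_left (finrank_span_le_card _ |>.trans (by simp)) _)
  let φ := (L b).domRestrict (LinearMap.ker (L (a * b)))
  have h5 : LinearMap.range φ ≤ LinearMap.range (L a) ⊓ LinearMap.range (L b) := by
    rintro _ ⟨⟨f, hf⟩, rfl⟩
    refine ⟨⟨fun x => -f (x * a⁻¹), funext fun x => ?_⟩, f, rfl⟩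
    have := congrFun hf (x * a⁻¹)
    simp only [hL, mul_assoc, inv_mul_cancel_left, Pi.zero_apply] at this
    change _ = L b f x
    simp only [hL, mul_inv_cancel_right]
    linarith
  have h6 : finrank ℚ (LinearMap.ker φ) ≤ 1 := by
    rw [← Submodule.finrank_map_subtype_eq]
    refine (Submodule.finrank_mono (t := Submodule.span ℚ {fun _ => 1}) ?_).trans
      (finrank_span_le_card _ |>.trans (by simp))
    rintro _ ⟨⟨f, hf⟩, hf', rfl⟩
    have e1 : ∀ x, f (x * b) = f x := fun x => (sub_eq_zero.1 (congrFun hf' x)).symm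
    have e2 : ∀ x, f (x * a) = f x := fun x => by
      rw [← e1, mul_assoc]
      exact (sub_eq_zero.1 (congrFun hf x)).symm
    have e3 : ∀ g x, f (x * g) = f x := fun g => by
      refine closure_induction (p := fun g _ => ∀ x, f (x * g) = f x) ?_ (fun x => by rw [mul_one])
        (fun g k _ _ hg hk x => by rw [← mul_assoc, hk, hg])
        (fun g _ hg x => by rw [← hg, inv_mul_cancel_right]) (h ▸ mem_top g)
      rintro g (rfl | rfl)
      exacts [e2, e1]
    exact Submodule.mem_span_singleton.2 ⟨f 1, funext fun x => by simp [← e3 x 1]⟩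
  have h7 := φ.finrank_range_add_finrank_ker
  have h8 := Submodule.finrank_sup_add_finrank_inf_eq (LinearMap.range (L a)) (LinearMap.range (L b))
  have h9 := Submodule.finrank_mono h5
  have h10 := h1 a
  have h11 := h1 b
  rw [finrank_ker_funLeft_mul] at h7
  omega

theorem card_closure_eq_sixty {a b : G} (ha : orderOf a = 2) (hb : orderOf b = 3)
    (hab : orderOf (a * b) = 5) : Nat.card (closure {a, b} : Subgroup G) = 60 := by
  obtain ⟨K, hK⟩ : ∃ K, closure ({a, b} : Set G) = K := ⟨_, rfl⟩
  have ma : a ∈ K := hK ▸ subset_closure (by simp)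
  have mb : b ∈ K := hK ▸ subset_closure (by simp)
  have h := index_zpowers_add_le (a := (⟨a, ma⟩ : K)) (b := ⟨b, mb⟩) (by
    apply map_injective K.subtype_injective
    rw [MonoidHom.map_closure, Set.image_pair, ← MonoidHom.range_eq_map, range_subtype]
    exact hK)
  have h1 := (zpowers (⟨a, ma⟩ : K)).card_mul_index
  have h2 := (zpowers (⟨b, mb⟩ : K)).card_mul_index
  have h3 := (zpowers ((⟨a, ma⟩ : K) * ⟨b, mb⟩)).card_mul_index
  rw [Nat.card_zpowers, ← orderOf_coe] at h1 h2 h3
  simp only [coe_mul, ha, hb, hab] at h1 h2 h3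
  have h4 : Nat.card K ≠ 30 := fun e => by
    obtain ⟨S⟩ : Nonempty (Sylow 2 K) := inferInstance
    have h5 : Nat.card S = 2 := by
      rw [S.card_eq_multiplicity, e, show 30 = 2 * 15 from rfl, Nat.factorization_mul (by decide)
        (by decide), Finsupp.add_apply, Nat.factorization_eq_zero_of_not_dvd (n := 15) (by decide),
        Nat.prime_two.factorization_self]
      rfl
    have : IsCyclic S := isCyclic_of_prime_card h5
    have h6 := hasNormalPComplement_iff_forall_mem.1 (hasNormalPComplement_two_of_isCyclic S)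
    have h7 := isPRegular_of_mem_pPrimeCore ((mul_mem_cancel_right (h6 ⟨b, mb⟩ (by
      rw [IsPRegular, ← orderOf_coe, hb]; decide))).1 (h6 (⟨a, ma⟩ * ⟨b, mb⟩) (by
      rw [IsPRegular, ← orderOf_coe, coe_mul, hab]; decide)))
    rw [IsPRegular, ← orderOf_coe, ha] at h7
    exact h7 dvd_rfl
  have := Nat.card_pos (α := K)
  rw [hK]
  omega

theorem nonempty_equiv_alternatingGroup_of_injective {n : ℕ} (hn : 2 ≤ n)
    (hG : commutator G = ⊤) (f : G →* Equiv.Perm (Fin n)) (hf : Function.Injective f)
    (h : n.factorial ≤ 2 * Nat.card G) : Nonempty (G ≃* alternatingGroup (Fin n)) := by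
  have : Nontrivial (Fin n) := Fin.nontrivial_iff_two_le.2 hn
  have hm : ∀ g, f g ∈ alternatingGroup (Fin n) := fun g =>
    Abelianization.commutator_subset_ker (Equiv.Perm.sign.comp f) (hG ▸ mem_top g)
  have h1 : Function.Injective (f.codRestrict _ hm) := fun a b hab => hf (congrArg Subtype.val hab)
  refine ⟨MulEquiv.ofBijective (f.codRestrict _ hm) ?_⟩
  rw [Nat.bijective_iff_injective_and_card]
  have := two_mul_nat_card_alternatingGroup (α := Fin n)
  rw [Nat.card_perm, Nat.card_eq_fintype_card (α := Fin n), Fintype.card_fin] at this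
  exact ⟨h1, le_antisymm (Nat.card_le_card_of_injective _ h1) (by omega)⟩

theorem exists_injective_perm_of_index [IsSimpleGroup G] {H : Subgroup G} {n : ℕ}
    (h : H.index = n) (hn : n ≠ 1) : ∃ f : G →* Equiv.Perm (Fin n), Function.Injective f := by
  let _ := Fintype.ofFinite (G ⧸ H)
  have e : (G ⧸ H) ≃ Fin n := Fintype.equivFinOfCardEq (by rw [← Nat.card_eq_fintype_card]; exact h)
  exact ⟨(e.permCongrHom.toMonoidHom).comp (MulAction.toPermHom G (G ⧸ H)),
    e.permCongrHom.injective.comp (injective_toPermHom_of_isSimpleGroup fun e => by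
      simp [e] at h; omega)⟩

end Cfsg
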