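import Cfsg.Agent.Grp.Nilpotent

/-!
# The Baer–Suzuki theorem (proof of Alperin and Lyons)
-/

set_option autoImplicit false

namespace Cfsg

open Subgroup

universe u

variable {G : Type u} [Group G] [Finite G] {p : ℕ} [Fact p.Prime]

theorem exists_mem_normalizer_closure_inter {K : Set G} (hK : ∀ x ∈ K, ∀ g : G, g * x * g⁻¹ ∈ K)
    {P D : Subgroup G} (hP : IsPGroup p P) (hD : D ≤ P) (h : ¬ K ∩ P ⊆ D) :
    ∃ x ∈ K ∩ P, x ∉ D ∧ x ∈ normalizer ((closure (K ∩ D) : Subgroup G) : Set G) := by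
  obtain ⟨E, ⟨h1, h2, h3⟩, h4⟩ := exists_maximal_of_wellFoundedGT
    (fun E : Subgroup G => D ≤ E ∧ E ≤ P ∧ K ∩ E ⊆ D) ⟨D, le_rfl, hD, Set.inter_subset_right⟩
  have h5 := lt_inf_normalizer_of_isPGroup hP (lt_of_le_of_ne h2 fun h5 => h (h5 ▸ h3))
  obtain ⟨x, hx, hx'⟩ := Set.not_subset.1 fun h6 =>
    h5.not_ge (h4 ⟨h1.trans h5.le, inf_le_left, h6⟩ h5.le)
  refine ⟨x, ⟨hx.1, hx.2.1⟩, hx', mem_normalizer_of_map_conj_le ?_⟩
  rw [MonoidHom.map_closure, closure_le]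
  rintro _ ⟨y, hy, rfl⟩
  exact subset_closure ⟨hK y hy.1 x,
    h3 ⟨hK y hy.1 x, conj_mem_of_mem_normalizer hx.2.2 (h1 hy.2)⟩⟩

/-- **Baer–Suzuki**: a normal subset any two of whose elements lie in a common `p`-subgroup is
contained in `O_p(G)`. -/
theorem subset_pCore_of_forall_isPGroup {K : Set G} (hK : ∀ x ∈ K, ∀ g : G, g * x * g⁻¹ ∈ K)
    (h : ∀ x ∈ K, ∀ y ∈ K, ∃ Q : Subgroup G, IsPGroup p Q ∧ x ∈ Q ∧ y ∈ Q) :
    K ⊆ pCore p G := by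
  have hle : ∀ P Q : Sylow p G, (K ∩ P).ncard ≤ (K ∩ Q).ncard := fun P Q => by
    obtain ⟨g, rfl⟩ := MulAction.exists_smul_eq G P Q
    exact Set.ncard_le_ncard_of_injOn (fun x => g * x * g⁻¹)
      (fun x hx => ⟨hK x hx.1 g, conj_mem_map_conj.2 hx.2⟩) fun x _ y _ e => by simpa using e
  have heq : ∀ P Q : Sylow p G, K ∩ P ⊆ Q → K ∩ P = K ∩ Q := fun P Q e =>
    Set.eq_of_subset_of_ncard_le (fun x hx => ⟨hx.1, e hx⟩) (hle Q P)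
  have key : ∀ P Q : Sylow p G, K ∩ P = K ∩ Q := by
    by_contra! hcon
    obtain ⟨⟨P, Q⟩, h1, h2⟩ := Set.exists_max_image
      {PQ : Sylow p G × Sylow p G | K ∩ PQ.1 ≠ K ∩ PQ.2}
      (fun PQ => (K ∩ ((PQ.1 : Subgroup G) ⊓ PQ.2 : Subgroup G)).ncard) (Set.toFinite _)
      (by obtain ⟨P, Q, e⟩ := hcon; exact ⟨(P, Q), e⟩)
    obtain ⟨x, hx1, hx2, hx3⟩ := exists_mem_normalizer_closure_inter hK P.isPGroup'
      (D := (P : Subgroup G) ⊓ Q) inf_le_left fun e => h1 (heq P Q fun _ hx => (e hx).2)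
    obtain ⟨y, hy1, hy2, hy3⟩ := exists_mem_normalizer_closure_inter hK Q.isPGroup'
      (D := (P : Subgroup G) ⊓ Q) inf_le_right fun e => h1 (heq Q P fun _ hx => (e hx).1).symm
    obtain ⟨S, hS, hxS, hyS⟩ := h x hx1.1 y hy1.1
    set D := closure (K ∩ ((P : Subgroup G) ⊓ Q : Subgroup G))
    have hD : IsPGroup p D := P.isPGroup'.to_le ((closure_le _).2 fun _ hx => hx.2.1)
    obtain ⟨R, hR⟩ := (IsPGroup.to_sup_of_normal_right' (hS.to_inf_left (K := normalizer D)) hD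
      inf_le_right).exists_le_sylow
    have h3 : K ∩ P = K ∩ R := by
      by_contra h3
      refine (h2 (P, R) h3).not_gt (Set.ncard_lt_ncard ⟨fun z hz => ⟨hz.1, hz.2.1,
        hR (mem_sup_right (subset_closure hz))⟩, fun e => hx2 (e ⟨hx1.1, hx1.2,
        hR (mem_sup_left ⟨hxS, hx3⟩)⟩).2⟩)
    have h4 : y ∈ K ∩ P := h3 ▸ ⟨hy1.1, hR (mem_sup_left ⟨hyS, hy3⟩)⟩
    exact hy2 ⟨h4.2, hy1.2⟩
  intro x hx
  obtain ⟨Q, hQ, hxQ, -⟩ := h x hx x hx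
  obtain ⟨R, hR⟩ := hQ.exists_le_sylow
  rw [pCore_eq_iInf_sylow, SetLike.mem_coe, mem_iInf]
  exact fun P => ((key R P).subset ⟨hx, hR hxQ⟩).2

/-- **Baer–Suzuki** for a conjugacy class. -/
theorem mem_pCore_of_forall_conj {x : G}
    (h : ∀ g : G, ∃ Q : Subgroup G, IsPGroup p Q ∧ x ∈ Q ∧ g * x * g⁻¹ ∈ Q) : x ∈ pCore p G := by
  refine subset_pCore_of_forall_isPGroup (K := {y | ∃ g, g * x * g⁻¹ = y}) ?_ ?_ ⟨1, by simp⟩
  · rintro _ ⟨a, rfl⟩ g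
    exact ⟨g * a, by group⟩
  · rintro _ ⟨a, rfl⟩ _ ⟨b, rfl⟩
    obtain ⟨Q, h1, h2, h3⟩ := h (a⁻¹ * b)
    refine ⟨Q.map (MulAut.conj a).toMonoidHom, h1.map _, conj_mem_map_conj.2 h2,
      mem_map_conj.2 ?_⟩
    convert h3 using 1
    group

end Cfsg
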