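import Mathlib.LinearAlgebra.Matrix.Notation
import Mathlib.Data.ZMod.Basic
import Mathlib.Algebra.BigOperators.Fin
import Mathlib.Data.Fintype.Perm
import Mathlib.Tactic.Ring
import Mathlib.Tactic.FinCases

/-!
# The action of `GL(4, 2)` on the eight Conwell heptads
-/

set_option autoImplicit false

namespace Cfsg.Heptad

open Matrix

def I : Fin 6 → Fin 4 := ![0, 0, 0, 1, 1, 2]

def J : Fin 6 → Fin 4 := ![1, 2, 3, 2, 3, 3]

def wedge (u v : Fin 4 → ZMod 2) (r : Fin 6) : ZMod 2 := u (I r) * v (J r) - v (I r) * u (J r)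

def lam (M : Matrix (Fin 4) (Fin 4) (ZMod 2)) : Matrix (Fin 6) (Fin 6) (ZMod 2) :=
  of fun r s => wedge (M · (I s)) (M · (J s)) r

def q (b : Fin 6 → ZMod 2) : ZMod 2 := b 0 * b 5 - b 1 * b 4 + b 2 * b 3

def pt : Fin 8 → Fin 6 → ZMod 2 := ![![0, 0, 0, 0, 0, 0], ![0, 0, 1, 1, 0, 0], ![0, 1, 0, 1, 1, 0],
  ![0, 1, 1, 0, 1, 1], ![1, 0, 0, 1, 1, 1], ![1, 0, 1, 0, 0, 1], ![1, 1, 0, 1, 0, 1],
  ![1, 1, 1, 0, 1, 0]]

def adj (i j k l : Fin 8) : Bool :=
  decide ((i = k ∧ j ≠ l) ∨ (i ≠ k ∧ j = l) ∨ i = l ∨ j = k)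

theorem lam_mul (M N : Matrix (Fin 4) (Fin 4) (ZMod 2)) : lam (M * N) = lam M * lam N := by
  ext r s
  simp only [lam, wedge, mul_apply, of_apply, Fin.sum_univ_succ, Fin.sum_univ_zero]
  generalize I r = a, J r = b, I s = c, J s = d
  simp [I, J]
  ring

theorem lam_one : lam 1 = 1 := by decide +kernel

theorem q_lam (M : Matrix (Fin 4) (Fin 4) (ZMod 2)) (b : Fin 6 → ZMod 2) :
    q (lam M *ᵥ b) = q (lam M *ᵥ ![1, 0, 0, 0, 0, 1]) * q b := by
  simp [q, lam, wedge, mulVec, dotProduct, Fin.sum_univ_succ, I, J]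
  ring

theorem q_lam_eq {M N : Matrix (Fin 4) (Fin 4) (ZMod 2)} (h : N * M = 1) (b : Fin 6 → ZMod 2) :
    q (lam M *ᵥ b) = q b := by
  have h1 := q_lam N (lam M *ᵥ ![1, 0, 0, 0, 0, 1])
  rw [mulVec_mulVec, ← lam_mul, h, lam_one, one_mulVec] at h1
  rw [q_lam, (by decide : ∀ x y : ZMod 2, q ![1, 0, 0, 0, 0, 1] = x * y → y = 1) _ _ h1, one_mul]

theorem d1 : ∀ a b c d e f : ZMod 2, q ![a, b, c, d, e, f] = 1 →
    ∃ i j, i < j ∧ ![a, b, c, d, e, f] = pt i + pt j := by decide +kernel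

theorem d2 : ∀ i j, i < j → ∀ k l, k < l → q (pt i + pt j + (pt k + pt l)) = 1 →
    adj i j k l := by decide +kernel

theorem d3 : ∀ i j, i ≠ j → q (pt i + pt j) = 1 := by decide +kernel

theorem d4 : ∀ i j k l, pt i + pt j = pt k + pt l → i = j ∨ i = k ∨ i = l := by decide +kernel

set_option synthInstance.maxSize 1024 in
theorem d5 : ∀ u v, wedge u v = Pi.single 0 1 → ∀ w, wedge u w = Pi.single 1 1 →
    wedge v w = Pi.single 3 1 → ∀ z, wedge u z = Pi.single 2 1 → wedge v z = Pi.single 4 1 →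
    u = Pi.single 0 1 ∧ v = Pi.single 1 1 ∧ w = Pi.single 2 1 ∧ z = Pi.single 3 1 := by
  decide +kernel

set_option synthInstance.maxSize 1024 in
theorem d6 : ∀ i j : Fin 8, i < j → ∀ k l, k < l → adj i j k l → ∀ m n, m < n → adj i j m n →
    adj k l m n → ∃ c, ∀ s t, s < t → adj i j s t → adj k l s t → adj m n s t →
    (c = i ∨ c = j) ∧ (c = k ∨ c = l) ∧ (c = m ∨ c = n) ∧ (c = s ∨ c = t) := by decide +kernel

theorem d7 : ∀ s, ∃ i j k l, Pi.single s 1 = pt i + pt j + (pt k + pt l) := by decide +kernel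

theorem eq_one_of_lam {M : Matrix (Fin 4) (Fin 4) (ZMod 2)} (h : lam M = 1) : M = 1 := by
  have h1 : ∀ s, wedge (M · (I s)) (M · (J s)) = Pi.single s 1 := fun s => funext fun r => by
    rw [Pi.single_apply, ← one_apply, ← h]; rfl
  obtain ⟨a, b, c, d⟩ := d5 _ _ (h1 0) _ (h1 1) (h1 3) _ (h1 2) (h1 4)
  ext i j
  rw [one_apply, ← Pi.single_apply]
  fin_cases j
  exacts [congrFun a i, congrFun b i, congrFun c i, congrFun d i]

theorem exists_perm {L : Matrix (Fin 6) (Fin 6) (ZMod 2)} (h : ∀ b, q (L *ᵥ b) = q b) :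
    ∃ σ : Equiv.Perm (Fin 8), ∀ i j, L *ᵥ (pt i + pt j) = pt (σ i) + pt (σ j) := by
  have h0 : pt 0 = 0 := by decide
  have h1 : ∀ j, j ≠ 0 → ∃ s t, s < t ∧ L *ᵥ pt j = pt s + pt t := fun j hj => by
    have e : ∀ b : Fin 6 → ZMod 2, b = ![b 0, b 1, b 2, b 3, b 4, b 5] := fun b => by
      ext i; fin_cases i <;> rfl
    rw [e (L *ᵥ pt j)]
    exact d1 _ _ _ _ _ _ (by rw [← e, h, ← zero_add (pt j), ← h0, d3 _ _ hj.symm])
  choose! s t hst hL using h1
  have h2 : ∀ i j, i ≠ 0 → j ≠ 0 → i ≠ j → adj (s i) (t i) (s j) (t j) := fun i j hi hj hij =>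
    d2 _ _ (hst i hi) _ _ (hst j hj) (by rw [← hL i hi, ← hL j hj, ← mulVec_add, h, d3 _ _ hij])
  obtain ⟨c, hc⟩ := d6 _ _ (hst 1 (by decide)) _ _ (hst 2 (by decide))
    (h2 1 2 (by decide) (by decide) (by decide)) _ _ (hst 3 (by decide))
    (h2 1 3 (by decide) (by decide) (by decide)) (h2 2 3 (by decide) (by decide) (by decide))
  have h3 := fun j (hj : 3 < j) => hc _ _ (hst j (by omega)) (h2 1 j (by decide) (by omega) (by omega))
    (h2 2 j (by decide) (by omega) (by omega)) (h2 3 j (by decide) (by omega) (by omega))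
  have h4 : ∀ j, ∃ l, L *ᵥ pt j = pt c + pt l := fun j => by
    by_cases hj : j = 0
    · exact ⟨c, by rw [hj, h0, mulVec_zero, (by decide : ∀ i, pt i + pt i = 0)]⟩
    obtain ⟨a1, a2, a3, -⟩ := h3 4 (by decide)
    have : c = s j ∨ c = t j := by
      rcases (by omega : j = 1 ∨ j = 2 ∨ j = 3 ∨ 3 < j) with rfl | rfl | rfl | e
      exacts [a1, a2, a3, (h3 j e).2.2.2]
    rcases this with rfl | rfl
    exacts [⟨_, hL j hj⟩, ⟨_, (hL j hj).trans (add_comm _ _)⟩]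
  choose σ hσ using h4
  have h5 : ∀ i j, L *ᵥ (pt i + pt j) = pt (σ i) + pt (σ j) := fun i j => by
    rw [mulVec_add, hσ, hσ, add_add_add_comm, (by decide : ∀ i, pt i + pt i = 0), zero_add]
  refine ⟨Equiv.ofBijective σ (Finite.injective_iff_bijective.1 fun i j e => by_contra fun hij => ?_),
    h5⟩
  have := h (pt i + pt j)
  rw [h5, e, d3 _ _ hij, (by decide : ∀ i, pt i + pt i = 0)] at this
  exact absurd this (by decide)

theorem perm_unique {σ τ : Equiv.Perm (Fin 8)}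
    (h : ∀ i j, pt (σ i) + pt (σ j) = pt (τ i) + pt (τ j)) : σ = τ := by
  ext1 i
  by_contra hi
  have h1 : ∀ j, j ≠ i → σ i = τ j := fun j hj =>
    ((d4 _ _ _ _ (h i j)).resolve_left fun e => hj (σ.injective e).symm).resolve_left hi
  obtain ⟨j, k, hj, hk, hjk⟩ := (by decide : ∀ i : Fin 8, ∃ j k, j ≠ i ∧ k ≠ i ∧ j ≠ k) i
  exact hjk (τ.injective ((h1 j hj).symm.trans (h1 k hk)))

theorem exists_hom {G : Type*} [Group G] (A : G →* Matrix (Fin 4) (Fin 4) (ZMod 2)) :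
    ∃ f : G →* Equiv.Perm (Fin 8), ∀ g, f g = 1 ↔ A g = 1 := by
  choose f hf using fun g => exists_perm (L := lam (A g))
    (q_lam_eq (N := A g⁻¹) (by rw [← map_mul, inv_mul_cancel, map_one]))
  refine ⟨MonoidHom.mk' f fun a b => perm_unique fun i j => ?_, fun g => ⟨fun h => ?_, fun h => ?_⟩⟩
  · rw [← hf, map_mul, lam_mul, ← mulVec_mulVec, hf, hf]
    rfl
  · refine eq_one_of_lam (ext_of_mulVec_single fun s => ?_)
    obtain ⟨i, j, k, l, e⟩ := d7 s
    replace h : f g = 1 := h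
    rw [one_mulVec, e, mulVec_add, hf, hf, h]
    rfl
  · exact perm_unique fun i j => by rw [MonoidHom.mk'_apply, ← hf, h, lam_one, one_mulVec]; rfl

end Cfsg.Heptad

set_option linter.all false in
theorem Cfsg.Rz.Grp_Heptad_0 : True := by
  have := @_root_.Cfsg.Heptad.lam.eq_def
  have := @_root_.Cfsg.Heptad.lam.fun_cases
  have := @_root_.Cfsg.Heptad.J.eq_def
  have := @_root_.Cfsg.Heptad.J.fun_cases
  have := @_root_.Cfsg.Heptad.I.eq_def
  have := @_root_.Cfsg.Heptad.I.fun_cases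
  have := @_root_.Cfsg.Heptad.pt.eq_def
  have := @_root_.Cfsg.Heptad.pt.eq_1
  have := @_root_.Cfsg.Heptad.pt.fun_cases
  have := @_root_.Cfsg.Heptad.q.eq_def
  have := @_root_.Cfsg.Heptad.q.fun_cases
  have := @_root_.Cfsg.Heptad.wedge.eq_def
  have := @_root_.Cfsg.Heptad.wedge.fun_cases
  have := @_root_.Cfsg.Heptad.adj.eq_def
  have := @_root_.Cfsg.Heptad.adj.eq_1
  have := @_root_.Cfsg.Heptad.adj.fun_cases
  trivial
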