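import Cfsg.Agent.Grp.Tate

/-!
# Sylow subgroups with elementary abelian abelianization

General tools, and the symmetric and alternating groups.
-/

set_option autoImplicit false

namespace Cfsg

open Subgroup

universe u v

variable {G : Type u} [Group G] {G' : Type v} [Group G'] {p : ℕ}

/-- `G/G'` has exponent dividing `p`. -/
def AbExp (p : ℕ) (G : Type u) [Group G] : Prop := ∀ x : G, x ^ p ∈ commutator G

/-- The Sylow `p`-subgroups `P` of `G` have `P/P'` of exponent dividing `p`. -/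
def SylowEA (p : ℕ) (G : Type u) [Group G] : Prop := ∀ P : Sylow p G, AbExp p (P : Subgroup G)

theorem AbExp.of_surjective (h : AbExp p G) (f : G →* G') (hf : Function.Surjective f) :
    AbExp p G' := fun y => by
  obtain ⟨x, rfl⟩ := hf y
  have := mem_map_of_mem f (h x)
  rwa [map_commutator_eq, map_pow, MonoidHom.range_eq_top.mpr hf] at this

/-- The elements of `P` whose `p`-th power lies in `P'`. -/
def powComm (p : ℕ) (P : Subgroup G) : Subgroup G :=
  ((powMonoidHom p).comp (Abelianization.of : P →* Abelianization P)).ker.map P.subtype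

theorem mem_commutator_iff_coe {P : Subgroup G} {x : P} :
    x ∈ commutator P ↔ (x : G) ∈ ⁅P, P⁆ := by
  rw [← P.map_subtype_commutator]
  exact (mem_map_iff_mem (subtype_injective P)).symm

theorem mem_powComm {P : Subgroup G} {x : G} : x ∈ powComm p P ↔ x ∈ P ∧ x ^ p ∈ ⁅P, P⁆ := by
  have key : ∀ y : P, y ∈ ((powMonoidHom p).comp
      (Abelianization.of : P →* Abelianization P)).ker ↔ (y : G) ^ p ∈ ⁅P, P⁆ := fun y => by
    rw [MonoidHom.mem_ker, MonoidHom.comp_apply, powMonoidHom_apply, ← map_pow,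
      ← MonoidHom.mem_ker, Abelianization.ker_of, mem_commutator_iff_coe]
    rfl
  constructor
  · rintro ⟨y, hy, rfl⟩
    exact ⟨y.2, (key y).mp hy⟩
  · rintro ⟨h1, h2⟩
    exact ⟨⟨x, h1⟩, (key _).mpr h2, rfl⟩

theorem powComm_le (P : Subgroup G) : powComm p P ≤ P := fun _ h => (mem_powComm.mp h).1

theorem mem_powComm_of_pow_eq_one {P : Subgroup G} {x : G} (hx : x ∈ P) (h : x ^ p = 1) :
    x ∈ powComm p P := mem_powComm.mpr ⟨hx, h ▸ one_mem _⟩

theorem powComm_mono {P Q : Subgroup G} (h : P ≤ Q) : powComm p P ≤ powComm p Q := fun _ hx =>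
  mem_powComm.mpr ⟨h (mem_powComm.mp hx).1, commutator_mono h h (mem_powComm.mp hx).2⟩

theorem map_powComm_le (f : G →* G') (P : Subgroup G) :
    (powComm p P).map f ≤ powComm p (P.map f) := by
  rintro _ ⟨x, hx, rfl⟩
  refine mem_powComm.mpr ⟨mem_map_of_mem f (mem_powComm.mp hx).1, ?_⟩
  rw [← map_pow, ← Subgroup.map_commutator]
  exact mem_map_of_mem f (mem_powComm.mp hx).2

theorem conj_mem_powComm {P : Subgroup G} {g x : G} (hg : g ∈ normalizer (P : Set G))
    (hx : x ∈ powComm p P) : g * x * g⁻¹ ∈ powComm p P := by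
  have := map_powComm_le (p := p) (MulAut.conj g).toMonoidHom P (mem_map_of_mem _ hx)
  rwa [map_conj_eq_iff.mpr hg] at this

theorem abExp_iff_le_powComm {P : Subgroup G} : AbExp p P ↔ P ≤ powComm p P :=
  ⟨fun h x hx => mem_powComm.mpr ⟨hx, mem_commutator_iff_coe.mp (h ⟨x, hx⟩)⟩,
    fun h x => mem_commutator_iff_coe.mpr (mem_powComm.mp (h x.2)).2⟩

theorem sylowEA_of_abExp [Finite G] [Fact p.Prime] {P : Subgroup G} (hP : IsPGroup p P)
    (hi : ¬ p ∣ P.index) (h : AbExp p P) : SylowEA p G := fun Q =>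
  h.of_surjective ((hP.toSylow hi).equiv Q).toMonoidHom ((hP.toSylow hi).equiv Q).surjective

theorem SylowEA.of_surjective [Finite G] [Fact p.Prime] (h : SylowEA p G) (f : G →* G')
    (hf : Function.Surjective f) : SylowEA p G' := by
  have := Finite.of_surjective f hf
  obtain ⟨P⟩ : Nonempty (Sylow p G) := inferInstance
  exact sylowEA_of_abExp (P.isPGroup'.map f) (P.mapSurjective hf).not_dvd_index
    ((h P).of_surjective (f.subgroupMap P) (f.subgroupMap_surjective P))

theorem sylowEA_of_le [Finite G] [Fact p.Prime] {P H : Subgroup G} (hle : P ≤ H)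
    (hP : IsPGroup p P) (hi : ¬ p ∣ P.relIndex H) (h : P ≤ powComm p P) : SylowEA p H :=
  sylowEA_of_abExp hP.comap_subtype hi ((abExp_iff_le_powComm.mpr h).of_surjective
    (subgroupOfEquivOfLe hle).symm.toMonoidHom (subgroupOfEquivOfLe hle).symm.surjective)

theorem SylowEA.inf_le_powComm [Finite G] [Fact p.Prime] {P H : Subgroup G} (h : SylowEA p H)
    (hP : IsPGroup p P) (hi : ¬ p ∣ P.relIndex H) : P ⊓ H ≤ powComm p (P ⊓ H) := by
  have := h ((hP.comap_subtype (K := H)).toSylow hi)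
  let e := subgroupOfEquivOfLe (inf_le_right : P ⊓ H ≤ H)
  refine abExp_iff_le_powComm.mp (AbExp.of_surjective ?_ e.toMonoidHom e.surjective)
  rw [inf_subgroupOf_right]
  exact this

theorem SylowEA.range [Finite G] [Fact p.Prime] (h : SylowEA p G) (f : G →* G') :
    SylowEA p f.range := h.of_surjective f.rangeRestrict f.rangeRestrict_surjective

theorem SylowEA.of_range [Finite G] [Fact p.Prime] {f : G →* G'} (hf : Function.Injective f)
    (h : SylowEA p f.range) : SylowEA p G :=
  have := Finite.of_surjective _ f.rangeRestrict_surjective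
  h.of_surjective (MonoidHom.ofInjective hf).symm.toMonoidHom
    (MonoidHom.ofInjective hf).symm.surjective

/-! ### Relative Sylow subgroups -/

theorem not_dvd_relIndex_of_le_normalizer [Finite G] {S H K : Subgroup G}
    (hi : ¬ p ∣ S.relIndex K) (hle : H ≤ K) (hn : K ≤ normalizer (H : Set G)) :
    ¬ p ∣ S.relIndex H := fun h => by
  have := normal_subgroupOf_of_le_normalizer hn
  refine hi (h.trans ?_)
  rw [← relIndex_subgroupOf hle]
  exact relIndex_normal_dvd_index _ _

theorem not_dvd_relIndex_of_normalizes [Finite G] {S H : Subgroup G}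
    (hi : ¬ p ∣ S.index) (hn : S ≤ normalizer (H : Set G)) : ¬ p ∣ S.relIndex H :=
  not_dvd_relIndex_of_le_normalizer (K := S ⊔ H)
    (fun h => hi (h.trans (relIndex_dvd_index_of_le le_sup_left))) le_sup_right
    (sup_le hn le_normalizer)

theorem exists_conj_mem_of_not_dvd_relIndex [Finite G] [Fact p.Prime] {P H : Subgroup G}
    (hP : IsPGroup p P) (hi : ¬ p ∣ P.relIndex H) {x : G} (hx : x ∈ H) {k : ℕ}
    (hk : x ^ p ^ k = 1) : ∃ g ∈ H, g * x * g⁻¹ ∈ P := by
  have h1 : IsPGroup p (zpowers (⟨x, hx⟩ : H)) := by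
    rintro ⟨_, n, rfl⟩
    refine ⟨k, Subtype.ext (Subtype.ext ?_)⟩
    change (x ^ n) ^ p ^ k = 1
    rw [← zpow_natCast, ← zpow_mul, mul_comm, zpow_mul, zpow_natCast, hk, one_zpow]
  obtain ⟨g, hg⟩ := exists_map_conj_le_sylow h1 ((hP.comap_subtype (K := H)).toSylow hi)
  exact ⟨g, g.2, hg (mem_map_of_mem _ (mem_zpowers _))⟩

theorem relIndex_sup_sup_dvd [Finite G] {K T U : Subgroup G} (hle : T ≤ U)
    (hn : U ≤ normalizer (K : Set G)) : (T ⊔ K).relIndex (U ⊔ K) ∣ T.relIndex U := by
  have h1 := card_sup_mul_card_inf_of_le_normalizer hn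
  have h2 := card_sup_mul_card_inf_of_le_normalizer (hle.trans hn)
  have h3 := card_mul_relIndex (sup_le_sup_right hle K)
  have h4 := card_mul_relIndex hle
  have h5 := card_mul_relIndex (inf_le_inf_right K hle)
  refine ⟨(T ⊓ K).relIndex (U ⊓ K), Nat.eq_of_mul_eq_mul_left
    (Nat.mul_pos (Nat.card_pos (α := T)) (Nat.card_pos (α := K))) ?_⟩
  rw [← h3, ← h4, ← h5] at h1
  rw [mul_right_comm, ← h1, ← h2]
  ring

theorem inf_sup_eq_of_normal_of_not_dvd_index [Finite G] [hp : Fact p.Prime] {P : Subgroup G}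
    (hP : IsPGroup p P) (hi : ¬ p ∣ P.index) (S T : Subgroup G) [S.Normal] [T.Normal] :
    P ⊓ (S ⊔ T) = (P ⊓ S) ⊔ (P ⊓ T) := by
  have hle : (P ⊓ S) ⊔ (P ⊓ T) ≤ P ⊓ (S ⊔ T) := le_inf_sup
  refine le_antisymm (relIndex_eq_one.mp ?_) hle
  have hS : ¬ p ∣ P.relIndex S := fun h => hi (h.trans (relIndex_normal_dvd_index _ _))
  have hT : ¬ p ∣ P.relIndex T := fun h => hi (h.trans (relIndex_normal_dvd_index _ _))
  have h1 := card_mul_relIndex (hle.trans inf_le_right)
  have h2 := card_sup_mul_card_inf_of_le_normalizer (le_normalizer_of_normal (H := T) (K := S))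
  have h3 := card_sup_mul_card_inf_of_le_normalizer (H := P ⊓ S) (N := P ⊓ T)
    (le_normalizer_inf (inf_le_left.trans le_normalizer) le_normalizer_of_normal)
  rw [← h1, ← card_inf_mul_relIndex P S, ← card_inf_mul_relIndex P T, mul_mul_mul_comm, ← h3,
    ← card_inf_mul_relIndex P (S ⊓ T), ← inf_inf_distrib_left, mul_mul_mul_comm] at h2
  refine Nat.eq_one_of_dvd_coprimes (IsPGroup.coprime_card_of_not_dvd (hP.to_le inf_le_left)
    (n := P.relIndex S * P.relIndex T) (mt hp.out.dvd_mul.mp (not_or.mpr ⟨hS, hT⟩)))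
    (relIndex_dvd_card _ _) ?_
  rw [← Nat.eq_of_mul_eq_mul_left (Nat.mul_pos Nat.card_pos Nat.card_pos) h2]
  exact (Dvd.intro _ (relIndex_mul_relIndex _ _ _ hle inf_le_right)).mul_right _

theorem inf_iSup_le_of_normal [Finite G] [Fact p.Prime] {P : Subgroup G}
    (hP : IsPGroup p P) (hi : ¬ p ∣ P.index) {ι : Type*} [Finite ι] (H : ι → Subgroup G)
    (hn : ∀ i, (H i).Normal) : P ⊓ ⨆ i, H i ≤ ⨆ i, P ⊓ H i := by
  classical
  have := Fintype.ofFinite ι
  suffices h : ∀ s : Finset ι, (⨆ i ∈ s, H i).Normal ∧ P ⊓ ⨆ i ∈ s, H i ≤ ⨆ i ∈ s, P ⊓ H i by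
    simpa using (h Finset.univ).2
  intro s
  induction s using Finset.induction_on with
  | empty => simp
  | insert i s _ ih =>
    obtain ⟨ih1, ih2⟩ := ih
    rw [Finset.iSup_insert, Finset.iSup_insert]
    exact ⟨inferInstance, (inf_sup_eq_of_normal_of_not_dvd_index hP hi _ _).le.trans
      (sup_le_sup_left ih2 _)⟩

theorem inf_le_iSup_inf [Finite G] [Fact p.Prime] {P K : Subgroup G}
    (hP : IsPGroup p P) (hi : ¬ p ∣ P.relIndex K) {ι : Type*} [Finite ι] (H : ι → Subgroup G)
    (hle : ∀ i, H i ≤ K) (hn : ∀ i, K ≤ normalizer (H i : Set G)) (hK : K ≤ ⨆ i, H i) :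
    P ⊓ K ≤ ⨆ i, P ⊓ H i := by
  have h1 := inf_iSup_le_of_normal (hP.comap_subtype (K := K)) hi (fun i => (H i).subgroupOf K)
    (fun i => normal_subgroupOf_of_le_normalizer (hn i))
  have h2 : ⨆ i, (H i).subgroupOf K = ⊤ := by
    refine map_injective K.subtype_injective ?_
    rw [Subgroup.map_iSup, ← MonoidHom.range_eq_map, range_subtype]
    simp_rw [map_subgroupOf_eq_of_le (hle _)]
    exact le_antisymm (iSup_le hle) hK
  rw [h2, inf_top_eq] at h1
  have h3 := map_mono (f := K.subtype) h1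
  rw [Subgroup.map_iSup] at h3
  refine (subgroupOf_map_subtype P K).ge.trans (h3.trans (iSup_mono fun i => ?_))
  rintro _ ⟨x, hx, rfl⟩
  exact hx

/-- A subgroup `Y` with at most four cosets in `S`, detected by `H`. -/
theorem inf_le_of_two_cosets {S Y H : Subgroup G} {X : Set G} (hX : S ≤ closure X) (hYH : Y ≤ H)
    {a b : G} (ha : ∀ y ∈ Y, a * y * a⁻¹ ∈ Y) (hb : ∀ y ∈ Y, b * y * b⁻¹ ∈ Y)
    (haa : a * a = 1) (hbb : b * b = 1) (hab : Commute a b)
    (h : ∀ x ∈ X, x ∈ Y ∨ a * x ∈ Y ∨ b * x ∈ Y)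
    (h1 : a ∈ H → a ∈ Y) (h2 : b ∈ H → b ∈ Y) (h3 : a * b ∈ H → a * b ∈ Y) : S ⊓ H ≤ Y := by
  let E : Subgroup G := closure {a, b}
  have hE : ∀ e ∈ E, e = 1 ∨ e = a ∨ e = b ∨ e = a * b := by
    have hba : b * a = a * b := hab.eq.symm
    have e1 : a * (a * b) = b := by rw [← mul_assoc, haa, one_mul]
    have e2 : b * (a * b) = a := by rw [← hba, ← mul_assoc, hbb, one_mul]
    have e3 : a * b * a = b := by rw [mul_assoc, hba, e1]
    have e4 : a * b * b = a := by rw [mul_assoc, hbb, mul_one]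
    have e5 : a * b * (a * b) = 1 := by rw [← mul_assoc, e3, hbb]
    intro e he
    induction he using closure_induction with
    | mem x hx => rcases hx with rfl | rfl <;> simp
    | one => simp
    | mul x y _ _ hx hy =>
      rcases hx with rfl | rfl | rfl | rfl <;> rcases hy with rfl | rfl | rfl | rfl <;> simp [*]
    | inv x _ hx =>
      rcases hx with rfl | rfl | rfl | rfl
      · simp
      · simp [inv_eq_of_mul_eq_one_right haa]
      · simp [inv_eq_of_mul_eq_one_right hbb]
      · simp only [inv_eq_of_mul_eq_one_right e5, or_true]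
  have hn : E ≤ normalizer (Y : Set G) := by
    have : ∀ c : G, c * c = 1 → (∀ y ∈ Y, c * y * c⁻¹ ∈ Y) → c ∈ normalizer (Y : Set G) :=
      fun c hc hy => mem_normalizer_iff.mpr fun y => ⟨hy y, fun h' => by
        have := hy _ h'
        rwa [inv_eq_of_mul_eq_one_right hc, ← mul_assoc, ← mul_assoc, hc, one_mul, mul_assoc, hc,
          mul_one] at this⟩
    refine (closure_le _).mpr ?_
    rintro x (rfl | rfl)
    exacts [this _ haa ha, this _ hbb hb]
  have haE : a ∈ E := subset_closure (by simp)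
  have hbE : b ∈ E := subset_closure (by simp)
  have hS : S ≤ E ⊔ Y := hX.trans ((closure_le _).mpr fun x hx => by
    rcases h x hx with h' | h' | h'
    · exact mem_sup_right h'
    · exact (mul_mem_cancel_left (mem_sup_left haE)).mp (mem_sup_right h')
    · exact (mul_mem_cancel_left (mem_sup_left hbE)).mp (mem_sup_right h'))
  rintro x ⟨hx, hxH⟩
  obtain ⟨e, he, y, hy, rfl⟩ := (mem_sup_of_le_normalizer hn).mp (hS hx)
  have heH : e ∈ H := (mul_mem_cancel_right (hYH hy)).mp hxH
  refine mul_mem ?_ hy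
  rcases hE e he with rfl | rfl | rfl | rfl
  exacts [one_mem _, h1 heH, h2 heH, h3 heH]

/-! ### Symmetric groups -/

section Perm

open Equiv

/-- The base group of `C_p ≀ Sym(I)`. -/
def wrBase (p : ℕ) (I : Type u) : (I → Multiplicative (ZMod p)) →* Perm (I × ZMod p) where
  toFun f := prodCongrRight fun i => Equiv.addLeft (f i).toAdd
  map_one' := by ext x <;> simp
  map_mul' f g := by ext x <;> simp

/-- The top group of `C_p ≀ Sym(I)`. -/
def wrTop (p : ℕ) (I : Type u) : Perm I →* Perm (I × ZMod p) where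
  toFun σ := prodCongrLeft fun _ => σ
  map_one' := by ext x <;> simp
  map_mul' f g := by ext x <;> simp

/-- The structure of a Sylow subgroup of a symmetric group. -/
theorem exists_sylow_perm [hp : Fact p.Prime] (X : Type u) [Fintype X] [DecidableEq X] :
    ∃ (ε : (Fin (Nat.card X / p) → Multiplicative (ZMod p)) →* Perm X)
      (τ : Perm (Fin (Nat.card X / p)) →* Perm X), (∀ σ, Perm.sign (τ σ) = Perm.sign σ ^ p) ∧
      (∀ σ, τ σ ∈ normalizer (ε.range : Set (Perm X))) ∧
      ∀ T : Sylow p (Perm (Fin (Nat.card X / p))),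
        IsPGroup p ((T : Subgroup _).map τ ⊔ ε.range : Subgroup (Perm X)) ∧
        ¬ p ∣ ((T : Subgroup _).map τ ⊔ ε.range : Subgroup (Perm X)).index := by
  set m := Nat.card X / p with hm
  have : NeZero p := ⟨hp.out.ne_zero⟩
  obtain ⟨ι⟩ : Nonempty (Fin m × ZMod p ↪ X) := by
    rw [Function.Embedding.nonempty_iff_card_le, Fintype.card_prod, Fintype.card_fin, ZMod.card,
      ← Nat.card_eq_fintype_card]
    exact Nat.div_mul_le_self _ _
  let φ := Perm.viaEmbeddingHom ι
  have hφ : Function.Injective φ := Perm.viaEmbeddingHom_injective ι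
  have hn : ∀ σ, wrTop p (Fin m) σ ∈ normalizer ((wrBase p (Fin m)).range : Set _) := fun σ => by
    refine mem_normalizer_of_forall_conj_mem ?_
    rintro _ ⟨f, rfl⟩
    refine ⟨f ∘ σ.symm, ?_⟩
    rw [← map_inv]
    ext x <;> simp [wrBase, wrTop]
  have hn' : ∀ σ, φ.comp (wrTop p (Fin m)) σ ∈
      normalizer ((φ.comp (wrBase p (Fin m))).range : Set _) := fun σ => by
    rw [← MonoidHom.map_range]
    exact le_normalizer_map φ (mem_map_of_mem φ (hn σ))
  refine ⟨φ.comp (wrBase p _), φ.comp (wrTop p _), fun σ => ?_, hn', fun T => ?_⟩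
  · have : Perm.sign (φ (wrTop p (Fin m) σ)) = Perm.sign (wrTop p (Fin m) σ) := by
      rw [← Perm.sign_extendDomain (wrTop p (Fin m) σ) (Equiv.ofInjective ι.1 ι.2)]
      congr 1
      simp only [φ, Perm.viaEmbeddingHom_apply, Perm.viaEmbedding]
      congr
    exact this.trans (by simp [wrTop, Perm.sign_prodCongrLeft])
  · have hc : Nat.card ((T : Subgroup _).map (φ.comp (wrTop p _)) ⊔
        (φ.comp (wrBase p (Fin m))).range : Subgroup (Perm X)) =
        p ^ (Nat.card (Perm X)).factorization p := by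
      have i1 : Function.Injective (wrTop p (Fin m)) := (injective_iff_map_eq_one _).mpr
        fun σ h => Equiv.ext fun i => congrArg Prod.fst (DFunLike.congr_fun h (i, 0))
      have i2 : Function.Injective (wrBase p (Fin m)) := (injective_iff_map_eq_one _).mpr
        fun f h => funext fun i => by simpa [wrBase] using DFunLike.congr_fun h (i, 0)
      rw [card_sup_of_le_normalizer_of_disjoint (by rintro _ ⟨σ, -, rfl⟩; exact hn' σ),
        card_map_of_injective (by exact hφ.comp i1), MonoidHom.range_eq_map,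
        card_map_of_injective (by exact hφ.comp i2), T.card_eq_multiplicity, card_top, Nat.card_perm,
        Nat.card_perm, Nat.card_fun, Nat.card_eq_fintype_card (α := Multiplicative _),
        Fintype.card_multiplicative, ZMod.card, ← pow_add, Nat.card_eq_fintype_card (α := Fin m),
        Fintype.card_fin, Nat.factorization_def _ hp.out, Nat.factorization_def _ hp.out,
        ← padicValNat_factorial_mul, ← padicValNat_factorial_mul_add m
          (Nat.mod_lt (Nat.card X) hp.out.pos), Nat.div_add_mod]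
      refine eq_bot_iff.mpr ?_
      rintro _ ⟨⟨σ, -, rfl⟩, f, hf⟩
      have : σ = 1 := Equiv.ext fun i =>
        (congrArg Prod.fst (DFunLike.congr_fun (hφ hf) (i, 0))).symm
      rw [this, map_one]
      exact one_mem _
    exact ⟨(Sylow.ofCard _ hc).isPGroup', (Sylow.ofCard _ hc).not_dvd_index⟩

theorem closure_pow_eq_one_of_sylow [Finite G] [Fact p.Prime] {P : Subgroup G} (hP : IsPGroup p P)
    (hi : ¬ p ∣ P.index) (h : P ≤ closure {x | x ∈ P ∧ x ^ p = 1}) (Q : Sylow p G) :
    (Q : Subgroup G) ≤ closure {x | x ∈ Q ∧ x ^ p = 1} := by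
  obtain ⟨g, rfl⟩ := MulAction.exists_smul_eq G (hP.toSylow hi) Q
  rw [Sylow.coe_smul_eq_map']
  refine (map_mono h).trans ?_
  rw [MonoidHom.map_closure]
  refine closure_mono ?_
  rintro _ ⟨x, ⟨h1, h2⟩, rfl⟩
  exact ⟨(Sylow.coe_smul_eq_map' g _).ge (mem_map_of_mem _ h1), by rw [← map_pow, h2, map_one]⟩

theorem exists_sylow_perm_inf_le_closure [hp : Fact p.Prime] (X : Type u) [Fintype X]
    [DecidableEq X] (ih : ∀ T : Sylow p (Perm (Fin (Nat.card X / p))),
      (T : Subgroup _) ≤ closure {x | x ∈ T ∧ x ^ p = 1}) : ∃ W : Subgroup (Perm X),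
    IsPGroup p W ∧ ¬ p ∣ W.index ∧ ∀ H, alternatingGroup X ≤ H →
      W ⊓ H ≤ closure {x | x ∈ W ⊓ H ∧ x ^ p = 1} := by
  obtain ⟨ε, τ, hs, hn, h⟩ := exists_sylow_perm (p := p) X
  obtain ⟨T⟩ : Nonempty (Sylow p (Perm (Fin (Nat.card X / p)))) := inferInstance
  refine ⟨_, (h T).1, (h T).2, fun H hH => ?_⟩
  have hT : ∀ σ : Perm (Fin (Nat.card X / p)), σ ^ p = 1 → τ σ ∈ H := fun σ hσ =>
    hH (Perm.mem_alternatingGroup.mpr (by rw [hs, ← map_pow, hσ, map_one]))
  have h1 : (T : Subgroup _).map τ ≤ closure {x | x ∈ ((T : Subgroup _).map τ ⊔ ε.range) ⊓ H ∧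
      x ^ p = 1} := by
    refine (map_mono (ih T)).trans ?_
    rw [MonoidHom.map_closure]
    refine closure_mono ?_
    rintro _ ⟨σ, ⟨h1, h2⟩, rfl⟩
    exact ⟨⟨mem_sup_left (mem_map_of_mem τ h1), hT σ h2⟩, by rw [← map_pow, h2, map_one]⟩
  have h2 : (T : Subgroup _).map τ ≤ H := h1.trans ((closure_le _).mpr fun x hx => hx.1.2)
  refine (sup_inf_eq_of_le_of_le_normalizer (by rintro _ ⟨σ, -, rfl⟩; exact hn σ) h2).le.trans
    (sup_le h1 ?_)
  rintro _ ⟨⟨f, rfl⟩, hf⟩
  refine subset_closure ⟨⟨mem_sup_right ⟨f, rfl⟩, hf⟩, ?_⟩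
  rw [← map_pow, show f ^ p = 1 from funext fun i => by
    simp [← toAdd_eq_zero], map_one]

theorem sylow_perm_fin_le_closure [hp : Fact p.Prime] (n : ℕ) (P : Sylow p (Perm (Fin n))) :
    (P : Subgroup (Perm (Fin n))) ≤ closure {x | x ∈ P ∧ x ^ p = 1} := by
  induction n using Nat.strong_induction_on with
  | _ n ih =>
    rcases Nat.eq_zero_or_pos n with rfl | hn
    · intro x _
      rw [Subsingleton.elim x 1]
      exact one_mem _
    obtain ⟨W, h1, h2, h3⟩ := exists_sylow_perm_inf_le_closure (p := p) (Fin n)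
      (ih _ (by rw [Nat.card_eq_fintype_card, Fintype.card_fin]; exact Nat.div_lt_self hn hp.out.one_lt))
    exact closure_pow_eq_one_of_sylow h1 h2 (by simpa using h3 ⊤ le_top) P

/-- Sylow `p`-subgroups of symmetric groups are generated by elements of order `p`. -/
theorem sylow_perm_le_closure [Fact p.Prime] (X : Type u) [Finite X] (P : Sylow p (Perm X)) :
    (P : Subgroup (Perm X)) ≤ closure {x | x ∈ P ∧ x ^ p = 1} := by
  classical
  have := Fintype.ofFinite X
  obtain ⟨W, h1, h2, h3⟩ := exists_sylow_perm_inf_le_closure (p := p) X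
    (sylow_perm_fin_le_closure _)
  exact closure_pow_eq_one_of_sylow h1 h2 (by simpa using h3 ⊤ le_top) P

theorem le_powComm_of_le_closure {P : Subgroup G} (h : P ≤ closure {x | x ∈ P ∧ x ^ p = 1}) :
    P ≤ powComm p P :=
  h.trans ((closure_le _).mpr fun _ hx => mem_powComm_of_pow_eq_one hx.1 hx.2)

theorem sylowEA_perm [Fact p.Prime] (X : Type u) [Finite X] : SylowEA p (Perm X) := fun P =>
  abExp_iff_le_powComm.mpr (le_powComm_of_le_closure (sylow_perm_le_closure X P))

theorem sylowEA_alternatingGroup [Fact p.Prime] (X : Type u) [Fintype X] [DecidableEq X] :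
    SylowEA p (alternatingGroup X) := by
  obtain ⟨W, h1, h2, h3⟩ := exists_sylow_perm_inf_le_closure (p := p) X
    (sylow_perm_fin_le_closure _)
  refine sylowEA_of_le inf_le_right (h1.to_le inf_le_left) ?_ (le_powComm_of_le_closure (h3 _ le_rfl))
  rw [inf_relIndex_right]
  exact fun h => h2 (h.trans (relIndex_normal_dvd_index _ _))

/-- A Sylow `2`-subgroup of a symmetric group of degree `2 ^ k` interchanges any two points. -/
theorem exists_swap_mem_sylow {X : Type u} [Finite X] {k : ℕ} (hX : Nat.card X = 2 ^ k)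
    (T : Sylow 2 (Perm X)) (i j : X) : ∃ σ ∈ T, σ i = j ∧ σ j = i := by
  classical
  have := Fintype.ofFinite X
  let e : X ≃ Multiplicative (Fin k → ZMod 2) := Fintype.equivOfCardEq (by
    rw [← Nat.card_eq_fintype_card, hX]; simp)
  let φ := e.symm.permCongrHom.toMonoidHom.comp
    (MulAction.toPermHom (Multiplicative (Fin k → ZMod 2)) (Multiplicative (Fin k → ZMod 2)))
  have h2 : ∀ x : Multiplicative (Fin k → ZMod 2), x * x = 1 := fun x => by
    apply Multiplicative.toAdd.injective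
    ext i
    exact CharTwo.add_self_eq_zero _
  have hp : IsPGroup 2 φ.range := by
    rintro ⟨_, x, rfl⟩
    exact ⟨1, Subtype.ext (by simp [pow_two, ← map_mul, h2])⟩
  obtain ⟨g, hg⟩ := exists_map_conj_le_sylow hp T
  refine ⟨_, hg (mem_map_of_mem _ ⟨e (g⁻¹ j) * e (g⁻¹ i), rfl⟩), ?_, ?_⟩
  · simp [φ, mul_assoc, h2]
  · simp [φ, mul_right_comm _ _ (e (g.symm j)), h2]

end Perm

end Cfsg

set_option linter.all false in
theorem Cfsg.Rz.Grp_SylowEA_0 : True := by
  have := @_root_.Cfsg.SylowEA.eq_def.{0}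
  have := @_root_.Cfsg.SylowEA.eq_1.{0}
  have := @_root_.Cfsg.SylowEA.fun_cases
  have := @_root_.Cfsg.wrTop.eq_def.{0}
  have := @_root_.Cfsg.wrTop.fun_cases
  have := @_root_.Cfsg.powComm.eq_def.{0}
  have := @_root_.Cfsg.powComm.eq_1.{0}
  have := @_root_.Cfsg.powComm.fun_cases
  have := @_root_.Cfsg.AbExp.eq_def.{0}
  have := @_root_.Cfsg.AbExp.eq_1.{0}
  have := @_root_.Cfsg.AbExp.fun_cases
  have := @_root_.Cfsg.wrBase.eq_def.{0}
  have := @_root_.Cfsg.wrBase.fun_cases
  trivial
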