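import Cfsg.Agent.Grp.SylCent

/-!
# Two primes with the unique Sylow centralizer property

If a solvable group acts with `SylCent ρ q` and `SylCent ρ r`, `q ≠ r`, there is a normal subgroup
of prime order not centralized by the `q`-elements.
-/

set_option autoImplicit false
set_option linter.unusedSectionVars false

namespace Cfsg

open Subgroup
open scoped commutatorElement

universe u v

variable {H : Type u} [Group H] {V : Type v} [AddCommGroup V]

namespace SylCent

theorem mul_pow_aux {x y : H} (hx : Commute x ⁅y, x⁆) (hy : Commute y ⁅y, x⁆) (n : ℕ) :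
    (x * y) ^ n = ⁅y, x⁆ ^ n.choose 2 * (x ^ n * y ^ n) := by
  set c := ⁅y, x⁆ with hc
  have h0 : y * x = c * (x * y) := by rw [hc, commutatorElement_def]; group
  have h1 : ∀ n : ℕ, y ^ n * x = c ^ n * (x * y ^ n) := fun n => by
    induction n with
    | zero => simp
    | succ n ih =>
      rw [pow_succ', mul_assoc, ih, ← mul_assoc, (hy.pow_right n).eq, mul_assoc, ← mul_assoc y, h0,
        pow_succ c]
      simp only [mul_assoc]
  induction n with
  | zero => simp
  | succ n ih =>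
    have e : (n + 1).choose 2 = n.choose 2 + n := by
      rw [Nat.choose_succ_succ' n 1, Nat.choose_one_right, add_comm]
    calc (x * y) ^ (n + 1) = c ^ n.choose 2 * (x ^ n * (y ^ n * x) * y) := by
          rw [pow_succ, ih]; simp only [mul_assoc]
      _ = c ^ n.choose 2 * (x ^ n * c ^ n * (x * y ^ n) * y) := by rw [h1]; simp only [mul_assoc]
      _ = _ := by
          rw [((hx.pow_left n).pow_right n).eq, e, pow_add, pow_succ x, pow_succ y]
          simp only [mul_assoc]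

theorem comm_pow_aux {x y : H} (hx : Commute x ⁅x, y⁆) (n : ℕ) : ⁅x ^ n, y⁆ = ⁅x, y⁆ ^ n := by
  induction n with
  | zero => simp
  | succ n ih =>
    calc ⁅x ^ (n + 1), y⁆ = x * ⁅x ^ n, y⁆ * x⁻¹ * ⁅x, y⁆ := by
          simp only [commutatorElement_def, pow_succ']; group
      _ = _ := by rw [ih, (hx.pow_right n).eq, mul_inv_cancel_right, pow_succ]

theorem commute_of_pow {y x : H} {k : ℕ} (hk : k.Coprime (orderOf y)) (h : Commute (y ^ k) x) :
    Commute y x := by
  obtain ⟨m, hm⟩ := exists_pow_eq_self_of_coprime hk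
  exact hm ▸ h.pow_left m

variable {ρ : H →* AddMonoid.End V}

theorem rho_eq_neg {z : H} (hz : z * z = 1) (hf : ∀ v, ρ z v = v → v = 0) (v : V) :
    ρ z v = -v :=
  eq_neg_of_add_eq_zero_left (hf _ (by
    rw [map_add, ← FpfEnd.rho_mul, hz, FpfEnd.rho_one, add_comm]))

variable [Finite H] [Finite V] {u : ℕ} [hu : Fact u.Prime]

omit hu in
theorem coprime_of_le {t : ℕ} [ht : Fact t.Prime] [hu : Fact u.Prime] (htu : t ≠ u)
    {E M : Subgroup H} (hE : IsPGroup t E) (hM : M ≤ E) {y : H} (hy : IsPElt u y) :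
    (Nat.card M).Coprime (orderOf y) := by
  obtain ⟨k, hk⟩ := (hE.to_le hM).exists_card_eq
  obtain ⟨l, hl⟩ := hy
  rw [hk, hl]
  exact Nat.Coprime.pow _ _ ((Nat.coprime_primes ht.out hu.out).2 htu)

/-- A normal `t`-subgroup of class two with elementary central quotient and centre centralized by
the `u`-elements is centralized by the `u`-elements, unless `t = 2` and `u = 3`. -/
theorem le_peltCent_of_class_two (h : SylCent ρ u) {t : ℕ} [ht : Fact t.Prime] {E : Subgroup H}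
    [hEn : E.Normal] (hE : IsPGroup t E) (hZ : E ⊓ centralizer (E : Set H) ≤ peltCent u H)
    (hc : ∀ a ∈ E, ∀ b ∈ E, ⁅a, b⁆ ∈ centralizer (E : Set H))
    (hp : ∀ a ∈ E, a ^ t ∈ centralizer (E : Set H)) (h23 : ¬ (t = 2 ∧ u = 3)) :
    E ≤ peltCent u H := by
  by_cases h0 : E = ⊥
  · rw [h0]; exact bot_le
  have htu := h.ne_of_isPGroup hE h0
  have htV := h.not_dvd_card hE h0
  set Z := E ⊓ centralizer (E : Set H) with hZd
  have hZ0 : Z ≠ ⊥ := inf_centralizer_ne_bot_of_isPGroup hE hE le_normalizer h0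
  obtain ⟨z, hz, hzo⟩ := exists_mem_orderOf_eq_prime
    (dvd_card_of_isPGroup_of_ne_bot (hE.to_le inf_le_left) hZ0)
  have hz1 : z ≠ 1 := fun e => ht.out.one_lt.ne (by rw [← hzo, e, orderOf_one])
  have hfpf : ∀ c ∈ Z, c ≠ 1 → ∀ v, ρ c v = v → v = 0 := fun c hc h1 v hv => by
    by_contra h0
    exact h1 (h.eq_one_of_fix (hZ hc) h0 hv)
  obtain ⟨w, hw, hm⟩ := exists_max (ρ := ρ) h.exists_ne_zero E
  set A := E ⊓ endStab ρ w with hA
  have hZc : ∀ c ∈ Z, ∀ a ∈ E, Commute a c := fun c hc a ha => hc.2 a ha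
  have hcZ : ∀ a ∈ E, ∀ b ∈ E, ⁅a, b⁆ ∈ Z := fun a ha b hb => mem_inf.2
    ⟨mul_mem (mul_mem (mul_mem ha hb) (inv_mem ha)) (inv_mem hb), hc a ha b hb⟩
  have hct : ∀ a ∈ E, ∀ b ∈ E, ⁅a, b⁆ ^ t = 1 := fun a ha b hb => by
    rw [← comm_pow_aux (hZc _ (hcZ a ha b hb) a ha), commutatorElement_eq_one_iff_mul_comm]
    exact (hp a ha b hb).symm
  have hNI : ∀ g ∈ E, g ∈ centralizer (A : Set H) → g ^ t = 1 → ∃ a ∈ A, ∃ c ∈ Z, g = a * c := by
    intro g hg hgA hgt
    obtain ⟨j, w', hw', h1, h2⟩ := exists_fix_mul_pow ht.out htV hw (B := A) inf_le_right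
      (centralizer_le_normalizer _ hgA)
      (centralizer_le_normalizer _ (centralizer_le (show A ≤ E from inf_le_left) hz.2))
      (hZc z hz g hg) hgt (hzo ▸ pow_orderOf_eq_one z) (hfpf z hz hz1)
    have e : A = E ⊓ endStab ρ w' := eq_of_le_of_card_ge (le_inf inf_le_left h1) (hm w' hw')
    exact ⟨g * z ^ j, e ▸ mem_inf.2 ⟨mul_mem hg (pow_mem hz.1 j), h2⟩, (z ^ j)⁻¹,
      inv_mem (pow_mem hz j), by group⟩
  obtain ⟨U, hU⟩ := h.ex w hw
  refine le_peltCent_of_sylow U fun y hyU => ?_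
  obtain ⟨hyw, hy⟩ := (hU y).1 hyU
  have hyA : ∀ a ∈ A, Commute y a := fun a ha =>
    h.commute_of_fix (h.not_dvd_of_isPGroup hE) ha.1 hw ha.2 hy hyw
  have hyZ : ∀ c ∈ Z, Commute y c := fun c hc => mem_peltCent.1 (hZ hc) y hy
  have hNI' : ∀ g ∈ E, g ∈ centralizer (A : Set H) → g ^ t = 1 → Commute y g := by
    intro g hg hgA hgt
    obtain ⟨a, ha, c, hc, rfl⟩ := hNI g hg hgA hgt
    exact (hyA a ha).mul_right (hyZ c hc)
  -- coprime action
  have hcop : ∀ (k : ℕ), k.Coprime (orderOf y) → ∀ x ∈ E,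
      Commute y (x⁻¹ * (y ^ k * x * (y ^ k)⁻¹)) → Commute y x := by
    intro k hk x hx hxy
    refine commute_of_pow hk (commute_of_commutator_mem_of_coprime
      (M := E ⊓ centralizer {y}) (fun m hm => mem_centralizer_singleton_iff.2
        (Commute.pow_right (mem_centralizer_singleton_iff.1 hm.2) k).eq) (mem_inf.2 ⟨?_, ?_⟩)
      (coprime_of_le htu hE inf_le_left (hy.pow k)))
    · simpa only [mul_assoc] using mul_mem (inv_mem hx) (hEn.conj_mem x hx (y ^ k))
    · simpa only [mul_assoc] using mem_centralizer_singleton_iff.2 hxy.symm.eq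
  have hcop1 : ∀ x ∈ E, Commute y (x⁻¹ * (y * x * y⁻¹)) → Commute y x := fun x hx hxy =>
    hcop 1 (Nat.coprime_one_left _) x hx (by rwa [pow_one])
  have hconj : ∀ g ∈ centralizer (A : Set H), y * g * y⁻¹ ∈ centralizer (A : Set H) := by
    intro g hg a ha
    calc a * (y * g * y⁻¹) = y * (a * g) * y⁻¹ := by
          simp only [← mul_assoc]; rw [(hyA a ha).eq]
      _ = y * g * (a * y⁻¹) := by rw [hg a ha]; simp only [mul_assoc]
      _ = _ := by rw [← (hyA a ha).inv_left.eq]; simp only [mul_assoc]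
  have hE0 : ∀ g ∈ E, g ∈ centralizer (A : Set H) → Commute y g := by
    intro g hg hgA
    refine hcop1 g hg ?_
    have hg' : y * g * y⁻¹ ∈ E := hEn.conj_mem g hg y
    set k := g⁻¹ * (y * g * y⁻¹) with hk
    have hkE : k ∈ E := mul_mem (inv_mem hg) hg'
    have hkA : k ∈ centralizer (A : Set H) := mul_mem (inv_mem hgA) (hconj g hgA)
    have hmul : ∀ a ∈ E, ∀ b ∈ E, (a * b) ^ t = ⁅b, a⁆ ^ t.choose 2 * (a ^ t * b ^ t) :=
      fun a ha b hb => mul_pow_aux (hZc _ (hcZ b hb a ha) a ha) (hZc _ (hcZ b hb a ha) b hb) t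
    have hkt : k ^ t = ⁅y * g * y⁻¹, g⁻¹⁆ ^ t.choose 2 := by
      rw [hk, hmul _ (inv_mem hg) _ hg', conj_pow, (hyZ _ (mem_inf.2 ⟨pow_mem hg t, hp g hg⟩)).eq,
        inv_pow]
      group
    by_cases ht2 : t = 2
    swap
    · refine hNI' k hkE hkA ?_
      obtain ⟨m, hm⟩ := ht.out.dvd_choose_self (k := 2) two_ne_zero
        (lt_of_le_of_ne ht.out.two_le (Ne.symm ht2))
      rw [hkt, hm, pow_mul, hct _ hg' _ (inv_mem hg), one_pow]
    subst ht2
    simp only [Nat.choose_self, pow_one] at hkt hmul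
    have hzz : z * z = 1 := by rw [← pow_two, ← hzo, pow_orderOf_eq_one]
    have huniq : ∀ a ∈ E, ∀ b ∈ E, ⁅a, b⁆ = 1 ∨ ⁅a, b⁆ = z := by
      intro a ha b hb
      refine or_iff_not_imp_left.2 fun h1 => h.inj (AddMonoidHom.ext fun v => ?_)
      exact (rho_eq_neg (by rw [← pow_two, hct a ha b hb]) (hfpf _ (hcZ a ha b hb) h1) v).trans
        (rho_eq_neg hzz (hfpf z hz hz1) v).symm
    rcases huniq _ hg' _ (inv_mem hg) with e | e
    · exact hNI' k hkE hkA (hkt.trans e)
    rw [e] at hkt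
    clear_value k
    have hyz : y * z * y⁻¹ = z := by rw [(hyZ z hz).eq, mul_inv_cancel_right]
    have hsq : ∀ a : H, a ^ 2 = z → (y * a * y⁻¹) ^ 2 = z := fun a ha => by rw [conj_pow, ha, hyz]
    have hprod : ∀ a ∈ E, ∀ b ∈ E, a ∈ centralizer (A : Set H) → b ∈ centralizer (A : Set H) →
        a ^ 2 = z → b ^ 2 = z → ⁅b, a⁆ = 1 → Commute y (a * b) := by
      intro a ha b hb haA hbA ha2 hb2 hab
      exact hNI' _ (mul_mem ha hb) (mul_mem haA hbA) (by rw [hmul a ha b hb, hab, ha2, hb2, hzz,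
        one_mul])
    have hinv : ∀ b, Commute y (k * b) → Commute y (k⁻¹ * b) := fun b hb => by
      have : k⁻¹ * b = z⁻¹ * (k * b) := by rw [← hkt]; group
      rw [this]; exact (hyZ z hz).inv_right.mul_right hb
    obtain ⟨n, hn⟩ := hy
    have hu2 : (2 : ℕ).Coprime (orderOf y) := by
      rw [hn]; exact ((Nat.coprime_primes Nat.prime_two hu.out).2 htu).pow_right _
    have hu3 : (3 : ℕ).Coprime (orderOf y) := by
      rw [hn]
      exact ((Nat.coprime_primes Nat.prime_three hu.out).2 fun e => h23 ⟨rfl, e.symm⟩).pow_right _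
    have hk1E := hEn.conj_mem k hkE y
    have hk1A := hconj k hkA
    have hk1 := hsq k hkt
    have hk2E := hEn.conj_mem _ hk1E y
    have hk2A := hconj _ hk1A
    have hk2 := hsq _ hk1
    rcases huniq _ hk1E _ hkE with e1 | e1
    · exact hcop1 k hkE (hinv _ (hprod _ hkE _ hk1E hkA hk1A hkt hk1 e1))
    rcases huniq _ hk2E _ hkE with e2 | e2
    · refine hcop 2 hu2 k hkE (hinv _ ?_)
      have := hprod _ hkE _ hk2E hkA hk2A hkt hk2 e2
      convert this using 2
      rw [pow_two]; group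
    have e3 : ⁅y * (y * k * y⁻¹) * y⁻¹, y * k * y⁻¹⁆ = z := by
      rw [← hyz, ← e1]; simp only [commutatorElement_def]; group
    have e4 : ⁅y * (y * k * y⁻¹) * y⁻¹, k * (y * k * y⁻¹)⁆ = 1 := by
      calc _ = ⁅y * (y * k * y⁻¹) * y⁻¹, k⁆ *
            (k * ⁅y * (y * k * y⁻¹) * y⁻¹, y * k * y⁻¹⁆ * k⁻¹) := by
            simp only [commutatorElement_def]; group
        _ = 1 := by rw [e2, e3, (hZc z hz k hkE).eq, mul_inv_cancel_right, hzz]
    have e5 := (hprod _ (mul_mem hkE hk1E) _ hk2E (mul_mem hkA hk1A) hk2A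
      (by rw [hmul _ hkE _ hk1E, e1, hkt, hk1, hzz, mul_one]) hk2 e4).eq
    refine hcop 3 hu3 k hkE ?_
    have e6 : k⁻¹ * (y ^ 3 * k * (y ^ 3)⁻¹) =
        ⁅k⁻¹, (y * k * y⁻¹ * (y * (y * k * y⁻¹) * y⁻¹))⁻¹⁆ := by
      have : y ^ 3 * k * (y ^ 3)⁻¹ = (y * k * y⁻¹ * (y * (y * k * y⁻¹) * y⁻¹))⁻¹ *
          (y * (k * (y * k * y⁻¹) * (y * (y * k * y⁻¹) * y⁻¹))) * y⁻¹ := by
        simp only [pow_three, mul_assoc, mul_inv_rev, inv_mul_cancel_left, mul_inv_cancel_left,
          inv_inv]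
      rw [this, e5, commutatorElement_def]; group
    rw [e6]
    exact hyZ _ (hcZ _ (inv_mem hkE) _ (inv_mem (mul_mem hk1E hk2E)))
  intro e he
  refine hcop1 e he (hE0 _ (mul_mem (inv_mem he) (hEn.conj_mem e he y)) fun a ha => ?_)
  have h1 : y * ⁅e, a⁆ * y⁻¹ = ⁅e, a⁆ := by rw [(hyZ _ (hcZ e he a ha.1)).eq, mul_inv_cancel_right]
  have h2 : y * a * y⁻¹ = a := by rw [(hyA a ha).eq, mul_inv_cancel_right]
  have h3 : y * e * y⁻¹ * a = e * a * e⁻¹ * (y * e * y⁻¹) := by
    calc y * e * y⁻¹ * a = y * ⁅e, a⁆ * y⁻¹ * (y * a * y⁻¹) * (y * e * y⁻¹) := by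
          conv_lhs => rw [← h2]
          rw [commutatorElement_def]; group
      _ = _ := by rw [h1, h2, commutatorElement_def]; group
  rw [mul_assoc e⁻¹, h3]; group

/-- In an abelian normal `2`-subgroup acting without fixed points, elements of odd order act
trivially. -/
theorem le_peltCent_of_two (h : SylCent ρ u) {Z : Subgroup H} [hZn : Z.Normal]
    [IsMulCommutative Z] (hZ : IsPGroup 2 Z)
    (hf : ∀ c ∈ Z, c ≠ 1 → ∀ v, ρ c v = v → v = 0) (hu2 : u ≠ 2) : Z ≤ peltCent u H := by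
  have : Fact (2 : ℕ).Prime := ⟨Nat.prime_two⟩
  have hcomm := isMulCommutative_iff_forall.1 ‹IsMulCommutative Z›
  have hinv : ∀ c ∈ Z, c ^ 2 = 1 → ∀ y, Commute y c := by
    intro c hc h2 y
    by_cases h1 : c = 1
    · rw [h1]; exact Commute.one_right y
    refine h.inj (AddMonoidHom.ext fun v => ?_)
    have := rho_eq_neg (by rw [← pow_two, h2]) (hf c hc h1)
    change ρ (y * c) v = ρ (c * y) v
    rw [FpfEnd.rho_mul, FpfEnd.rho_mul, this, this, map_neg]
  have key : ∀ y, IsPElt u y → ∀ k : ℕ, ∀ c ∈ Z, c ^ 2 ^ k = 1 → Commute y c := by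
    intro y hy k
    induction k with
    | zero => intro c _ hc; rw [pow_zero, pow_one] at hc; rw [hc]; exact Commute.one_right y
    | succ k ih =>
      intro c hc hck
      have h1 := ih (c ^ 2) (pow_mem hc 2) (by rw [← pow_mul, ← pow_succ', hck])
      have h2 : c⁻¹ * (y * c * y⁻¹) ∈ Z := mul_mem (inv_mem hc) (hZn.conj_mem c hc y)
      refine commute_of_commutator_mem_of_coprime (M := Z ⊓ centralizer {y}) inf_le_right
        (mem_inf.2 ⟨by simpa only [mul_assoc] using h2, ?_⟩)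
        (coprime_of_le hu2.symm hZ inf_le_left hy)
      have h3 := hinv _ h2 (by
        rw [Commute.mul_pow (hcomm _ (inv_mem hc) _ (hZn.conj_mem c hc y)), conj_pow, h1.eq,
          inv_pow]; group) y
      simpa only [mul_assoc] using mem_centralizer_singleton_iff.2 h3.symm.eq
  intro c hc
  obtain ⟨k, hk⟩ := isPElt_iff_pow_eq_one.1 (isPElt_of_mem hZ hc)
  exact mem_peltCent.2 fun y hy => key y hy k c hc hk

variable {q r : ℕ} [hq : Fact q.Prime] [hr : Fact r.Prime]

theorem eq_one_of_comm' (h : SylCent ρ q) (h' : SylCent ρ r) (hqr : q ≠ r) {t : ℕ}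
    [Fact t.Prime] {A : Subgroup H} [A.Normal] [IsMulCommutative A] (hA : IsPGroup t A) {a : H}
    (ha : a ∈ A) (h1 : a ≠ 1) (v : V) (hav : ρ a v = v) : v = 0 := by
  by_contra hv
  by_cases h2 : q = 2
  · exact h1 (h'.eq_one_of_comm (fun e => hqr (h2.trans e.symm)) (h'.not_dvd_of_isPGroup hA) ha hv
      hav)
  · exact h1 (h.eq_one_of_comm h2 (h.not_dvd_of_isPGroup hA) ha hv hav)

/-- There is a normal subgroup of prime order not centralized by the `q`-elements. -/
theorem exists_prime_normal [Group.IsSolvable H] (h : SylCent ρ q) (h' : SylCent ρ r)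
    (hqr : q ≠ r) : ∃ a : H, (orderOf a).Prime ∧ (zpowers a).Normal ∧ a ∉ peltCent q H := by
  obtain ⟨t, ht0⟩ : ∃ t : Nat.Primes, ¬ pCore t H ≤ peltCent q H := by
    by_contra hn
    push Not at hn
    have hF : fittingSubgroup H ≤ peltCent q H := by
      rw [fittingSubgroup_eq_iSup_pCore]; exact iSup_le hn
    obtain ⟨U⟩ : Nonempty (Sylow q H) := inferInstance
    refine (sylow_ne_bot_iff U).2 h.dvd (eq_bot_iff.2 fun y hy => ?_)
    have hy' := isPElt_of_mem U.isPGroup' hy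
    rw [← h.eq_bot_of_isPGroup (isPGroup_pCore q H)]
    exact mem_pCore_of_mem_fittingSubgroup (centralizer_fittingSubgroup_le H fun c hc =>
      (mem_peltCent.1 (hF hc) y hy').symm.eq) hy'
  obtain ⟨t, ht⟩ := t
  have : Fact t.Prime := ⟨ht⟩
  obtain ⟨E, ⟨hEn, hE, hEq⟩, hmin⟩ := exists_minimalFor_of_wellFoundedLT
    (fun E : Subgroup H => E.Normal ∧ IsPGroup t E ∧ ¬ E ≤ peltCent q H) id
    ⟨pCore t H, inferInstance, isPGroup_pCore t H, ht0⟩
  have h0 : E ≠ ⊥ := fun e => hEq (e ▸ bot_le)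
  have htq := h.ne_of_isPGroup hE h0
  have hlt : ∀ K : Subgroup H, K.Normal → K < E → K ≤ peltCent q H := fun K hK hlt => by
    by_contra hn
    exact hlt.not_ge (hmin ⟨hK, hE.to_le hlt.le, hn⟩ hlt.le)
  have hprin : ∀ K : Subgroup H, K.Normal → K ≤ E →
      (∀ e ∈ E, ∀ y, IsPElt q y → e⁻¹ * (y * e * y⁻¹) ∈ K) → K = E := by
    intro K hK hKE hh
    by_contra hne
    have := hlt K hK (lt_of_le_of_ne hKE hne)
    exact hEq fun e he => mem_peltCent.2 fun y hy => commute_of_commutator_mem_of_coprime (M := K)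
      (fun c hc => mem_centralizer_singleton_iff.2 (mem_peltCent.1 (this hc) y hy).symm.eq)
      (by simpa only [mul_assoc] using hh e he y hy) (coprime_of_le htq hE hKE hy)
  obtain ⟨M, hMn, -, hME, hMm⟩ := exists_chief_below (bot_lt_iff_ne_bot.2 h0)
  have hel := hMm.isElementaryAbelian_of_isPGroup (hE.map _)
  have hMq := hlt M hMn hME
  have hc : ∀ a ∈ E, ∀ b ∈ E, ⁅a, b⁆ ∈ M := fun a ha b hb => by
    rw [← QuotientGroup.eq_one_iff, ← QuotientGroup.mk'_apply, map_commutatorElement,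
      commutatorElement_eq_one_iff_mul_comm]
    exact isMulCommutative_iff_forall.1 hel.1 _ (mem_map_of_mem _ ha) _ (mem_map_of_mem _ hb)
  have hp : ∀ a ∈ E, a ^ t ∈ M := fun a ha => by
    rw [← QuotientGroup.eq_one_iff, ← QuotientGroup.mk'_apply, map_pow]
    exact hel.2 _ (mem_map_of_mem _ ha)
  have hMZ : M ≤ centralizer (E : Set H) := by
    rw [le_centralizer_iff, ← inf_eq_left]
    refine hprin _ inferInstance inf_le_left fun e he y hy =>
      mem_inf.2 ⟨mul_mem (inv_mem he) (hEn.conj_mem e he y), fun a ha => ?_⟩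
    have h1 := (mem_peltCent.1 (hMq ha) y hy).eq
    have h2 := (mem_peltCent.1 (hMq (hMn.conj_mem a ha e)) y hy).eq
    calc a * (e⁻¹ * (y * e * y⁻¹)) = e⁻¹ * (e * a * e⁻¹ * y) * e * y⁻¹ := by group
      _ = e⁻¹ * (y * e) * (a * y⁻¹) := by rw [← h2]; group
      _ = _ := by rw [← (show Commute y a from h1).inv_left.eq]; group
  by_cases hab : IsMulCommutative E
  · have hcomm := isMulCommutative_iff_forall.1 hab
    have hEt : powKer E t = E := hprin _ inferInstance (powKer_le E t) fun e he y hy =>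
      mem_powKer.2 ⟨mul_mem (inv_mem he) (hEn.conj_mem e he y), by
        rw [Commute.mul_pow (hcomm _ (inv_mem he) _ (hEn.conj_mem e he y)), conj_pow,
          (mem_peltCent.1 (hMq (hp e he)) y hy).eq, inv_pow]; group⟩
    have hpow : ∀ e ∈ E, e ^ t = 1 := fun e he => (mem_powKer.1 (hEt.ge he)).2
    obtain ⟨a, ha, haq⟩ := SetLike.not_le_iff_exists.1 hEq
    have ha1 : a ≠ 1 := fun e => haq (e ▸ one_mem _)
    have hEa : zpowers a = E := by
      refine le_antisymm (zpowers_le.2 ha) fun g hg => ?_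
      obtain ⟨w, hw⟩ := h.exists_ne_zero
      obtain ⟨j, w', hw', -, h2⟩ := exists_fix_mul_pow ht (h.not_dvd_card hE h0) hw (B := ⊥) bot_le
        (g := g) (z := a) (normalizer_eq_top (⊥ : Subgroup H) ▸ mem_top _)
        (normalizer_eq_top (⊥ : Subgroup H) ▸ mem_top _) (hcomm g hg a ha) (hpow g hg) (hpow a ha)
        (eq_one_of_comm' h h' hqr hE ha ha1)
      have : g * a ^ j = 1 := by
        by_contra hne
        exact hw' (eq_one_of_comm' h h' hqr hE (mul_mem hg (pow_mem ha j)) hne w' h2)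
      rw [eq_inv_of_mul_eq_one_left this]
      exact inv_mem (pow_mem (mem_zpowers a) j)
    exact ⟨a, orderOf_eq_prime (hpow a ha) ha1 ▸ ht, hEa ▸ hEn, haq⟩
  exfalso
  have hZ : E ⊓ centralizer (E : Set H) < E := lt_of_le_of_ne inf_le_left fun e =>
    hab (isMulCommutative_iff_forall.2 fun a ha b hb => (e.ge hb).2 a ha)
  have hc' : ∀ a ∈ E, ∀ b ∈ E, ⁅a, b⁆ ∈ centralizer (E : Set H) := fun a ha b hb =>
    hMZ (hc a ha b hb)
  have hp' : ∀ a ∈ E, a ^ t ∈ centralizer (E : Set H) := fun a ha => hMZ (hp a ha)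
  by_cases h23 : t = 2 ∧ q = 3
  swap
  · exact hEq (h.le_peltCent_of_class_two hE (hlt _ inferInstance hZ) hc' hp' h23)
  obtain ⟨rfl, rfl⟩ := h23
  have : IsMulCommutative (E ⊓ centralizer (E : Set H) : Subgroup H) :=
    isMulCommutative_iff_forall.2 fun a ha b hb => hb.2 a ha.1
  have := h'.le_peltCent_of_class_two hE (h'.le_peltCent_of_two (hE.to_le inf_le_left)
    (fun c hc h1 => eq_one_of_comm' h h' hqr (hE.to_le inf_le_left) hc h1)
    (h'.ne_of_isPGroup hE h0).symm) hc' hp' fun e => hqr e.2.symm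
  exact hab (isMulCommutative_iff_forall.2 fun a ha b hb => h'.commute_of_mem (this ha) (this hb))

end SylCent

end Cfsg
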