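import Cfsg.Agent.Grp.Transfer
import Mathlib.GroupTheory.Perm.Cycle.Type

/-!
# Thompson's transfer lemma
-/

set_option autoImplicit false

namespace Cfsg

open Subgroup

universe u

variable {G : Type u} [Group G] [Finite G]

/-- An involution without conjugate in a subgroup of index `≢ 0 (mod 4)` is an odd permutation of
the cosets. -/
theorem exists_index_two_of_forall_conj_notMem {M : Subgroup G} (hM : ¬ 4 ∣ M.index) {u : G}
    (hu : u * u = 1) (h : ∀ g : G, g * u * g⁻¹ ∉ M) : ∃ L : Subgroup G, L.index = 2 ∧ u ∉ L := by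
  classical
  have := Fintype.ofFinite (G ⧸ M)
  have h1 : MulAction.toPermHom G (G ⧸ M) u ^ 2 = 1 := by rw [← map_pow, pow_two, hu, map_one]
  have h2 : Fintype.card (Function.fixedPoints (MulAction.toPermHom G (G ⧸ M) u)) = 0 := by
    rw [Fintype.card_eq_zero_iff]
    refine ⟨fun ⟨q, hq⟩ => ?_⟩
    induction q using QuotientGroup.induction_on with
    | H g =>
      have : ((u * g : G) : G ⧸ M) = g := hq
      exact h g⁻¹ (by simpa [mul_assoc] using QuotientGroup.eq.1 this.symm)
  have h3 : Fintype.card (G ⧸ M) ≡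
      Fintype.card (Function.fixedPoints (MulAction.toPermHom G (G ⧸ M) u)) [MOD 2] :=
    Equiv.Perm.card_fixedPoints_modEq (p := 2) (n := 1) (f := (u • · : G ⧸ M → G ⧸ M))
      (funext fun q => congrArg (· q) h1)
  have h4 := Equiv.Perm.sign_of_pow_two_eq_one h1
  rw [h2, ← Nat.card_eq_fintype_card, ← index_eq_card] at h3 h4
  rw [Odd.neg_one_pow (by rw [Nat.odd_iff]; unfold Nat.ModEq at h3; omega)] at h4
  let f := Equiv.Perm.sign.comp (MulAction.toPermHom G (G ⧸ M))
  have h5 : f u = -1 := h4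
  refine ⟨f.ker, ?_, fun e => by rw [MonoidHom.mem_ker.1 e] at h5; exact absurd h5 (by decide)⟩
  rw [index_ker, MonoidHom.range_eq_top.2 fun a => (Int.units_eq_one_or a).elim
    (fun e => ⟨1, by rw [map_one, e]⟩) fun e => ⟨u, e ▸ h5⟩, card_top, Nat.card_eq_fintype_card]
  rfl

/-- **Thompson's transfer lemma**. -/
theorem exists_conj_mem_of_no_index_two (h2 : ∀ L : Subgroup G, L.index ≠ 2) {P M : Subgroup G}
    (hP : ¬ 2 ∣ P.index) (hle : M ≤ P) (hM : M.relIndex P = 2) {u : G} (hu : u * u = 1) :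
    ∃ g : G, g * u * g⁻¹ ∈ M := by
  by_contra! h
  obtain ⟨L, hL, -⟩ := exists_index_two_of_forall_conj_notMem (M := M)
    (by rw [← relIndex_mul_index hle, hM]; omega) hu h
  exact h2 L hL

end Cfsg
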