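import Cfsg.Agent.Grp.Fan
import Mathlib.RepresentationTheory.Basic
import Mathlib.GroupTheory.SchurZassenhaus
import Mathlib.LinearAlgebra.Eigenspace.Pi
import Mathlib.LinearAlgebra.Eigenspace.Triangularizable
import Mathlib.RingTheory.RootsOfUnity.Basic
import Mathlib.LinearAlgebra.FreeModule.Finite.Matrix

/-!
# The Brauer-Feit analogue of Jordan's theorem in characteristic `p`
-/

set_option autoImplicit false

namespace Cfsg

namespace Jordan

open Subgroup Module

universe u v

/-- Linear groups of degree at most `n` in characteristic `p` with bounded Sylow `p`-subgroup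
have a subgroup of index at most `J` embedding in a torus of rank `ι`. -/
def Bd (p m n J : ℕ) (ι : Type) : Prop :=
  ∀ (G : Type u) [Group G] [Finite G] (F : Type v) [Field F] [IsAlgClosed F] [CharP F p]
    (V : Type v) [AddCommGroup V] [Module F V] [FiniteDimensional F V]
    (ρ : Representation F G V), finrank F V ≤ n → Function.Injective ρ →
    ¬ p ^ (m + 1) ∣ Nat.card G →
    ∃ (A : Subgroup G) (f : A →* (ι → Fˣ)), Function.Injective f ∧ A.index ≤ J

variable {p m n J : ℕ} {ι : Type} {G : Type u} [Group G] [Finite G] {F : Type v} [Field F]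
  {V : Type v} [AddCommGroup V] [Module F V] [FiniteDimensional F V]

theorem Bd.gen (h : Bd.{u, v} p m n J ι) [IsAlgClosed F] [CharP F p] (ρ : Representation F G V)
    (hn : finrank F V ≤ n) (hG : ¬ p ^ (m + 1) ∣ Nat.card G) :
    ∃ (A : Subgroup G) (f : A →* (ι → Fˣ)), (∀ a, f a = 1 → ρ a = 1) ∧ A.index ≤ J := by
  let K : Subgroup G := MonoidHom.ker ρ
  obtain ⟨A, f, hf, hA⟩ := h (G ⧸ K) F V (QuotientGroup.lift K ρ le_rfl) hn
    ((QuotientGroup.injective_lift_iff K ρ le_rfl).2 rfl)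
    (fun hd => hG (hd.trans (card_quotient_dvd_card K)))
  refine ⟨A.comap (QuotientGroup.mk' K), f.comp ((QuotientGroup.mk' K).subgroupComap A),
    fun a ha => ?_, ?_⟩
  · have h1 : (QuotientGroup.mk' K).subgroupComap A a = 1 := hf (by simpa using ha)
    have h2 : ((a : G) : G ⧸ K) = 1 := congrArg Subtype.val h1
    exact (QuotientGroup.eq_one_iff _).1 h2
  · rwa [index_comap_of_surjective _ (QuotientGroup.mk'_surjective K)]

theorem Bd.red [hp : Fact p.Prime] (h : Bd.{u, v} p m n J ι) [IsAlgClosed F] [CharP F p]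
    (ρ : Representation F G V) (hn : finrank F V ≤ n + 1) (hρ : Function.Injective ρ)
    (hG : ¬ p ^ (m + 1) ∣ Nat.card G) (W : Submodule F V) (hW : ∀ g, W ≤ W.comap (ρ g))
    (h0 : W ≠ ⊥) (h1 : W ≠ ⊤) :
    ∃ (A : Subgroup G) (f : A →* (ι ⊕ ι → Fˣ)), Function.Injective f ∧
      A.index ≤ p ^ m * (J * J) := by
  have d1 : finrank F W < finrank F V := Submodule.finrank_lt h1
  have d2 : 0 < finrank F W := by
    rwa [pos_iff_ne_zero, Ne, Submodule.finrank_eq_zero]
  have d3 := Submodule.finrank_quotient_add_finrank W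
  obtain ⟨A₁, f₁, hf₁, hA₁⟩ := h.gen (ρ.subrepresentation W hW) (by omega) hG
  obtain ⟨A₂, f₂, hf₂, hA₂⟩ := h.gen (ρ.quotient W hW) (by omega) hG
  let B := A₁ ⊓ A₂
  let f : B →* (ι ⊕ ι → Fˣ) := MonoidHom.pi fun i => match i with
    | .inl i => (Pi.evalMonoidHom _ i).comp (f₁.comp (inclusion inf_le_left))
    | .inr i => (Pi.evalMonoidHom _ i).comp (f₂.comp (inclusion inf_le_right))
  have hK : IsPGroup p f.ker := by
    intro a
    refine ⟨1, ?_⟩
    have ha : f a = 1 := a.2
    have a1 := hf₁ (inclusion inf_le_left a.1) (funext fun i => congrFun ha (.inl i))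
    have a2 := hf₂ (inclusion inf_le_right a.1) (funext fun i => congrFun ha (.inr i))
    set x : G := a.1.1
    have b1 : ∀ w ∈ W, ρ x w = w := fun w hw =>
      congrArg Subtype.val (LinearMap.congr_fun a1 ⟨w, hw⟩)
    have b2 : ∀ w, ρ x w - w ∈ W := fun w =>
      (Submodule.Quotient.eq W).1 (LinearMap.congr_fun a2 (Submodule.Quotient.mk w))
    have b3 : ∀ (k : ℕ) w, ρ (x ^ k) w = w + (k : F) • (ρ x w - w) := by
      intro k w
      induction k with
      | zero => simp
      | succ k ih =>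
        rw [pow_succ', map_mul, Module.End.mul_apply, ih, map_add, map_smul, b1 _ (b2 w)]
        push_cast
        rw [add_smul, one_smul]; abel
    have b4 : x ^ p = 1 := hρ (by ext w; rw [b3]; simp)
    ext; simpa using b4
  obtain ⟨k, hk⟩ := IsPGroup.iff_card.1 hK
  have hkm : k ≤ m := by
    by_contra hc
    refine hG ((pow_dvd_pow p (show m + 1 ≤ k by omega)).trans ?_)
    rw [← hk]
    exact (card_subgroup_dvd_card _).trans (card_subgroup_dvd_card B)
  have hcop : (Nat.card f.ker).Coprime f.ker.index := by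
    rw [hk]
    refine Nat.Coprime.pow_left _ ((Nat.Prime.coprime_iff_not_dvd hp.out).2 fun hd => ?_)
    rw [index_ker] at hd
    have : Finite f.range := Finite.of_surjective _ f.rangeRestrict_surjective
    obtain ⟨y, hy⟩ := exists_prime_orderOf_dvd_card' p hd
    have h2 : y = 1 := by
      ext i
      have h3 : ((y.1 i : Fˣ) : F) ^ p = 1 := by
        have := congrArg (fun z : f.range => ((z.1 i : Fˣ) : F)) (pow_orderOf_eq_one y)
        simpa [hy] using this
      have h4 : (((y.1 i : Fˣ) : F) - 1) ^ p = 0 := by rw [sub_pow_char, h3]; simp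
      simpa [sub_eq_zero] using pow_eq_zero_iff hp.out.ne_zero |>.1 h4
    rw [h2, orderOf_one] at hy
    exact hp.out.one_lt.ne hy
  obtain ⟨H, hH⟩ := exists_right_complement'_of_coprime hcop
  let e := H.equivMapOfInjective B.subtype B.subtype_injective
  refine ⟨H.map B.subtype, (f.comp H.subtype).comp e.symm.toMonoidHom, ?_, ?_⟩
  · refine Function.Injective.comp (g := f.comp H.subtype) ?_ e.symm.injective
    rw [injective_iff_map_eq_one]
    intro a ha
    have := hH.disjoint.le_bot (show (a : B) ∈ f.ker ⊓ H from ⟨ha, a.2⟩)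
    exact Subtype.ext this
  · rw [index_map_subtype, hH.index_eq_card, hk]
    exact Nat.mul_le_mul (Nat.pow_le_pow_right hp.out.pos hkm)
      (index_inf_le.trans (Nat.mul_le_mul hA₁ hA₂))

omit [Finite G] in
theorem exists_weight [IsAlgClosed F] [Nontrivial V] (ρ : Representation F G V) {B : Subgroup G}
    (hB : B ≤ centralizer (B : Set G)) :
    ∃ χ : B → F, ⨅ b : B, End.eigenspace (ρ b) (χ b) ≠ ⊥ := by
  have hex : ∃ d, ∃ U : Submodule F V, U ≠ ⊥ ∧ (∀ b ∈ B, ∀ v ∈ U, ρ b v ∈ U) ∧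
      finrank F U = d := ⟨_, ⊤, top_ne_bot, fun _ _ _ _ => trivial, rfl⟩
  classical
  obtain ⟨U, hU0, hU, hd⟩ := Nat.find_spec hex
  have : Nontrivial U := Submodule.nontrivial_iff_ne_bot.2 hU0
  have key : ∀ b : B, ∃ c : F, U ≤ End.eigenspace (ρ b) c := by
    intro b
    obtain ⟨c, hc⟩ := End.exists_eigenvalue ((ρ b).restrict (hU b b.2))
    obtain ⟨v, hv⟩ := hc.exists_hasEigenvector
    refine ⟨c, ?_⟩
    by_contra hlt
    have hlt' : U ⊓ End.eigenspace (ρ b) c < U := lt_of_le_of_ne inf_le_left fun e =>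
      hlt (e ▸ inf_le_right)
    refine Nat.find_min hex (hd ▸ Submodule.finrank_lt_finrank_of_lt hlt') ⟨_, ?_, ?_, rfl⟩
    · intro e
      have h1 : (v : V) ∈ U ⊓ End.eigenspace (ρ b) c :=
        ⟨v.2, End.mem_eigenspace_iff.2 (congrArg Subtype.val hv.apply_eq_smul)⟩
      rw [e] at h1
      exact hv.2 (Subtype.ext h1)
    · intro b' hb' w hw
      refine ⟨hU b' hb' w hw.1, End.mem_eigenspace_iff.2 ?_⟩
      rw [← Module.End.mul_apply, ← map_mul, ← mem_centralizer_iff.1 (hB b.2) b' hb', map_mul,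
        Module.End.mul_apply, End.mem_eigenspace_iff.1 hw.2, map_smul]
  choose χ hχ using key
  exact ⟨χ, fun e => hU0 (le_bot_iff.1 (e ▸ le_iInf hχ))⟩

omit [Finite G] in
theorem exists_invariant [IsAlgClosed F] (ρ : Representation F G V) {B : Subgroup G}
    (hB : B ≤ centralizer (B : Set G)) (hB' : ∃ b ∈ B, ∀ c : F, ∃ v, ρ b v ≠ c • v) :
    ∃ (H : Subgroup G) (W : Submodule F V), W ≠ ⊥ ∧ W ≠ ⊤ ∧ (∀ g ∈ H, W ≤ W.comap (ρ g)) ∧
      H.relIndex (normalizer (B : Set G)) ≤ finrank F V := by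
  obtain ⟨b, hb, hbc⟩ := hB'
  have : Nontrivial V := by
    obtain ⟨v, hv⟩ := hbc 0
    exact ⟨⟨_, _, hv⟩⟩
  obtain ⟨χ, hχ⟩ := exists_weight ρ hB
  let w : (B → F) → Submodule F V := fun ψ => ⨅ b : B, End.eigenspace (ρ b) (ψ b)
  have hind : iSupIndep w := by
    refine (End.independent_iInf_maxGenEigenspace_of_forall_mapsTo (fun b : B => ρ b)
      fun i j φ => End.mapsTo_maxGenEigenspace_of_comm ?_ φ).mono
      fun ψ => iInf_mono fun b => End.eigenspace_le_maxGenEigenspace
    change ρ j * ρ i = ρ i * ρ j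
    rw [← map_mul, ← map_mul, mem_centralizer_iff.1 (hB i.2) j j.2]
  let N := normalizer (B : Set G)
  let cj : N → (B → F) → (B → F) := fun x ψ b =>
    ψ ⟨x.1⁻¹ * b * x, (mem_normalizer_iff''.1 x.2 b).1 b.2⟩
  have hcj : ∀ (x : N) ψ, ∀ v ∈ w ψ, ρ x v ∈ w (cj x ψ) := by
    intro x ψ v hv
    refine (Submodule.mem_iInf _).2 fun b => End.mem_eigenspace_iff.2 ?_
    have := End.mem_eigenspace_iff.1 ((Submodule.mem_iInf _).1 hv
      ⟨x.1⁻¹ * b * x, (mem_normalizer_iff''.1 x.2 b).1 b.2⟩)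
    rw [← map_smul, ← this, ← Module.End.mul_apply, ← Module.End.mul_apply, ← map_mul, ← map_mul]
    congr 2; group
  have hcj' : ∀ (x : N) ψ, cj x⁻¹ (cj x ψ) = ψ := by
    intro x ψ; funext b; simp only [cj]; congr 1; ext; simp [mul_assoc]
  let H : Subgroup G :=
    { carrier := {g | (∀ v ∈ w χ, ρ g v ∈ w χ) ∧ ∀ v ∈ w χ, ρ g⁻¹ v ∈ w χ}
      one_mem' := by simp
      mul_mem' := fun {a b} ha hb => ⟨fun v hv => by
          rw [map_mul]; exact ha.1 _ (hb.1 v hv), fun v hv => by
          rw [mul_inv_rev, map_mul]; exact hb.2 _ (ha.2 v hv)⟩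
      inv_mem' := fun {a} ha => ⟨ha.2, by simpa using ha.1⟩ }
  refine ⟨H, w χ, hχ, fun e => ?_, fun g hg v hv => hg.1 v hv, ?_⟩
  · obtain ⟨v, hv⟩ := hbc (χ ⟨b, hb⟩)
    exact hv (End.mem_eigenspace_iff.1 ((Submodule.mem_iInf _).1
      (show v ∈ w χ from e ▸ Submodule.mem_top) ⟨b, hb⟩))
  · have := hind.fintypeNeBotOfFiniteDimensional
    refine le_trans ?_ hind.subtype_ne_bot_le_finrank
    rw [← Nat.card_eq_fintype_card]
    have hne : ∀ x : N, w (cj x χ) ≠ ⊥ := by
      intro x e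
      obtain ⟨v, hv, hv0⟩ := (Submodule.ne_bot_iff _).1 hχ
      have h1 := hcj x χ v hv
      rw [e, Submodule.mem_bot] at h1
      apply hv0
      have : ρ x.1⁻¹ (ρ x v) = v := by
        rw [← Module.End.mul_apply, ← map_mul]; simp
      rw [← this, h1, map_zero]
    refine Nat.card_le_card_of_injective
      (fun q : N ⧸ H.subgroupOf N => (⟨cj q.out χ, hne _⟩ : {ψ // w ψ ≠ ⊥})) fun q q' e => ?_
    have e' : cj q.out χ = cj q'.out χ := congrArg Subtype.val e
    rw [← q.out_eq', ← q'.out_eq', QuotientGroup.eq]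
    have key : ∀ x y : N, cj x χ = cj y χ → ∀ v ∈ w χ, ρ (x⁻¹ * y : N) v ∈ w χ := by
      intro x y e v hv
      have h1 := hcj y χ v hv
      rw [← e] at h1
      have h2 := hcj x⁻¹ _ _ h1
      rw [hcj'] at h2
      simpa using h2
    exact ⟨key _ _ e', by simpa using key _ _ e'.symm⟩

omit [Finite G] in
theorem card_le_of_pow_eq_one [Fintype ι] {A T : Subgroup G} {f : A →* (ι → Fˣ)}
    (hf : Function.Injective f) (hTA : T ≤ A) {k : ℕ} (hk : 0 < k) (hT : ∀ t ∈ T, t ^ k = 1) :
    Nat.card T ≤ k ^ Fintype.card ι := by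
  have : NeZero k := ⟨hk.ne'⟩
  have h1 : Nat.card (ι → rootsOfUnity k F) ≤ k ^ Fintype.card ι := by
    rw [Nat.card_fun, Nat.card_eq_fintype_card (α := ι)]
    exact Nat.pow_le_pow_left (card_rootsOfUnity F k) _
  refine le_trans (Nat.card_le_card_of_injective (fun (t : T) (i : ι) =>
    (⟨f ⟨t, hTA t.2⟩ i, ?_⟩ : rootsOfUnity k F)) fun s t e => ?_) h1
  · rw [mem_rootsOfUnity, ← Pi.pow_apply, ← map_pow]
    have : (⟨t, hTA t.2⟩ : A) ^ k = 1 := Subtype.ext (hT t t.2)
    rw [this, map_one, Pi.one_apply]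
  · have : f ⟨s, hTA s.2⟩ = f ⟨t, hTA t.2⟩ := funext fun i => congrArg Subtype.val (congrFun e i)
    exact Subtype.ext (congrArg (fun a : A => (a : G)) (hf this))

omit [Finite G] in
theorem le_centralizer_of_injective {A : Subgroup G} {M : Type*} [CommGroup M] {f : A →* M}
    (hf : Function.Injective f) : A ≤ centralizer (A : Set G) := fun a ha =>
  mem_centralizer_iff.2 fun b hb => congrArg Subtype.val
    (hf (show f (⟨b, hb⟩ * ⟨a, ha⟩) = f (⟨a, ha⟩ * ⟨b, hb⟩) by rw [map_mul, map_mul, mul_comm]))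

theorem exists_bd (p : ℕ) [hp : Fact p.Prime] (m n : ℕ) : ∃ (J : ℕ) (ι : Type) (_ : Fintype ι),
    Nonempty ι ∧ 1 ≤ J ∧ Bd.{u, v} p m n J ι := by
  induction n with
  | zero =>
    refine ⟨1, Unit, inferInstance, inferInstance, le_rfl, fun G _ _ F _ _ _ V _ _ _ ρ hn hρ _ => ?_⟩
    have : Subsingleton V := finrank_zero_iff.1 (Nat.le_zero.1 hn)
    have : Subsingleton G := ⟨fun a b => hρ (Subsingleton.elim _ _)⟩
    exact ⟨⊤, 1, Function.injective_of_subsingleton _, by simp⟩
  | succ n ih =>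
    obtain ⟨J, ι, _, _, hJ, h⟩ := ih
    set J₁ := p ^ m * (J * J) * (n + 1) with hJ₁
    have hJ1 : 1 ≤ J₁ := Nat.mul_pos (Nat.mul_pos (Nat.pow_pos hp.out.pos) (Nat.mul_pos hJ hJ))
      n.succ_pos
    obtain ⟨C, hC⟩ := exists_index_le.{u} J₁ (J₁ * J₁ ^ Fintype.card (ι ⊕ ι)) ((n + 1) * (n + 1))
    refine ⟨max J₁ C, ι ⊕ ι, inferInstance, inferInstance, le_max_of_le_left hJ1,
      fun G _ _ F _ _ _ V _ _ _ ρ hn hρ hG => ?_⟩
    rcases subsingleton_or_nontrivial V with hV | hV
    · have : Subsingleton G := ⟨fun a b => hρ (Subsingleton.elim _ _)⟩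
      exact ⟨⊤, 1, Function.injective_of_subsingleton _, by simpa using Or.inl hJ1⟩
    let Z : Subgroup G :=
      { carrier := {g | ∃ c : F, ∀ v, ρ g v = c • v}
        one_mem' := ⟨1, by simp⟩
        mul_mem' := fun {a b} ⟨c, hc⟩ ⟨d, hd⟩ => ⟨c * d, fun v => by
          rw [map_mul, Module.End.mul_apply, hd, hc, smul_smul]⟩
        inv_mem' := fun {a} ⟨c, hc⟩ => ⟨c ^ (orderOf a - 1), fun v => by
          have e : a⁻¹ = a ^ (orderOf a - 1) := by
            rw [inv_eq_iff_mul_eq_one, ← pow_succ', Nat.sub_add_cancel (orderOf_pos a),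
              pow_orderOf_eq_one]
          rw [e]
          generalize orderOf a - 1 = k
          induction k with
          | zero => simp
          | succ k ih => rw [pow_succ', map_mul, Module.End.mul_apply, ih, hc, smul_smul,
              pow_succ']⟩ }
    have hZ : ∃ f : Z →* (ι ⊕ ι → Fˣ), Function.Injective f := by
      choose c hc using fun z : Z => (z.2 : ∃ c : F, ∀ v, ρ z v = c • v)
      obtain ⟨v, hv⟩ := exists_ne (0 : V)
      let φ : Z →* F :=
        { toFun := c
          map_one' := smul_left_injective F hv (by simpa using (hc 1 v).symm)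
          map_mul' := fun a b => smul_left_injective F hv (by
            simp only
            rw [← hc, ← smul_smul, ← hc, ← hc]; simp) }
      refine ⟨MonoidHom.pi fun _ => φ.toHomUnits, fun a b e => ?_⟩
      have e' : c a = c b := congrArg Units.val (congrFun e (Classical.arbitrary _))
      exact Subtype.ext (hρ (LinearMap.ext fun w => by rw [hc, hc, e']))
    have hA : ∀ B : Subgroup G, B ≤ centralizer (B : Set G) → ¬ B ≤ Z →
        ∃ (A : Subgroup G) (f : A →* (ι ⊕ ι → Fˣ)), Function.Injective f ∧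
          A.relIndex (normalizer (B : Set G)) ≤ J₁ := by
      intro B hB hBZ
      obtain ⟨b, hb, hbZ⟩ := SetLike.not_le_iff_exists.1 hBZ
      obtain ⟨H, W, h0, h1, hW, hi⟩ := exists_invariant ρ hB
        ⟨b, hb, fun c => not_forall.1 fun hc => hbZ ⟨c, hc⟩⟩
      let L := H ⊓ normalizer (B : Set G)
      obtain ⟨A, f, hf, hA⟩ := h.red (G := L) (ρ.comp L.subtype) hn
        (hρ.comp L.subtype_injective) (fun hd => hG (hd.trans (card_subgroup_dvd_card L))) W
        (fun g => hW g g.2.1) h0 h1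
      let e := A.equivMapOfInjective L.subtype L.subtype_injective
      refine ⟨A.map L.subtype, f.comp e.symm.toMonoidHom, hf.comp e.symm.injective, ?_⟩
      rw [← relIndex_mul_relIndex _ L _ (map_subtype_le A) inf_le_right, inf_relIndex_right]
      refine Nat.mul_le_mul ?_ (hi.trans hn)
      rwa [relIndex, subgroupOf, comap_map_eq_self_of_injective L.subtype_injective]
    by_cases hc : ∀ B : Subgroup G, B ≤ centralizer (B : Set G) → ¬ B ≤ Z →
        normalizer (B : Set G) ≠ ⊤
    swap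
    · simp only [not_forall, not_not] at hc
      obtain ⟨B, hB, hBZ, hN⟩ := hc
      obtain ⟨A, f, hf, hi⟩ := hA B hB hBZ
      rw [hN, relIndex_top_right] at hi
      exact ⟨A, f, hf, le_max_of_le_left hi⟩
    obtain ⟨f, hf⟩ := hZ
    refine ⟨Z, f, hf, le_max_of_le_right (hC G Z ⟨hJ1, ?_, ?_, ?_, ?_, hc⟩)⟩
    · rintro z ⟨c, hz⟩
      refine mem_center_iff.2 fun g => hρ (LinearMap.ext fun v => ?_)
      simp [hz]
    · intro B hB hBZ
      obtain ⟨A, f, hf, hi⟩ := hA B hB hBZ
      exact ⟨A, le_centralizer_of_injective hf, hi⟩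
    · intro T hT k hk0 hk hTk
      have h1 : ∃ (A : Subgroup G) (f : A →* (ι ⊕ ι → Fˣ)), Function.Injective f ∧
          A.relIndex T ≤ J₁ := by
        by_cases hTZ : T ≤ Z
        · exact ⟨Z, f, hf, by rw [relIndex_eq_one.2 hTZ]; exact hJ1⟩
        · obtain ⟨A, f, hf, hi⟩ := hA T hT hTZ
          exact ⟨A, f, hf, (relIndex_le_of_le_right le_normalizer index_ne_zero_of_finite).trans hi⟩
      obtain ⟨A, f, hf, hi⟩ := h1
      have h2 := card_le_of_pow_eq_one hf (inf_le_left : A ⊓ T ≤ A) hk0 (fun t ht => hTk t ht.2)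
      have h3 := ((A ⊓ T).subgroupOf T).index_mul_card
      rw [Nat.card_congr (subgroupOfEquivOfLe (inf_le_right : A ⊓ T ≤ T)).toEquiv] at h3
      rw [← h3]
      refine Nat.mul_le_mul ?_ (h2.trans (Nat.pow_le_pow_left hk _))
      change (A ⊓ T).relIndex T ≤ J₁
      rwa [inf_relIndex_right]
    · let cm : Subgroup G → Submodule F (End F V) := fun A =>
        { carrier := {T | ∀ a ∈ A, T * ρ a = ρ a * T}
          zero_mem' := by simp
          add_mem' := fun {S T} hS hT a ha => by rw [add_mul, mul_add, hS a ha, hT a ha]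
          smul_mem' := fun c T hT a ha => by rw [smul_mul_assoc, mul_smul_comm, hT a ha] }
      refine ⟨fun A => finrank F (cm A), fun A => ?_, fun A' A hA' hA => ?_⟩
      · refine (Submodule.finrank_le _).trans ?_
        rw [finrank_linearMap]
        exact Nat.mul_le_mul hn hn
      · obtain ⟨x, hx, hx'⟩ := SetLike.not_le_iff_exists.1 hA
        refine Submodule.finrank_lt_finrank_of_lt (SetLike.lt_iff_le_and_exists.2
          ⟨fun T hT a ha => hT a (hA' ha), ρ x, fun a ha => ?_, fun hT => hx' ?_⟩)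
        · rw [← map_mul, ← map_mul, mem_centralizer_iff.1 hx a ha]
        · exact mem_centralizer_iff.2 fun a ha => hρ (by rw [map_mul, map_mul, hT a ha])

end Jordan

end Cfsg

set_option linter.all false in
theorem Cfsg.Rz.Grp_JordanP_0 : True := by
  have := @_root_.Cfsg.Jordan.Bd.eq_def.{0, 0}
  have := @_root_.Cfsg.Jordan.Bd.eq_1.{0, 0}
  have := @_root_.Cfsg.Jordan.Bd.fun_cases
  trivial
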