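import Cfsg.Agent.Grp.ZassCoord
import Mathlib.FieldTheory.Finite.Basic
import Mathlib.NumberTheory.LegendreSymbol.QuadraticChar.Basic

/-!
# Recognition of `PSL(2, F)` from its action on the projective line over a finite field
-/

set_option autoImplicit false
set_option linter.unusedSectionVars false

namespace Cfsg

open Subgroup OnePoint MulAction
open scoped Pointwise

universe u v

/-- Hypotheses for the recognition of `PSL(2, F)`. -/
structure ZassF (F : Type v) [Field F] (G : Type u) [Group G] [MulAction G (OnePoint F)] :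
    Prop where
  faithful : ∀ g : G, (∀ t : OnePoint F, g • t = t) → g = 1
  transl : ∀ b : F, ∃ y : G, y • (∞ : OnePoint F) = ∞ ∧
    ∀ t : F, y • (t : OnePoint F) = ((t + b : F) : OnePoint F)
  affine' : ∀ g : G, g • (∞ : OnePoint F) = ∞ → ∃ a b : F, a ≠ 0 ∧
    ∀ t : F, g • (t : OnePoint F) = ((a * t + b : F) : OnePoint F)
  move : ∃ g : G, g • (∞ : OnePoint F) ≠ ∞

namespace ZassF

variable {F : Type v} [Field F] [Fintype F] [DecidableEq F] {G : Type u} [Group G]
  [MulAction G (OnePoint F)] (h : ZassF F G)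
include h

theorem affine {g : G} (hg : g • (∞ : OnePoint F) = ∞) : ∃ a b : F, a ≠ 0 ∧
    ∀ t : F, g • (t : OnePoint F) = ((a * t + b : F) : OnePoint F) := h.affine' g hg

theorem exists_smul_eq {s t : OnePoint F} (hst : s ≠ t) :
    ∃ g : G, g • (∞ : OnePoint F) = s ∧ g • ((0 : F) : OnePoint F) = t := by
  have h1 : ∃ g : G, g • (∞ : OnePoint F) = s := by
    cases s with
    | infty => exact ⟨1, one_smul _ _⟩
    | coe s =>
      obtain ⟨g, hg⟩ := h.move
      obtain ⟨r, hr⟩ := ne_infty_iff_exists.1 hg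
      obtain ⟨y, -, hy⟩ := h.transl (s - r)
      exact ⟨y * g, by rw [mul_smul, ← hr, hy]; simp⟩
  obtain ⟨g, hg⟩ := h1
  have h2 : g⁻¹ • t ≠ ∞ := fun e => hst (by rw [← hg, ← e, smul_inv_smul])
  obtain ⟨r, hr⟩ := ne_infty_iff_exists.1 h2
  obtain ⟨y, hy1, hy⟩ := h.transl r
  exact ⟨g * y, by rw [mul_smul, hy1, hg], by rw [mul_smul, hy, zero_add, hr, smul_inv_smul]⟩

theorem exists_mul {g : G} (hg : g • (∞ : OnePoint F) = ∞)
    (h0 : g • ((0 : F) : OnePoint F) = (0 : F)) : ∃ a : F, a ≠ 0 ∧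
    ∀ t : F, g • (t : OnePoint F) = ((a * t : F) : OnePoint F) := by
  obtain ⟨a, b, ha, hab⟩ := h.affine hg
  have : b = 0 := by simpa [hab] using h0
  exact ⟨a, ha, by simpa [this] using hab⟩

theorem eq_of_infty {g g' : G} (h1 : g • (∞ : OnePoint F) = g' • ∞)
    (h2 : ∀ t : F, g • (t : OnePoint F) = g' • (t : OnePoint F)) : g = g' := by
  have := h.faithful (g'⁻¹ * g) fun t => by
    cases t with
    | infty => rw [mul_smul, h1, inv_smul_smul]
    | coe t => rw [mul_smul, h2, inv_smul_smul]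
  exact (inv_mul_eq_one.1 this).symm

theorem eq_one_of_fix {g : G} {r s t : OnePoint F} (hst : s ≠ t) (hrs : r ≠ s)
    (hrt : r ≠ t) (hr : g • r = r) (hs : g • s = s) (ht : g • t = t) : g = 1 := by
  obtain ⟨k, rfl, rfl⟩ := h.exists_smul_eq hst
  obtain ⟨a, -, ha⟩ := h.exists_mul (g := k⁻¹ * g * k)
    (by rw [mul_smul, mul_smul, hs, inv_smul_smul]) (by rw [mul_smul, mul_smul, ht, inv_smul_smul])
  have h2 : k⁻¹ • r ≠ ∞ := fun e => hrs (by rw [← e, smul_inv_smul])
  obtain ⟨u, hu⟩ := ne_infty_iff_exists.1 h2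
  have hu0 : u ≠ 0 := by rintro rfl; exact hrt (by rw [hu, smul_inv_smul])
  have h3 := ha u
  rw [hu, mul_smul, mul_smul, smul_inv_smul, hr, ← hu, coe_eq_coe] at h3
  have h4 : a = 1 := mul_right_cancel₀ hu0 (by rw [← h3, one_mul])
  have h5 : k⁻¹ * g * k = 1 := h.eq_of_infty
    (by rw [mul_smul, mul_smul, hs, inv_smul_smul, one_smul]) (fun t => by rw [ha, h4]; simp)
  calc g = k * (k⁻¹ * g * k) * k⁻¹ := by group
    _ = 1 := by rw [h5]; group

omit h in
/-- The stabilizer of `∞` and `0`. -/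
def torus (F : Type v) [Field F] (G : Type u) [Group G] [MulAction G (OnePoint F)] :
    Subgroup G :=
  stabilizer G ((∞ : OnePoint F), ((0 : F) : OnePoint F))

omit h in
theorem mem_torus {g : G} : g ∈ torus F G ↔ g • (∞ : OnePoint F) = ∞ ∧
    g • ((0 : F) : OnePoint F) = (0 : F) := by
  simp [torus, mem_stabilizer_iff]

theorem index_torus : (torus F G).index = (Fintype.card F + 1) * Fintype.card F := by
  classical
  rw [torus, index_stabilizer]
  have : orbit G ((∞ : OnePoint F), ((0 : F) : OnePoint F)) =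
      ((Finset.univ : Finset (OnePoint F)).offDiag : Set _) := by
    ext ⟨s, t⟩
    simp only [mem_orbit_iff, Finset.coe_offDiag, Set.mem_offDiag, Finset.coe_univ, Set.mem_univ,
      true_and, Prod.smul_mk, Prod.mk.injEq]
    refine ⟨?_, h.exists_smul_eq⟩
    rintro ⟨g, rfl, rfl⟩ e
    exact infty_ne_coe _ (smul_left_cancel g e)
  rw [this, Set.ncard_coe_finset, Finset.offDiag_card, Finset.card_univ]
  have : Fintype.card (OnePoint F) = Fintype.card F + 1 := by
    rw [show Fintype.card (OnePoint F) = Fintype.card (Option F) from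
      Fintype.card_congr (Equiv.refl _), Fintype.card_option]
  rw [this, mul_add, mul_one, Nat.add_sub_cancel]

theorem exists_hom : ∃ A : torus F G →* Fˣ, Function.Injective A ∧ ∀ (q : torus F G)
    (t : F), (q : G) • (t : OnePoint F) = ((A q * t : F) : OnePoint F) := by
  choose a ha0 ha using fun q : torus F G =>
    h.exists_mul (mem_torus.1 q.2).1 (mem_torus.1 q.2).2
  let A : torus F G →* F :=
    { toFun := a
      map_one' := by simpa using (ha 1 1).symm
      map_mul' := fun q r => by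
        have := ha (q * r) 1
        rw [coe_mul, mul_smul, ha, ha, coe_eq_coe] at this
        simpa using this.symm }
  refine ⟨A.toHomUnits, fun q r e => Subtype.ext (h.eq_of_infty ?_ fun t => ?_), ha⟩
  · rw [(mem_torus.1 q.2).1, (mem_torus.1 r.2).1]
  · rw [ha, ha, show a q = a r from congrArg Units.val e]

theorem torus_comm {q r : G} (hq : q ∈ torus F G) (hr : r ∈ torus F G) : q * r = r * q := by
  obtain ⟨A, hA, -⟩ := h.exists_hom
  exact congrArg Subtype.val (hA (show A (⟨q, hq⟩ * ⟨r, hr⟩) = A (⟨r, hr⟩ * ⟨q, hq⟩) by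
    rw [map_mul, map_mul, mul_comm]))

variable [Finite G] {e : ℕ}

theorem card_torus (hG : Nat.card G = (Fintype.card F + 1) * Fintype.card F * e) : Nat.card (torus F G) = e := by
  have := (torus F G).index_mul_card
  rw [h.index_torus, hG] at this
  exact Nat.eq_of_mul_eq_mul_left (Nat.mul_pos (Nat.succ_pos _) Fintype.card_pos) this

theorem pow_eq_one_of_mul (hG : Nat.card G = (Fintype.card F + 1) * Fintype.card F * e) {q : G} (hq : q ∈ torus F G)
    {a : F} (ha : q • ((1 : F) : OnePoint F) = a) : a ^ e = 1 := by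
  obtain ⟨A, -, hA⟩ := h.exists_hom
  have h1 : a = A ⟨q, hq⟩ := by simpa [ha] using hA ⟨q, hq⟩ 1
  rw [h1, ← Units.val_pow_eq_pow_val, ← map_pow, ← h.card_torus hG, pow_card_eq_one', map_one,
    Units.val_one]

theorem exists_torus (hG : Nat.card G = (Fintype.card F + 1) * Fintype.card F * e) {a : F} (ha : a ^ e = 1) :
    ∃ q ∈ torus F G, ∀ t : F,
      q • (t : OnePoint F) = ((a * t : F) : OnePoint F) := by
  obtain ⟨A, hA, hA'⟩ := h.exists_hom
  have he : e ≠ 0 := h.card_torus hG ▸ Nat.card_pos.ne'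
  have : NeZero e := ⟨he⟩
  have h1 : A.range ≤ rootsOfUnity e F := by
    rintro _ ⟨q, rfl⟩
    rw [mem_rootsOfUnity, ← map_pow, ← h.card_torus hG, pow_card_eq_one', map_one]
  have h2 : A.range = rootsOfUnity e F := by
    refine eq_of_le_of_card_ge h1 ((card_rootsOfUnity _ _).trans ?_)
    rw [← Nat.card_congr (MonoidHom.ofInjective hA).toEquiv, h.card_torus hG]
  have ha0 : a ≠ 0 := by rintro rfl; simp [he] at ha
  have h3 : Units.mk0 a ha0 ∈ A.range := h2 ▸ (mem_rootsOfUnity _ _).2 (Units.ext (by simpa))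
  obtain ⟨q, hq⟩ := h3
  exact ⟨q, q.2, fun t => by rw [hA', hq]; rfl⟩

omit h [Finite G] [Group G] [MulAction G (OnePoint F)] in
theorem char_ne_two (he : Fintype.card F = 2 * e + 1) : ringChar F ≠ 2 := fun h0 => by
  have := FiniteField.even_card_iff_char_two.1 h0
  omega

omit h [Finite G] [Group G] [MulAction G (OnePoint F)] in
theorem isSquare_iff (he : Fintype.card F = 2 * e + 1) {a : F} (ha : a ≠ 0) : IsSquare a ↔ a ^ e = 1 := by
  rw [FiniteField.isSquare_iff (char_ne_two he) ha, show Fintype.card F / 2 = e by omega]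

omit h [Finite G] [Group G] [MulAction G (OnePoint F)] in
theorem exists_eq_sq_mul (he : Fintype.card F = 2 * e + 1) {a b : F} (ha : ¬ IsSquare a)
    (hb : ¬ IsSquare b) : ∃ c : F, c ≠ 0 ∧ a = c ^ 2 * b := by
  have ha0 : a ≠ 0 := by rintro rfl; exact ha IsSquare.zero
  have hb0 : b ≠ 0 := by rintro rfl; exact hb IsSquare.zero
  have key : ∀ a : F, a ≠ 0 → ¬ IsSquare a → a ^ e = -1 := fun a h0 h1 => by
    have := FiniteField.pow_dichotomy (char_ne_two he) h0
    rw [show Fintype.card F / 2 = e by omega] at this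
    exact this.resolve_left fun h2 => h1 ((isSquare_iff he h0).2 h2)
  obtain ⟨c, hc⟩ := (isSquare_iff he (div_ne_zero ha0 hb0)).2 (by
    rw [div_pow, key a ha0 ha, key b hb0 hb]; simp)
  refine ⟨c, fun h0 => div_ne_zero ha0 hb0 (by rw [hc, h0, mul_zero]), ?_⟩
  rw [sq, ← hc]; field_simp

/-- The final step, once an element `w` inverting the torus is given. -/
theorem exists_fun (he : Fintype.card F = 2 * e + 1) (hG : Nat.card G = (Fintype.card F + 1) * Fintype.card F * e) {w : G}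
    (hw1 : w • (∞ : OnePoint F) = (0 : F))
    (hw2 : w • ((0 : F) : OnePoint F) = ∞)
    (hinv : ∀ q ∈ torus F G, w * q = q⁻¹ * w) : ∃ f : F → F,
    (∀ t : F, t ≠ 0 → w • (t : OnePoint F) = f t ∧ f t ≠ 0) ∧
      ∀ a t, a ≠ 0 → t ≠ 0 → a ^ 2 * f (a ^ 2 * t) = f t := by
  have h1 : ∀ t : F, ∃ s : F, t ≠ 0 → w • (t : OnePoint F) = s ∧ s ≠ 0 := by
    intro t
    by_cases ht : t = 0
    · exact ⟨0, fun h => absurd ht h⟩
    have : w • (t : OnePoint F) ≠ ∞ := fun e =>
      ht (coe_eq_coe.1 (smul_left_cancel w (e.trans hw2.symm)))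
    obtain ⟨s, hs⟩ := ne_infty_iff_exists.1 this
    refine ⟨s, fun _ => ⟨hs.symm, ?_⟩⟩
    rintro rfl
    exact coe_ne_infty _ (smul_left_cancel w (hs.symm.trans hw1.symm))
  choose f hf using h1
  refine ⟨f, hf, fun a t ha ht => ?_⟩
  obtain ⟨q, hq, hq'⟩ := h.exists_torus hG
    ((isSquare_iff he (pow_ne_zero 2 ha)).1 ⟨a, sq a⟩)
  have h2 : q * w * q = w := by rw [mul_assoc, hinv q hq]; group
  have h3 := (hf t ht).1
  rw [← h2, mul_smul, mul_smul, hq', (hf _ (mul_ne_zero (pow_ne_zero 2 ha) ht)).1, hq'] at h3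
  exact coe_eq_coe.1 h3

theorem exists_inv_of_odd (he : Fintype.card F = 2 * e + 1) (hG : Nat.card G = (Fintype.card F + 1) * Fintype.card F * e)
    (hperf : commutator G = ⊤) (ho : Odd e) : ∃ (w : G) (c : F), c ≠ 0 ∧
      w • (∞ : OnePoint F) = (0 : F) ∧ w • ((0 : F) : OnePoint F) = ∞ ∧
      ∀ t : F, t ≠ 0 →
        w • (t : OnePoint F) = ((-c ^ 2 / t : F) : OnePoint F) := by
  obtain ⟨w, hw1, hw2⟩ := h.exists_smul_eq (coe_ne_infty (0 : F))
  have hsw : ∀ g : G, g • (∞ : OnePoint F) = (0 : F) →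
      g • ((0 : F) : OnePoint F) = ∞ → g * w ∈ torus F G := fun g a b =>
    mem_torus.2 ⟨by rw [mul_smul, hw1, b], by rw [mul_smul, hw2, a]⟩
  have hww := hsw w hw1 hw2
  have hcj : ∀ q ∈ torus F G, w * q * w⁻¹ ∈ torus F G := fun q hq => by
    rw [mem_torus] at hq ⊢
    refine ⟨?_, ?_⟩
    · conv_lhs => rw [← hw2, mul_smul, inv_smul_smul, mul_smul, hq.2, hw2]
    · conv_lhs => rw [← hw1, mul_smul, inv_smul_smul, mul_smul, hq.1, hw1]
  let K : Subgroup G :=
    { carrier := {q | q ∈ torus F G ∧ w * q * w⁻¹ = q⁻¹}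
      one_mem' := ⟨one_mem _, by simp⟩
      mul_mem' := fun {a b} ha hb => ⟨mul_mem ha.1 hb.1, by
        rw [← conj_mul, ha.2, hb.2, h.torus_comm ha.1 hb.1, mul_inv_rev]⟩
      inv_mem' := fun {a} ha => ⟨inv_mem ha.1, by rw [← conj_inv, ha.2]⟩ }
  have hK : torus F G ≤ K := by
    have hc : (Nat.card (torus F G)).Coprime (torus F G).index := by
      rw [h.card_torus hG, h.index_torus, he]
      refine Nat.Coprime.mul_right ?_ (by simp)
      rw [show 2 * e + 1 + 1 = 2 * e + 2 by ring, Nat.coprime_mul_right_add_right]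
      exact (Nat.coprime_two_right).2 ho
    have h1 := commutator_inf_eq_focalSubgroup_of_coprime hc
    rw [hperf, top_inf_eq] at h1
    rw [h1, focalSubgroup_le_iff]
    intro q hq g hg
    refine ⟨mul_mem hq (inv_mem hg), ?_⟩
    by_cases hq1 : q = 1
    · simp [hq1]
    have a1 : ∀ s : OnePoint F, (g * q * g⁻¹) • s = s → g⁻¹ • s = ∞ ∨ g⁻¹ • s = (0 : F) := by
      intro s hs
      by_contra hne
      rw [not_or] at hne
      refine hq1 (h.eq_one_of_fix (infty_ne_coe 0) hne.1 hne.2 ?_ (mem_torus.1 hq).1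
        (mem_torus.1 hq).2)
      conv_rhs => rw [← hs, ← mul_smul]
      rw [← mul_smul]; congr 1; group
    have a2 : g ∈ torus F G ∨ w⁻¹ * g ∈ torus F G := by
      have b : g⁻¹ • (∞ : OnePoint F) ≠ g⁻¹ • ((0 : F) : OnePoint F) :=
        fun e => infty_ne_coe _ (smul_left_cancel _ e)
      rcases a1 _ (mem_torus.1 hg).1 with b1 | b1 <;> rcases a1 _ (mem_torus.1 hg).2 with b2 | b2
      · exact absurd (b1.trans b2.symm) b
      · exact Or.inl (inv_mem_iff.1 (mem_torus.2 ⟨b1, b2⟩))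
      · exact Or.inr (by simpa using inv_mem (hsw _ b1 b2))
      · exact absurd (b1.trans b2.symm) b
    rcases a2 with a2 | a2
    · rw [h.torus_comm a2 hq]; simp
    · have b1 : g * q * g⁻¹ = w * q * w⁻¹ := by
        calc g * q * g⁻¹ = w * ((w⁻¹ * g) * q) * g⁻¹ := by group
          _ = _ := by rw [h.torus_comm a2 hq]; group
      rw [b1]
      calc w * (q * (w * q * w⁻¹)⁻¹) * w⁻¹ = w * q * w⁻¹ * ((w * w) * q⁻¹) * (w * w)⁻¹ := by group
        _ = _ := by rw [h.torus_comm hww (inv_mem hq)]; group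
  have hw : w * w = 1 := by
    have a1 : w * w = (w * w)⁻¹ := by rw [← (hK hww).2]; group
    have a2 : (w * w) ^ 2 = 1 := by rw [sq]; exact mul_eq_one_iff_eq_inv.2 a1
    have a3 : (w * w) ^ e = 1 := by
      have := congrArg Subtype.val (pow_card_eq_one' (x := (⟨_, hww⟩ : torus F G)))
      rwa [h.card_torus hG] at this
    obtain ⟨k, rfl⟩ := ho
    rwa [pow_succ, pow_mul, a2, one_pow, one_mul] at a3
  have h2 : (2 : F) ≠ 0 := Ring.two_ne_zero (char_ne_two he)
  have hm1 : ¬ IsSquare (-1 : F) := by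
    rw [isSquare_iff he (by simp), ho.neg_one_pow]
    intro h0; exact h2 (by linear_combination -h0)
  have hfix : ∀ t : F, w • (t : OnePoint F) ≠ t := by
    intro t ht
    obtain ⟨k, hk, -⟩ := h.exists_smul_eq (coe_ne_infty t)
    obtain ⟨a, b, ha, hab⟩ := h.affine (g := k⁻¹ * w * k)
      (by rw [mul_smul, mul_smul, hk, ht, ← hk, inv_smul_smul])
    have a1 : ∀ s : F, a * (a * s + b) + b = s := fun s => by
      have : (k⁻¹ * w * k) * (k⁻¹ * w * k) = 1 := by
        calc _ = k⁻¹ * (w * w) * k := by group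
          _ = 1 := by rw [hw]; group
      rw [← coe_eq_coe, ← hab, ← hab, ← mul_smul, this, one_smul]
    obtain ⟨y, hy1, hy⟩ := h.transl (-b)
    have a2 : a ^ e = 1 := h.pow_eq_one_of_mul hG (q := y * (k⁻¹ * w * k)) (mem_torus.2
      ⟨by rw [mul_smul, mul_smul, mul_smul, hk, ht, ← hk, inv_smul_smul, hy1],
        by rw [mul_smul, hab, hy]; simp⟩) (by rw [mul_smul, hab, hy]; simp)
    have a3 : a = 1 := by
      have : a * a = 1 := by linear_combination a1 1 - a1 0
      refine (mul_self_eq_one_iff.1 this).resolve_right fun h0 => hm1 ?_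
      rw [isSquare_iff he (by simp), ← h0, a2]
    have a4 : b = 0 := by
      have := a1 0
      rw [a3] at this
      exact (mul_eq_zero.1 (show 2 * b = 0 by linear_combination this)).resolve_left h2
    have a5 : k⁻¹ * w * k = 1 := h.eq_of_infty
      (by rw [mul_smul, mul_smul, hk, ht, ← hk, inv_smul_smul, one_smul])
      (fun t => by rw [hab, a3, a4]; simp)
    have a6 : w = 1 := by
      calc w = k * (k⁻¹ * w * k) * k⁻¹ := by group
        _ = 1 := by rw [a5]; group
    rw [a6, one_smul] at hw1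
    exact infty_ne_coe _ hw1
  obtain ⟨f, hf, hf'⟩ := h.exists_fun he hG hw1 hw2 fun q hq => by
    rw [← (hK hq).2]; group
  have hα : ¬ IsSquare (f 1) := by
    rintro ⟨c, hc⟩
    have hc0 : c ≠ 0 := by rintro rfl; exact (hf 1 one_ne_zero).2 (by simpa using hc)
    have : ∃ r : F, r ≠ 0 ∧ r ^ 2 * r ^ 2 = f 1 := by
      by_cases hs : IsSquare c
      · obtain ⟨r, rfl⟩ := hs
        exact ⟨r, left_ne_zero_of_mul hc0, by rw [hc]; ring⟩
      · obtain ⟨r, hr0, hr⟩ := exists_eq_sq_mul he hs hm1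
        exact ⟨r, hr0, by rw [hc, hr]; ring⟩
    obtain ⟨r, hr0, hr⟩ := this
    have a1 := hf' r 1 hr0 one_ne_zero
    rw [mul_one, ← hr] at a1
    exact hfix (r ^ 2) (by
      rw [(hf _ (pow_ne_zero 2 hr0)).1, mul_left_cancel₀ (pow_ne_zero 2 hr0) a1])
  obtain ⟨c, hc0, hc⟩ := exists_eq_sq_mul he hα hm1
  have hff : f (f 1) = 1 := by
    rw [← coe_eq_coe, ← (hf _ (hf 1 one_ne_zero).2).1, ← (hf 1 one_ne_zero).1, ← mul_smul, hw,
      one_smul]
  refine ⟨w, c, hc0, hw1, hw2, fun t ht => ?_⟩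
  rw [(hf t ht).1, coe_eq_coe, eq_div_iff ht]
  by_cases hs : IsSquare t
  · obtain ⟨r, rfl⟩ := hs
    have := hf' r 1 (left_ne_zero_of_mul ht) one_ne_zero
    rw [mul_one, sq] at this
    linear_combination this + hc
  · obtain ⟨r, hr0, hr⟩ := exists_eq_sq_mul he hs hα
    have := hf' r _ hr0 (hf 1 one_ne_zero).2
    rw [← hr, hff] at this
    linear_combination f t * hr + f 1 * this + hc

theorem exists_inv_of_even (he : Fintype.card F = 2 * e + 1) (hG : Nat.card G = (Fintype.card F + 1) * Fintype.card F * e)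
    (ho : Even e) : ∃ (w : G) (c : F), c ≠ 0 ∧
      w • (∞ : OnePoint F) = (0 : F) ∧ w • ((0 : F) : OnePoint F) = ∞ ∧
      ∀ t : F, t ≠ 0 →
        w • (t : OnePoint F) = ((-c ^ 2 / t : F) : OnePoint F) := by
  have h2 : (2 : F) ≠ 0 := Ring.two_ne_zero (char_ne_two he)
  have hneg : ∀ t : F, t ≠ 0 → t ≠ -t := fun t ht e =>
    ht ((mul_eq_zero.1 (show 2 * t = 0 by linear_combination e)).resolve_left h2)
  obtain ⟨u, hu, hu'⟩ := h.exists_torus hG ho.neg_one_pow
  have huniq : ∀ q ∈ torus F G, q * q = 1 → q ≠ 1 → q = u := by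
    intro q hq hqq hq1
    obtain ⟨a, -, ha⟩ := h.exists_mul (mem_torus.1 hq).1 (mem_torus.1 hq).2
    have a1 : a * a = 1 := by
      have := ha (a * 1)
      rw [← ha, ← mul_smul, hqq, one_smul, coe_eq_coe] at this
      simpa using this.symm
    rcases mul_self_eq_one_iff.1 a1 with rfl | rfl
    · exact absurd (h.eq_of_infty (by rw [(mem_torus.1 hq).1, one_smul])
        fun t => by rw [ha]; simp) hq1
    · exact h.eq_of_infty (by rw [(mem_torus.1 hq).1, (mem_torus.1 hu).1])
        fun t => by rw [ha, hu']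
  have huu : u * u = 1 := h.eq_of_infty (by rw [mul_smul, (mem_torus.1 hu).1, (mem_torus.1 hu).1,
    one_smul]) fun t => by rw [mul_smul, hu', hu']; simp
  have hu1 : u ≠ 1 := by
    intro e
    have := hu' 1
    rw [e, one_smul, coe_eq_coe] at this
    exact hneg 1 one_ne_zero (by simpa using this)
  have hv : ∀ t : F, ∃ v : G, t ≠ 0 → v * v = 1 ∧ v • (t : OnePoint F) = t ∧
      v • ((-t : F) : OnePoint F) = (-t : F) ∧
      v • (∞ : OnePoint F) = (0 : F) ∧
      v • ((0 : F) : OnePoint F) = ∞ := by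
    intro t
    by_cases ht : t = 0
    · exact ⟨1, fun h => absurd ht h⟩
    have hne : (t : OnePoint F) ≠ (-t : F) := fun e => hneg t ht (coe_eq_coe.1 e)
    obtain ⟨k, hk1, hk2⟩ := h.exists_smul_eq hne
    set v := k * u * k⁻¹ with hv
    have a0 : v * v = 1 := by
      calc v * v = k * (u * u) * k⁻¹ := by rw [hv]; group
        _ = 1 := by rw [huu]; group
    have a1 : v • (t : OnePoint F) = t := by
      rw [← hk1, hv, mul_smul, inv_smul_smul, mul_smul, (mem_torus.1 hu).1]
    have a2 : v • ((-t : F) : OnePoint F) = (-t : F) := by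
      rw [← hk2, hv, mul_smul, inv_smul_smul, mul_smul, (mem_torus.1 hu).2]
    have hv1 : v ≠ 1 := fun e => hu1 (by
      calc u = k⁻¹ * v * k := by rw [hv]; group
        _ = 1 := by rw [e]; group)
    have a3 : k⁻¹ * (u * v * u) * k = u := by
      refine huniq _ (mem_torus.2 ⟨?_, ?_⟩) ?_ ?_
      · simp only [mul_smul]
        rw [hk1, hu', neg_one_mul, a2, hu', neg_one_mul, neg_neg, ← hk1, inv_smul_smul]
      · simp only [mul_smul]
        rw [hk2, hu', neg_one_mul, neg_neg, a1, hu', neg_one_mul, ← hk2, inv_smul_smul]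
      · calc _ = k⁻¹ * (u * (v * (u * u) * v) * u) * k := by group
          _ = 1 := by rw [huu, mul_one, a0, mul_one, huu]; group
      · intro e
        apply hv1
        calc v = u⁻¹ * (k * (k⁻¹ * (u * v * u) * k) * k⁻¹) * u⁻¹ := by group
          _ = (u * u)⁻¹ := by rw [e]; group
          _ = 1 := by rw [huu, inv_one]
    have a4 : u * v = v * u := by
      calc u * v = k * (k⁻¹ * (u * v * u) * k) * k⁻¹ * u * (u * u)⁻¹ := by group
        _ = v * u := by rw [a3, huu]; simp [hv]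
    have a5 : v • ((0 : F) : OnePoint F) = ∞ := by
      by_contra hc
      obtain ⟨s, hs⟩ := ne_infty_iff_exists.1 hc
      have b1 : u • (s : OnePoint F) = s := by
        rw [hs, ← mul_smul, a4, mul_smul, (mem_torus.1 hu).2]
      rw [hu', coe_eq_coe, neg_one_mul] at b1
      have b2 : s = 0 := by_contra fun hs0 => hneg s hs0 b1.symm
      rw [b2] at hs
      exact hv1 (h.eq_one_of_fix hne (fun e => ht (coe_eq_coe.1 e).symm)
        (fun e => ht (neg_eq_zero.1 (coe_eq_coe.1 e).symm)) hs.symm a1 a2)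
    exact ⟨v, fun _ => ⟨a0, a1, a2, by rw [← a5, ← mul_smul, a0, one_smul], a5⟩⟩
  choose v hv using hv
  obtain ⟨hw, hw1, hwm, hw2, hw3⟩ := hv 1 one_ne_zero
  set w := v 1
  have hsw : ∀ g : G, g • (∞ : OnePoint F) = (0 : F) →
      g • ((0 : F) : OnePoint F) = ∞ → g * w ∈ torus F G := fun g a b =>
    mem_torus.2 ⟨by rw [mul_smul, hw2, b], by rw [mul_smul, hw3, a]⟩
  have hinv : ∀ q ∈ torus F G, w * q = q⁻¹ * w := by
    classical
    have := Fintype.ofFinite G
    let T := Finset.univ.filter fun q : G => q ∈ torus F G ∧ (q * w) * (q * w) = 1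
    let U := Finset.univ.filter fun q : G => q ∈ torus F G
    have hU : U.card = e := by
      rw [← h.card_torus hG, Nat.card_eq_fintype_card, Fintype.card_subtype]
    have hT : (Finset.univ.filter fun t : F => t ≠ 0).card ≤ 2 * T.card := by
      refine Finset.card_le_mul_card_image_of_maps_to (f := fun t => v t * w) ?_ _ ?_
      · intro t ht
        obtain ⟨b1, -, -, b2, b3⟩ := hv t (Finset.mem_filter.1 ht).2
        exact Finset.mem_filter.2 ⟨Finset.mem_univ _, hsw _ b2 b3, by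
          rw [mul_assoc (v t) w w, hw, mul_one, b1]⟩
      · intro q _
        rcases ((Finset.univ.filter fun t : F => t ≠ 0).filter
          fun t => v t * w = q).eq_empty_or_nonempty with h0 | ⟨t, ht⟩
        · rw [h0]; simp
        obtain ⟨ht0, ht⟩ := Finset.mem_filter.1 ht
        replace ht0 := (Finset.mem_filter.1 ht0).2
        refine le_trans (Finset.card_le_card (t := {t, -t}) fun s hs => ?_) Finset.card_le_two
        obtain ⟨hs0, hs⟩ := Finset.mem_filter.1 hs
        replace hs0 := (Finset.mem_filter.1 hs0).2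
        have e : v s = v t := mul_right_cancel (hs.trans ht.symm)
        by_contra hc
        simp only [Finset.mem_insert, Finset.mem_singleton, not_or] at hc
        obtain ⟨-, b1, b2, b3, -⟩ := hv t ht0
        have := h.eq_one_of_fix (fun e => hneg t ht0 (coe_eq_coe.1 e))
          (fun e => hc.1 (coe_eq_coe.1 e)) (fun e => hc.2 (coe_eq_coe.1 e))
          (e ▸ (hv s hs0).2.1) b1 b2
        rw [this, one_smul] at b3
        exact infty_ne_coe _ b3
    rw [Finset.filter_ne' Finset.univ (0 : F), Finset.card_erase_of_mem (Finset.mem_univ _),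
      Finset.card_univ] at hT
    have hTU : T = U := Finset.eq_of_subset_of_card_le
      (fun q hq => Finset.mem_filter.2 ⟨Finset.mem_univ _, (Finset.mem_filter.1 hq).2.1⟩)
      (by omega)
    intro q hq
    have : q ∈ T := hTU ▸ Finset.mem_filter.2 ⟨Finset.mem_univ _, hq⟩
    have := (Finset.mem_filter.1 this).2.2
    calc w * q = q⁻¹ * (q * w * (q * w)) * w * (w * w)⁻¹ := by group
      _ = q⁻¹ * w := by rw [this, hw]; group
  obtain ⟨f, hf, hf'⟩ := h.exists_fun he hG hw2 hw3 hinv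
  have hf1 : f 1 = 1 := coe_eq_coe.1 ((hf 1 one_ne_zero).1.symm.trans hw1)
  obtain ⟨τ, hτ, σ, hσ0, hσ⟩ : ∃ τ : F, ¬ IsSquare τ ∧ ∃ σ, σ ≠ 0 ∧ τ = σ ^ 2 + 1 := by
    obtain ⟨c, hc⟩ := FiniteField.exists_nonsquare (char_ne_two he)
    obtain ⟨a, b, hab⟩ := FiniteField.exists_root_sum_quadratic (f := Polynomial.X ^ 2)
      (g := Polynomial.X ^ 2 - Polynomial.C c) (Polynomial.degree_X_pow 2)
      (Polynomial.degree_X_pow_sub_C two_pos c) (by omega)
    simp only [Polynomial.eval_pow, Polynomial.eval_X, Polynomial.eval_sub,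
      Polynomial.eval_C] at hab
    have ha : a ≠ 0 := by rintro rfl; exact hc ⟨b, by linear_combination -hab⟩
    have hb : b ≠ 0 := by rintro rfl; exact hc ⟨a, by linear_combination -hab⟩
    refine ⟨c / b ^ 2, fun ⟨r, hr⟩ => hc ⟨r * b, ?_⟩, a / b, div_ne_zero ha hb, ?_⟩
    · field_simp at hr
      linear_combination hr
    · field_simp
      linear_combination -hab
  have hτ0 : τ ≠ 0 := by rintro rfl; exact hτ IsSquare.zero
  have hfτ : f τ * τ = 1 := by
    obtain ⟨x, hxi, hxc⟩ := h.transl 1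
    have hx : ∀ t : F, x⁻¹ • (t : OnePoint F) = (t - 1 : F) := fun t => by
      rw [inv_smul_eq_iff, hxc, sub_add_cancel]
    have hx' : x⁻¹ • (∞ : OnePoint F) = ∞ := by rw [inv_smul_eq_iff, hxi]
    have a1 := hsw (x⁻¹ * w * x * w * x⁻¹)
      (by simp only [mul_smul]; rw [hx', hw2, hxc, zero_add, hw1, hx, sub_self])
      (by simp only [mul_smul]; rw [hx, zero_sub, hwm, hxc, neg_add_cancel, hw3, hx'])
    obtain ⟨a, -, ha⟩ := h.exists_mul (mem_torus.1 a1).1 (mem_torus.1 a1).2
    have a2 := ha 1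
    simp only [mul_smul] at a2
    rw [hw1, hx, sub_self, hw3, hxi, hw2, hx, coe_eq_coe] at a2
    have a3 := ha (f τ)
    have a4 : σ ^ 2 * f (σ ^ 2) = 1 := by simpa [hf1] using hf' σ 1 hσ0 one_ne_zero
    have a5 : f (σ ^ 2) + 1 = σ⁻¹ ^ 2 * τ := by
      rw [hσ]; field_simp; linear_combination a4
    rw [mul_smul, ← (hf τ hτ0).1, ← mul_smul w, hw, one_smul] at a3
    simp only [mul_smul] at a3
    rw [hx, show τ - 1 = σ ^ 2 by rw [hσ]; ring, (hf _ (pow_ne_zero 2 hσ0)).1, hxc, a5,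
      (hf _ (mul_ne_zero (pow_ne_zero 2 (inv_ne_zero hσ0)) hτ0)).1, hx, coe_eq_coe] at a3
    have a6 := hf' σ⁻¹ τ (inv_ne_zero hσ0) hτ0
    have a7 : f (σ⁻¹ ^ 2 * τ) = σ ^ 2 * f τ := by rw [← a6]; field_simp
    rw [a7] at a3
    linear_combination a3 + f τ * hσ - f τ * a2
  obtain ⟨c, hc⟩ := (isSquare_iff he (a := -1) (by simp)).2 ho.neg_one_pow
  refine ⟨w, c, by rintro rfl; simp at hc, hw2, hw3, fun t ht => ?_⟩
  rw [(hf t ht).1, coe_eq_coe, eq_div_iff ht]
  by_cases hs : IsSquare t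
  · obtain ⟨r, rfl⟩ := hs
    have := hf' r 1 (left_ne_zero_of_mul ht) one_ne_zero
    rw [mul_one, sq, hf1] at this
    linear_combination this - hc
  · obtain ⟨r, hr0, hr⟩ := exists_eq_sq_mul he hs hτ
    have := hf' r _ hr0 hτ0
    rw [← hr] at this
    linear_combination f t * hr + τ * this + hfτ - hc

theorem nonempty_equiv (he : Fintype.card F = 2 * e + 1) (hG : Nat.card G = (Fintype.card F + 1) * Fintype.card F * e)
    (hperf : commutator G = ⊤) :
    Nonempty (G ≃* Matrix.ProjectiveSpecialLinearGroup (Fin 2) F) := by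
  obtain ⟨w, c, hc, hw1, hw2, hw3⟩ := (Nat.even_or_odd e).elim (h.exists_inv_of_even he hG)
    (h.exists_inv_of_odd he hG hperf)
  refine nonempty_equiv_psl_of_coord (toPermHom G (OnePoint F))
    ((injective_iff_map_eq_one _).2 fun g hg => h.faithful g fun t => congrArg (· t) hg)
    (fun g hg => ?_) (fun a b ha => ?_) hc hw1 hw2 hw3
  · obtain ⟨a, b, ha, hab⟩ := h.affine hg
    obtain ⟨y, hy1, hy⟩ := h.transl (-b)
    have a2 : a ^ e = 1 := h.pow_eq_one_of_mul hG (q := y * g) (mem_torus.2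
      ⟨by rw [mul_smul, show g • ∞ = ∞ from hg, hy1], by rw [mul_smul, hab, hy]; simp⟩)
      (by rw [mul_smul, hab, hy]; simp)
    obtain ⟨r, rfl⟩ := (isSquare_iff he ha).2 a2
    exact ⟨r, b, left_ne_zero_of_mul ha, by simpa [sq] using hab⟩
  · obtain ⟨q, hq, hq'⟩ := h.exists_torus hG
      ((isSquare_iff he (pow_ne_zero 2 ha)).1 ⟨a, sq a⟩)
    obtain ⟨y, hy1, hy⟩ := h.transl b
    exact ⟨y * q, by simp [mul_smul, (mem_torus.1 hq).1, hy1], fun t => by
      simp only [toPermHom_apply, toPerm_apply, mul_smul, hq', hy]⟩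

end ZassF

end Cfsg

set_option linter.all false in
theorem Cfsg.Rz.Grp_ZassF_0 : True := by
  have := @_root_.Cfsg.ZassF.torus.eq_def.{0, 0}
  have := @_root_.Cfsg.ZassF.torus.fun_cases
  have := @_root_.Cfsg.ZassF.mk.congr_simp.{0, 0}
  trivial
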