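import Cfsg.Agent.Grp.OneClassA
import Cfsg.Agent.Char.Gagola
import Cfsg.Agent.Char.Count
import Cfsg.Agent.FT.Main

/-!
# Groups in which `G' \ K` is a single conjugacy class
-/

set_option autoImplicit false
set_option linter.unusedSectionVars false
set_option linter.unusedVariables false
set_option linter.style.haveILetI false

namespace Cfsg

open Subgroup Cfsg.Agent.FT
open scoped commutatorElement IsMulCommutative

universe u v

namespace OneClass

variable {G : Type u} [Group G] [Finite G] {H : Type v} [Group H] [Finite H]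

theorem card_cent_eq {π : G →* H} (hπ : Function.Surjective π) {x : G}
    (h : ∀ k ∈ π.ker, IsConj (k * x) x) : Nat.card 𝓒[x] = Nat.card 𝓒[π x] := by
  have e := card_mul_card_centralizer_map (f := π.ker.subtype) (subtype_injective _) hπ
    (range_subtype _).symm x
  rw [Nat.card_congr (Equiv.subtypeUnivEquiv (p := fun n => IsConj (π.ker.subtype n * x) x)
    fun n : π.ker => h n n.2), mul_comm] at e
  exact (Nat.eq_of_mul_eq_mul_right Nat.card_pos e).symm

theorem exists_conj_eq_mul {P P₀ : Subgroup G} {x : G}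
    (h : ∀ u ∈ P, x⁻¹ * (u * x * u⁻¹) ∈ P₀) (hc : Nat.card 𝓒[x] * Nat.card P₀ ≤ Nat.card P)
    {k : G} (hk : k ∈ P₀) : ∃ u ∈ P, u * x * u⁻¹ = x * k := by
  let f : P ⧸ (𝓒[x]).subgroupOf P → P₀ :=
    Quotient.lift (fun u : P => ⟨x⁻¹ * (u * x * (u : G)⁻¹), h u u.2⟩) fun a b e => by
      have e' : ((a : G)⁻¹ * b) * x = x * ((a : G)⁻¹ * b) :=
        mem_cent1.1 (mem_subgroupOf.1 (QuotientGroup.leftRel_apply.1 e))
      refine Subtype.ext (congrArg (x⁻¹ * ·) ?_)
      calc (a : G) * x * (a : G)⁻¹ = a * (x * ((a : G)⁻¹ * b)) * (b : G)⁻¹ := by group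
        _ = _ := by rw [← e']; group
  have hi : Function.Injective f := by
    rintro ⟨a⟩ ⟨b⟩ e
    have e' : (a : G) * x * (a : G)⁻¹ = b * x * (b : G)⁻¹ :=
      mul_left_cancel (congrArg Subtype.val e)
    refine Quotient.sound (QuotientGroup.leftRel_apply.2 (mem_subgroupOf.2 (mem_cent1.2 ?_)))
    calc ((a : G)⁻¹ * b) * x = (a : G)⁻¹ * (b * x * (b : G)⁻¹) * b := by group
      _ = x * ((a : G)⁻¹ * b) := by rw [← e']; group
  have h1 := ((𝓒[x]).subgroupOf P).index_mul_card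
  have h2 : Nat.card ((𝓒[x]).subgroupOf P) ≤ Nat.card 𝓒[x] :=
    Nat.card_le_card_of_injective (fun y => (⟨y.1, y.2⟩ : 𝓒[x])) fun a b e =>
      Subtype.ext (Subtype.ext (congrArg Subtype.val e :))
  have h3 : Nat.card P₀ ≤ Nat.card (P ⧸ (𝓒[x]).subgroupOf P) := by
    refine Nat.le_of_mul_le_mul_left (c := Nat.card 𝓒[x]) (hc.trans ?_) Nat.card_pos
    rw [← h1, mul_comm]
    exact Nat.mul_le_mul_right _ h2
  obtain ⟨⟨u⟩, e⟩ := ((Nat.bijective_iff_injective_and_card f).2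
    ⟨hi, (Nat.card_le_card_of_injective f hi).antisymm h3⟩).2 ⟨k, hk⟩
  exact ⟨u, u.2, inv_mul_eq_iff_eq_mul.1 (congrArg Subtype.val e)⟩

theorem isSolvable_of_isCyclic_sylow_two {S K : Subgroup G} (hS : IsSylowOf 2 S K)
    (hc : IsCyclic S) : Group.IsSolvable K := by
  obtain ⟨R, rfl⟩ := hS.exists_sylow
  haveI : IsCyclic (R : Subgroup K) :=
    isCyclic_of_surjective _ (equivMapOfInjective _ _ (subtype_injective K)).symm.surjective
  obtain ⟨P, N, hN, hc⟩ := hasNormalPComplement_two_of_isCyclic R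
  haveI : Group.IsSolvable N := oddOrder <| by
    rw [← Nat.not_even_iff_odd, even_iff_two_dvd, ← hc.index_eq_card]
    exact P.not_dvd_index
  haveI : Group.IsSolvable (K ⧸ N) := by
    haveI := (IsPGroup.of_card (p := 2) (G := K ⧸ N)
      (hc.symm.index_eq_card.trans P.card_eq_multiplicity)).isNilpotent
    infer_instance
  exact solvable_of_ker_le_range N.subtype (QuotientGroup.mk' N) (by simp)

variable {χ : IrrCharacter H}

theorem cent_le_cent (h : IsGagola χ (commutator H)) {x y : H} (hx : x ∈ commutator H)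
    (hx1 : x ≠ 1) (hy : y ∈ commutator H) : 𝓒[x] ≤ 𝓒[y] := by
  by_cases hy1 : y = 1
  · intro c _; rw [mem_cent1, hy1, mul_one, one_mul]
  haveI := h.isMulCommutative
  haveI : (𝓒[x]).Normal := Normal.of_commutator_le _ <| by
    intro c hc; exact mem_cent1.2 (congrArg Subtype.val (mul_comm (⟨c, hc⟩ : commutator H) ⟨x, hx⟩))
  obtain ⟨g, rfl⟩ := isConj_iff.1 (h.isConj x hx y hy hx1 hy1)
  intro c hc
  have := mem_cent1.1 (this.conj_mem' c hc g)
  rw [mem_cent1]
  calc c * (g * x * g⁻¹) = g * (g⁻¹ * c * g * x) * g⁻¹ := by group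
    _ = _ := by rw [this]; group

/-- Seitz's dichotomy. -/
theorem cent_eq_or (h : IsGagola χ (commutator H)) {x : H} (hx : x ∈ commutator H) (hx1 : x ≠ 1) :
    𝓒[x] = commutator H ∨ 𝓒[x] = ⊤ := by
  haveI := h.isMulCommutative
  by_contra! hne
  have hle : commutator H ≤ 𝓒[x] := fun c hc =>
    mem_cent1.2 (congrArg Subtype.val (mul_comm (⟨c, hc⟩ : commutator H) ⟨x, hx⟩))
  obtain ⟨y, hy, hyN⟩ := SetLike.exists_of_lt (hle.lt_of_ne hne.1.symm)
  obtain ⟨t, -, ht⟩ := SetLike.exists_of_lt (lt_top_iff_ne_top.2 hne.2)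
  have fpf : ∀ z ∈ commutator H, t * z * t⁻¹ = z → z = 1 := fun z hz e => by
    by_contra h1
    exact ht (cent_le_cent h hz h1 hx (mem_cent1.2 (mul_inv_eq_iff_eq_mul.1 e)))
  have cm : ∀ a b : H, ⁅a, b⁆ ∈ commutator H := fun a b =>
    commutator_mem_commutator (mem_top a) (mem_top b)
  obtain ⟨n, hn, e⟩ := exists_eq_commutator_of_fpf fpf (cm y⁻¹ t)
  obtain ⟨c, hc⟩ : ∃ c, c = y * n⁻¹ := ⟨_, rfl⟩
  have hcx : c ∈ 𝓒[x] := hc ▸ mul_mem hy (hle (inv_mem hn))
  have hcN : c ∉ commutator H := fun e => hyN (by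
    have := mul_mem e hn
    rwa [hc, inv_mul_cancel_right] at this)
  have hct : t * c * t⁻¹ = c := by
    rw [commutatorElement_def, inv_inv] at e
    have e3 : t * y * t⁻¹ = y * (n⁻¹ * (t * n * t⁻¹)) := by rw [← e]; group
    calc t * c * t⁻¹ = (t * y * t⁻¹) * (t * n * t⁻¹)⁻¹ := by rw [hc]; group
      _ = _ := by rw [e3, hc]; group
  obtain ⟨u, hu⟩ := isConj_iff.1 (h.isConj_mul hcN hx)
  refine hx1 (fpf x hx ?_)
  have e4 : c * ⁅u⁻¹, t⁆ = ⁅u⁻¹, t⁆ * c := mem_cent1.1 (cent_le_cent h hx hx1 (cm _ _) hcx)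
  refine mul_left_cancel (a := c) ?_
  calc c * (t * x * t⁻¹) = t * c * t⁻¹ * (t * x * t⁻¹) := by rw [hct]
    _ = t * (c * x) * t⁻¹ := by group
    _ = u * (⁅u⁻¹, t⁆ * (t * c * t⁻¹)) * ⁅u⁻¹, t⁆⁻¹ * u⁻¹ := by
      rw [← hu, commutatorElement_def]; group
    _ = c * x := by rw [hct, ← e4, ← hu]; group

theorem caseB {π : G →* H} (hπ : Function.Surjective π) (h : IsGagola χ (commutator H)) {z : H}
    (hz : z ∈ commutator H) (hz1 : z ≠ 1) (hc : 𝓒[z] = ⊤)
    (hC : ∀ x, π x = z → Nat.card 𝓒[x] = Nat.card H) : Group.IsSolvable π.ker := by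
  have cz : ∀ a, a * z * a⁻¹ = z := fun a =>
    mul_inv_eq_iff_eq_mul.2 (mem_cent1.1 (hc ▸ mem_top a : a ∈ 𝓒[z]))
  have two : ∀ y ∈ commutator H, y = 1 ∨ z⁻¹ * y = 1 := fun y hy => by
    refine or_iff_not_imp_left.2 fun h1 => ?_
    obtain ⟨a, rfl⟩ := isConj_iff.1 (h.isConj z hz y hy hz1 h1)
    rw [cz, inv_mul_cancel]
  have z2 : z ^ 2 = 1 := by
    have := (two _ (inv_mem hz)).resolve_left (inv_ne_one.2 hz1)
    rw [← mul_inv_rev, inv_eq_one] at this
    rwa [sq]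
  have sq1 : ∀ y ∈ commutator H, y ^ 2 = 1 := fun y hy => by
    rcases two y hy with e | e
    · rw [e, one_pow]
    · rw [← inv_mul_eq_one.1 e, z2]
  have cm : ∀ a b : H, ⁅a, b⁆ ∈ commutator H := fun a b =>
    commutator_mem_commutator (mem_top a) (mem_top b)
  have nc : ∀ a, a ∉ commutator H → ∃ b, z⁻¹ * ⁅a, b⁆ = 1 := fun a ha => by
    obtain ⟨u, hu⟩ := isConj_iff.1 (h.isConj_mul ha hz)
    refine ⟨u, (two _ (cm a u)).resolve_left fun e => hz1 ?_⟩
    rw [← (commutatorElement_eq_one_iff_mul_comm.1 e), mul_inv_cancel_right] at hu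
    exact left_eq_mul.1 hu
  have hH : IsPGroup 2 H := by
    have := h.isPGroup_centralizer (p := 2) (fun y => ⟨1, Subtype.ext (sq1 y y.2)⟩) hz hz1
    rw [hc] at this
    exact this.of_equiv topEquiv
  obtain ⟨P, hP⟩ := exists_sylow 2 (⊤ : Subgroup G)
  have hi : π.ker.index = Nat.card H := by rw [index_ker, π.range_eq_top.2 hπ, card_top]
  obtain ⟨j, hj⟩ := IsPGroup.iff_card.1 hH
  have hs : Function.Surjective (π.comp P.subtype) := fun y => by
    obtain ⟨g, rfl⟩ := hπ y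
    obtain ⟨a, ha, k, hk, rfl⟩ := (hP.isProd (K := π.ker) le_top (by
      rw [relIndex_top_right, hi]
      exact (isPiNumber_singleton_iff Nat.prime_two Nat.card_pos.ne').2 ⟨j, hj⟩)).2.2 g (mem_top g)
    exact ⟨⟨a, ha⟩, by rw [map_mul, MonoidHom.mem_ker.1 hk, mul_one]; rfl⟩
  set ρ := π.comp P.subtype
  obtain ⟨x, hx⟩ := hs z
  have b5 : ∀ u, x⁻¹ * (u * x * u⁻¹) ∈ ρ.ker := fun u => by
    simp only [MonoidHom.mem_ker, map_mul, map_inv, hx, cz, inv_mul_cancel]
  have hle := (pow_four_eq_one hP.pgroup (P₀ := ρ.ker) (x := x)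
    (fun e => hz1 (hx.symm.trans e)) (by rw [MonoidHom.mem_ker, map_pow, hx, z2])
    (fun a => ?_) (fun a => ?_) (fun k hk => ?_) b5).1
  · refine isSolvable_of_isCyclic_sylow_two (hP.inf_normal (IsNormalOf.top_iff.2 inferInstance))
      (cyclic_of_le (K := zpowers ((x : G) ^ 2)) inferInstance fun y hy => ?_)
    obtain ⟨n, hn⟩ := hle (show (⟨y, hy.1⟩ : P) ∈ ρ.ker from hy.2)
    exact ⟨n, congrArg Subtype.val hn⟩
  · simp only [MonoidHom.mem_ker, map_mul, map_inv, map_pow, hx]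
    refine two _ (by_contra fun e => ?_)
    obtain ⟨b, hb⟩ := nc _ e
    have : Commute (ρ a) ⁅ρ a, b⁆ := by
      rcases two _ (cm (ρ a) b) with e | e
      · rw [e]; exact Commute.one_right _
      · rw [← inv_mul_eq_one.1 e]; exact mul_inv_eq_iff_eq_mul.1 (cz _)
    rw [comm_pow_left this, sq1 _ (cm _ _), mul_one, inv_eq_one] at hb
    exact hz1 hb
  · simp only [MonoidHom.mem_ker, map_mul, map_inv, hx, map_commutatorElement]
    by_cases e : ρ a ∈ commutator H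
    · exact .inl (two _ e)
    · obtain ⟨b, hb⟩ := nc _ e
      obtain ⟨b, rfl⟩ := hs b
      exact .inr ⟨b, hb⟩
  · refine (exists_conj_eq_mul (P := ⊤) (fun u _ => b5 u) ?_ hk).imp fun u hu => hu.2
    rw [card_top, ← ρ.ker.index_mul_card, index_ker, ρ.range_eq_top.2 hs, card_top, ← hC x hx]
    exact Nat.mul_le_mul_right _ (Nat.card_le_card_of_injective
      (fun y => (⟨y.1, mem_cent1.2 (congrArg Subtype.val (mem_cent1.1 y.2))⟩ : 𝓒[(x : G)]))
      fun a b e => Subtype.ext (Subtype.ext (congrArg Subtype.val e :)))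

theorem exists_gen (h : IsGagola χ (commutator H)) {p : ℕ} [hp : Fact p.Prime]
    (hN : IsPGroup p (commutator H)) {z : H} (hz : z ∈ commutator H) (hz1 : z ≠ 1)
    (hc : 𝓒[z] = commutator H) :
    ∃ r : H, ∀ m, r ^ m ∈ commutator H ↔ (commutator H).index ∣ m := by
  have hi : ¬ p ∣ (commutator H).index := hc ▸ h.not_dvd_index_centralizer hN hz hz1
  have hS : IsSylowOf p (commutator H) ⊤ := ⟨le_top, hN, by rwa [relIndex_top_right]⟩
  obtain ⟨R, hR⟩ := hS.isHallOf.exists_compl (by rw [normalizer_eq_top])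
  have hi := hR.inf
  have hab : IsMulCommutative R := comm_iff_der.2 (le_bot_iff.1
    (hi ▸ le_inf (commutator_mono le_top le_top) (der_le R)))
  have hcyc := abelian_regular_cyclic hab h.ne_bot (by rw [normalizer_eq_top]; exact le_top)
    fun r hr hr1 => eq_bot_iff.2 fun y hy => by_contra fun hy1 => hr1 <| by
      have : r ∈ 𝓒[z] := cent_le_cent h hy.1 hy1 hz (mem_cent1.2 (mem_cent1.1 hy.2).symm)
      exact mem_bot.1 (hi ▸ mem_inf.2 ⟨hc ▸ this, hr⟩)
  obtain ⟨r, hr⟩ := IsCyclic.exists_ofOrder_eq_natCard (α := R)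
  refine ⟨r, fun m => ?_⟩
  rw [← relIndex_top_right, hR.relIndex_left, ← hr, orderOf_dvd_iff_pow_eq_one]
  exact ⟨fun e => Subtype.ext (mem_bot.1 (hi ▸ mem_inf.2 ⟨e, pow_mem r.2 m⟩)),
    fun e => by rw [← coe_pow, e]; exact one_mem _⟩

/-- The local structure in the Frobenius case. -/
structure CaseA (p a : ℕ) (K N : Subgroup G) : Prop where
  nK : K.Normal
  nN : N.Normal
  le : K ≤ N
  rel : K.relIndex N = p ^ a
  der : ∀ x ∈ N, ∀ y ∈ N, ⁅x, y⁆ ∈ K
  pow : ∀ x ∈ N, x ^ p ∈ K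
  cent : ∀ x ∈ N, x ∉ K → Nat.card 𝓒[x] = p ^ a
  ndvd : ¬ p ∣ N.index
  gen : ∃ r : G, ∀ m, r ^ m ∈ N ↔ p ^ a - 1 ∣ m
  fpf : ∀ t, t ∉ N → ∀ x ∈ N, ∃ n ∈ N, x⁻¹ * (n⁻¹ * (t * n * t⁻¹)) ∈ K

namespace CaseA

variable {p a : ℕ} [hp : Fact p.Prime] {K N P : Subgroup G}

theorem isProd (h : CaseA p a K N) (hP : IsSylowOf p P N) : IsProd P K N :=
  hP.isProd h.le (h.rel ▸ (isPiNumber_singleton_iff hp.out (pow_pos hp.out.pos a).ne').2 ⟨a, rfl⟩)

theorem card_eq (h : CaseA p a K N) (hP : IsProd P K N) :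
    Nat.card P = p ^ a * Nat.card (P ⊓ K : Subgroup G) := by
  rw [← h.rel, hP.symm.relIndex_eq, ← inf_relIndex_left, mul_comm]
  exact (card_mul_relIndex inf_le_left).symm

theorem exists_notMem (h : CaseA p a K N) (ha : 0 < a) (hP : IsProd P K N) : ∃ x ∈ P, x ∉ K := by
  by_contra! e
  have := h.card_eq hP
  rw [inf_eq_left.2 e, eq_comm, mul_eq_right₀ Nat.card_pos.ne'] at this
  exact (Nat.one_lt_pow ha.ne' hp.out.one_lt).ne' this

theorem eq_one (h : CaseA p a K N) {x w : G} (hx : x ∈ N) (hxK : x ∉ K) (hw : IsPRegular p w)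
    (e : w ∈ 𝓒[x]) : w = 1 :=
  (isPElt_of_mem (IsPGroup.of_card (h.cent x hx hxK)) e).eq_one_of_isPRegular hw

theorem exists_cent (h : CaseA p a K N) (ha : 1 < a) (hP : IsSylowOf p P N) :
    ∃ t ∈ 𝓝(P), t ∉ N ∧ t ∈ 𝓒((P ⊓ K : Subgroup G)) := by
  haveI := h.nK; haveI := h.nN
  obtain ⟨r, hr⟩ := h.gen
  obtain ⟨n, hn, s, hs, e⟩ := (hP.frattini (IsNormalOf.top_iff.2 h.nN)).2.2 r (mem_top r)
  obtain ⟨x, hx, hxK⟩ := h.exists_notMem (by omega) (h.isProd hP)
  have h1 : ∀ m, (r : G ⧸ N) ^ m = 1 ↔ p ^ a - 1 ∣ m := fun m => by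
    rw [← hr, ← QuotientGroup.mk_pow, QuotientGroup.eq_one_iff]
  have h2 : ((pPrimePart p s : G) : G ⧸ N) = r := by
    have : (r : G ⧸ N) = s := by
      rw [e, QuotientGroup.mk_mul, (QuotientGroup.eq_one_iff n).2 hn, one_mul]
    refine (map_pPrimePart p (QuotientGroup.mk' N) s).trans ?_
    rw [QuotientGroup.mk'_apply, ← this, pPrimePart_eq_self_iff]
    exact fun e => h.ndvd (e.trans (orderOf_dvd_natCard _))
  have hr' : ∀ m, pPrimePart p s ^ m ∈ N ↔ p ^ a - 1 ∣ m := fun m => by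
    rw [← h1, ← h2, ← QuotientGroup.mk_pow, QuotientGroup.eq_one_iff]
  have hreg := isPRegular_pPrimePart p s
  have hnP : pPrimePart p s ∈ 𝓝(P) := pPrimePart_mem p hs.2
  generalize pPrimePart p s = t at hr' hreg hnP
  have hnPK : ∀ u ∈ 𝓝(P), u ∈ 𝓝((P ⊓ K : Subgroup G)) := fun u hu =>
    inf_normalizer_le_normalizer_inf ⟨hu, by rw [normalizer_eq_top]; exact mem_top _⟩
  have hh : t ^ (p ^ a - 1) = 1 := by
    have hu := (hr' _).2 dvd_rfl
    have hureg := hreg.pow (p ^ a - 1)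
    have hun := pow_mem hnP (p ^ a - 1)
    generalize t ^ (p ^ a - 1) = u at hu hureg hun
    obtain ⟨k, hk, e⟩ := (isCoprimeAction_zpowers (hnPK u hun)
      (IsPGroup.coprime_card_of_not_dvd hP.pgroup.to_inf_left hureg)).exists_mul_mem_centralizer
      (x := x) fun b hb => by
        have hb1 : b ∈ 𝓝(P) := zpowers_le.2 hun hb
        refine mem_inf.2 ⟨?_, by
          simpa [commutatorElement_def] using h.der _ (inv_mem (hP.le hx)) _ (zpowers_le.2 hu hb)⟩
        have := mul_mem (inv_mem hx) ((mem_normalizer_iff.1 hb1 x).1 hx)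
        simpa only [mul_assoc] using this
    refine h.eq_one (mul_mem (hP.le hx) (h.le hk.2)) (fun e => hxK ?_) hureg
      (mem_cent1.2 (e u (mem_zpowers u)))
    exact (K.mul_mem_cancel_right hk.2).1 e
  obtain ⟨m, m0, m1, hm⟩ := exists_cyclotomic_exponent hp.out.one_lt ha
  exact ⟨t ^ m, pow_mem hnP m, fun e => (Nat.le_of_dvd m0 ((hr' m).1 e)).not_gt m1,
    pow_mem_centralizer hP.pgroup inf_le_left hx (fun e => hxK e.2)
      (h.cent x (hP.le hx) hxK).le hreg hnP hh (by omega) hm _ le_rfl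
      (fun u hu => hnPK u (le_normalizer hu)) (hnPK t hnP)⟩

theorem central (h : CaseA p a K N) (ha : 1 < a) (hP : IsSylowOf p P N) :
    P ⊓ K ≤ 𝓒(P) ∧ ∀ z ∈ P ⊓ K, z ^ p = 1 := by
  haveI := h.nK
  obtain ⟨t, ht, htN, htc⟩ := h.exists_cent ha hP
  have hnPK : P ≤ 𝓝((P ⊓ K : Subgroup G)) := fun u hu => inf_normalizer_le_normalizer_inf
    ⟨le_normalizer hu, by rw [normalizer_eq_top]; exact mem_top _⟩
  have h3 : ⁅zpowers t, P⁆ ≤ 𝓒((P ⊓ K : Subgroup G)) := by
    have h1 : ⁅P ⊓ K, zpowers t⁆ = ⊥ := le_cent_iff_comm'.1 (zpowers_le.2 htc)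
    refine le_cent_iff_comm.2 (three_subgroups (le_bot_iff.1 ?_) (by rw [h1, commutator_bot_left]))
    exact h1 ▸ commutator_mono (comm_le_right hnPK) le_rfl
  have hd : ∀ x ∈ P, ∃ c ∈ P ⊓ 𝓒((P ⊓ K : Subgroup G)), ∃ k ∈ P ⊓ K, x = c * k := fun x hx => by
    obtain ⟨n, hn, e⟩ := h.fpf t htN x (hP.le hx)
    obtain ⟨u, hu, k, hk, rfl⟩ := (h.isProd hP).2.2 n hn
    have c1 : u⁻¹ * (t * u * t⁻¹) ∈ P := mul_mem (inv_mem hu) ((mem_normalizer_iff.1 ht u).1 hu)
    have c2 : u⁻¹ * (t * u * t⁻¹) ∈ 𝓒((P ⊓ K : Subgroup G)) := by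
      have := inv_mem (h3 (commutator_mem_commutator (mem_zpowers t) (inv_mem hu)))
      simpa [commutatorElement_def, mul_assoc] using this
    refine ⟨_, ⟨c1, c2⟩, (u⁻¹ * (t * u * t⁻¹))⁻¹ * x, 
      mem_inf.2 ⟨mul_mem (inv_mem c1) hx, ?_⟩, by group⟩
    rw [← QuotientGroup.eq] at e ⊢
    rw [e]
    simp only [QuotientGroup.mk_mul, QuotientGroup.mk_inv, (QuotientGroup.eq_one_iff k).2 hk,
      mul_one]
  obtain ⟨x, hx, hxK⟩ := h.exists_notMem (by omega) (h.isProd hP)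
  obtain ⟨y, hy, k, hk, rfl⟩ := hd x hx
  rw [mem_inf] at hy
  have hyK : y ∉ K := fun e => hxK (mul_mem e hk.2)
  have hcom : ∀ z ∈ P ⊓ K, ∃ c ∈ P ⊓ 𝓒((P ⊓ K : Subgroup G)), z = ⁅y⁻¹, c⁆ := fun z hz => by
    obtain ⟨u, hu, e⟩ := exists_conj_eq_mul (P := P) (P₀ := P ⊓ K) (x := y) (fun u hu =>
      mem_inf.2 ⟨mul_mem (inv_mem hy.1) (mul_mem (mul_mem hu hy.1) (inv_mem hu)), by
        simpa [commutatorElement_def, mul_assoc] using h.der _ (inv_mem (hP.le hy.1)) _ (hP.le hu)⟩)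
      (by rw [h.cent y (hP.le hy.1) hyK, h.card_eq (h.isProd hP)]) hz
    obtain ⟨c, hc, k, hk, rfl⟩ := hd u hu
    refine ⟨c, hc, ?_⟩
    rw [mul_assoc c k y, hy.2 k hk] at e
    rw [← inv_mul_cancel_left y z, ← e, commutatorElement_def]; group
  have hab : ∀ z ∈ P ⊓ K, z ∈ 𝓒((P ⊓ K : Subgroup G)) := fun z hz => by
    obtain ⟨c, hc, rfl⟩ := hcom z hz
    exact mul_mem (mul_mem (mul_mem (inv_mem hy.2) hc.2) (inv_mem (inv_mem hy.2))) (inv_mem hc.2)
  refine ⟨fun z hz x hx => ?_, fun z hz => ?_⟩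
  · obtain ⟨c, hc, k, hk, rfl⟩ := hd x hx
    rw [mul_assoc, hab z hz k hk, ← mul_assoc, ← hc.2 z hz, mul_assoc]
  · obtain ⟨c, hc, e⟩ := hcom z hz
    rw [e, ← comm_pow_left (e ▸ (inv_mem hy.2 z hz).symm), commutatorElement_eq_one_iff_mul_comm]
    exact hc.2 _ ⟨pow_mem (inv_mem hy.1) p, h.pow _ (inv_mem (hP.le hy.1))⟩

theorem isSolvable (h : CaseA p a K N) (ha : 0 < a) : Group.IsSolvable K := by
  haveI := h.nK; haveI := h.nN
  rcases (show a = 1 ∨ 1 < a by omega) with rfl | ha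
  · obtain ⟨P, hP⟩ := exists_sylow p N
    obtain ⟨x, hx, hxK⟩ := h.exists_notMem ha (h.isProd hP)
    have hc := h.cent x (hP.le hx) hxK
    rw [pow_one] at hc
    haveI : Fact (Nat.card 𝓒[x]).Prime := ⟨hc ▸ hp.out⟩
    have hxx : x ∈ 𝓒[x] := mem_cent1.2 rfl
    haveI := isNilpotent_of_conj_fpf (K := K) (g := x) hp.out
      (by rw [normalizer_eq_top]; exact mem_top _)
      (by rw [← hc, show x ^ Nat.card 𝓒[x] = 1 from
        congrArg Subtype.val (pow_card_eq_one' (x := (⟨x, hxx⟩ : 𝓒[x])))]; exact one_mem _)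
      fun k hk e => by
        rcases (K.subgroupOf 𝓒[x]).eq_bot_or_eq_top_of_prime_card with e' | e'
        · have : (⟨k, mem_cent1.2 e.symm⟩ : 𝓒[x]) ∈ K.subgroupOf 𝓒[x] := hk
          rw [e', mem_bot] at this
          exact congrArg Subtype.val this
        · exact (hxK (mem_subgroupOf.1 (e' ▸ mem_top (⟨x, hxx⟩ : 𝓒[x])))).elim
    infer_instance
  by_cases hK : IsPGroup p K
  · exact sol_of_pgroup hK
  obtain ⟨q, hq, hqK, hqp⟩ : ∃ q : ℕ, q.Prime ∧ q ∣ Nat.card K ∧ q ≠ p := by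
    by_contra! e
    exact hK (IsPGroup.of_card (Nat.eq_prime_pow_of_unique_prime_dvd Nat.card_pos.ne'
      fun hq hd => e _ hq hd))
  haveI := Fact.mk hq
  obtain ⟨Q, hQ⟩ := exists_sylow q K
  have hF := hQ.frattini (N := K) (M := N) ⟨h.le, by rw [normalizer_eq_top]; exact le_top⟩
  obtain ⟨S, hS⟩ := exists_sylow p (N ⊓ 𝓝(Q))
  obtain ⟨P, hP, hSP⟩ := exists_sylow_ge hS.pgroup (hS.le.trans inf_le_left)
  obtain ⟨c1, c2⟩ := h.central ha hP
  have hSK : IsProd S K N := by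
    refine ⟨hSP.trans hP.le, h.le, fun x hx => ?_⟩
    obtain ⟨k, hk, m, hm, rfl⟩ := hF.2.2 x hx
    obtain ⟨s, hs, k', hk', rfl⟩ := (hS.isProd (K := K ⊓ (N ⊓ 𝓝(Q))) inf_le_right (by
      rw [inf_relIndex_right, ← hF.relIndex_eq, h.rel]
      exact (isPiNumber_singleton_iff hp.out (pow_pos hp.out.pos a).ne').2 ⟨a, rfl⟩)).2.2 m hm
    exact ⟨s, hs, s⁻¹ * k * s * k', mul_mem (h.nK.conj_mem' k hk s) hk'.1, by group⟩
  haveI := comm_center Q
  have hb := card_le_of_fpf (P := S) (P₀ := S ⊓ K) (W := 𝓩(Q)) inf_le_left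
    (le_inf (der_le S) (comm_le_iff.2 fun x hx y hy => h.der x (hP.le (hSP hx)) y (hP.le (hSP hy))))
    ((inf_le_inf_right K hSP).trans (c1.trans (cent_anti hSP)))
    (fun x hx => ⟨pow_mem hx p, h.pow x (hP.le (hSP hx))⟩) (fun z hz => c2 z ⟨hSP hz.1, hz.2⟩)
    (center_ne_bot_of_nil (nil_of_pgroup hQ.pgroup) (hQ.ne_bot_iff.2 hqK))
    (not_dvd_of_pgroup hQ.pgroup.to_inf_left hqp.symm) (le_norm_center (hS.le.trans inf_le_right))
    fun x hx hx0 w hw e => h.eq_one (hP.le (hSP hx)) (fun e => hx0 ⟨hx, e⟩)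
      (isPRegular_of_mem_of_not_dvd (not_dvd_of_pgroup hQ.pgroup hqp.symm) hw.1)
      (mem_cent1.2 e.symm)
  rw [h.card_eq hSK, mul_comm, mul_assoc, Nat.mul_le_mul_left_iff Nat.card_pos,
    Nat.mul_le_mul_left_iff Nat.card_pos] at hb
  obtain hb | ⟨rfl, hb⟩ := hb
  · exact ((Nat.pow_le_pow_iff_right hp.out.one_lt (n := a) (m := 1)).1
      (by rwa [pow_one])).not_gt ha |>.elim
  obtain ⟨x, hx, hxK⟩ := h.exists_notMem (by omega) (h.isProd hP)
  refine isSolvable_of_isCyclic_sylow_two (K := K) (S := P ⊓ K) ?_ ?_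
  · exact hP.inf_normal ⟨h.le, by rw [normalizer_eq_top]; exact le_top⟩
  have hlt : P ⊓ K < 𝓒[x] := lt_of_le_of_ne (c1.trans (cent_le_cent1 hx))
    fun e => hxK (e.ge (mem_cent1.2 rfl)).2
  have h1 := card_lt_of_lt hlt
  obtain ⟨j, hj⟩ := IsPGroup.iff_card.1 (hP.pgroup.to_inf_left (K := K))
  rw [h.cent x (hP.le hx) hxK, hj] at h1
  have h2 : 2 ^ j < 2 ^ 2 := h1.trans_le hb
  rw [Nat.pow_lt_pow_iff_right one_lt_two] at h2
  interval_cases j
  · rw [card_eq_one.1 hj]; exact cyclic_bot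
  · exact cyclic_of_prime (hj ▸ Nat.prime_two)

end CaseA

/-- If the preimage of `N^#` for a Gagola character with `N = H'` is one class, the kernel is
solvable. -/
theorem isSolvable_ker {π : G →* H} (hπ : Function.Surjective π) (h : IsGagola χ (commutator H))
    (hc : ∀ x y, π x ∈ commutator H → π x ≠ 1 → π y ∈ commutator H → π y ≠ 1 → IsConj x y) :
    Group.IsSolvable π.ker := by
  have hC : ∀ x, π x ∈ commutator H → π x ≠ 1 → Nat.card 𝓒[x] = Nat.card 𝓒[π x] :=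
    fun x h1 h2 => card_cent_eq hπ fun k hk => by
      have : π (k * x) = π x := by rw [map_mul, MonoidHom.mem_ker.1 hk, one_mul]
      exact hc _ _ (this ▸ h1) (this ▸ h2) h1 h2
  obtain ⟨z, hz, hz1⟩ := h.exists_ne_one
  rcases cent_eq_or h hz hz1 with e | e
  swap
  · exact caseB hπ h hz hz1 e fun x hx => by rw [hC x (hx ▸ hz) (hx ▸ hz1), hx, e, card_top]
  obtain ⟨p, hp, hpow⟩ := h.exists_prime
  haveI := Fact.mk hp
  have hN : IsPGroup p (commutator H) := fun y => ⟨1, Subtype.ext (by simpa using hpow y y.2)⟩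
  obtain ⟨a, ha⟩ := IsPGroup.iff_card.1 hN
  have ha0 : 0 < a := Nat.pos_of_ne_zero fun e => h.ne_bot (card_eq_one.1 (by rw [ha, e, pow_zero]))
  have e' : ∀ y ∈ commutator H, y ≠ 1 → 𝓒[y] = commutator H := fun y hy hy1 =>
    ((cent_le_cent h hy hy1 hz).antisymm (cent_le_cent h hz hz1 hy)).trans e
  have hi : (commutator H).index = p ^ a - 1 := by
    have := h.index_centralizer_add_one hz hz1
    rw [e, ha] at this
    omega
  haveI := h.isMulCommutative
  refine CaseA.isSolvable (p := p) (a := a) (N := (commutator H).comap π)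
    ⟨inferInstance, inferInstance, fun x hx => ?_, ?_, fun x hx y hy => ?_, fun x hx => ?_,
      fun x hx hxK => ?_, ?_, ?_, fun t ht x hx => ?_⟩ ha0
  · rw [mem_comap, MonoidHom.mem_ker.1 hx]; exact one_mem _
  · rw [← MonoidHom.comap_bot, relIndex_comap, map_comap_eq_self_of_surjective hπ, relIndex_bot_left,
      ha]
  · rw [MonoidHom.mem_ker, map_commutatorElement, commutatorElement_eq_one_iff_mul_comm]
    exact congrArg Subtype.val (mul_comm (⟨π x, hx⟩ : commutator H) ⟨π y, hy⟩)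
  · rw [MonoidHom.mem_ker, map_pow, hpow _ hx]
  · rw [hC x hx hxK, e' _ hx hxK, ha]
  · rw [index_comap_of_surjective _ hπ, ← e]
    exact h.not_dvd_index_centralizer hN hz hz1
  · obtain ⟨r, hr⟩ := exists_gen h hN hz hz1 e
    obtain ⟨r, rfl⟩ := hπ r
    exact ⟨r, fun m => by rw [mem_comap, map_pow, hr, hi]⟩
  · obtain ⟨n, hn, e⟩ := exists_eq_commutator_of_fpf (Z := commutator H) (g := π t)
      (fun y hy e => by_contra fun hy1 =>
        ht (e' y hy hy1 ▸ mem_cent1.2 (mul_inv_eq_iff_eq_mul.1 e) : π t ∈ commutator H)) hx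
    obtain ⟨n, rfl⟩ := hπ n
    refine ⟨n, hn, ?_⟩
    simp only [MonoidHom.mem_ker, map_mul, map_inv, ← e, inv_mul_cancel]

open scoped ComplexConjugate in
theorem sum_split {g : G} {χ : IrrCharacter G} (h1 : χ 1 ≠ 1)
    (ho : ∀ ψ : IrrCharacter G, ψ 1 ≠ 1 → ψ ≠ χ → ψ g = 0) (x : G)
    [Decidable (x * g⁻¹ ∈ commutator G)] :
    ∑ ψ : IrrCharacter G, ψ x * conj (ψ g) =
      (if x * g⁻¹ ∈ commutator G then ((commutator G).index : ℂ) else 0) + χ x * conj (χ g) := by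
  classical
  rw [← Finset.sum_filter_add_sum_filter_not Finset.univ fun ψ : IrrCharacter G => ψ 1 = 1,
    ← sum_linear_apply, Finset.sum_eq_single χ (s := Finset.univ.filter fun ψ => ¬ ψ 1 = 1)
      (fun ψ hψ e => by rw [ho ψ (Finset.mem_filter.1 hψ).2 e, map_zero, mul_zero])
      fun e => (e (Finset.mem_filter.2 ⟨Finset.mem_univ _, h1⟩)).elim,
    Finset.sum_subtype (p := fun ψ : IrrCharacter G => ψ 1 = 1) _ (by simp),
    ← (IrrCharacter.linearEquiv G).sum_comp]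
  simp [linear_conj_apply]

theorem main {g : G} (hg : g ∉ center G) {χ : IrrCharacter G} (h1 : χ 1 ≠ 1) (h0 : χ g ≠ 0)
    (ho : ∀ ψ : IrrCharacter G, ψ 1 ≠ 1 → ψ ≠ χ → ψ g = 0) :
    g ∈ commutator G ∧ χ g = -(((commutator G).index : ℂ) / χ 1) ∧
    (∀ x, x ∈ commutator G ↔ χ x = χ 1 ∨ IsConj g x) ∧ (∀ x, x ∉ commutator G → χ x = 0) ∧
    (∀ ψ : IrrCharacter G, ψ 1 ≠ 1 → charKer χ.1 ≤ charKer ψ.1 → ψ = χ) ∧
    Group.IsSolvable G := by
  classical
  have c0 : starRingEnd ℂ (χ g) ≠ 0 := (map_ne_zero _).2 h0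
  have d0 := χ.apply_one_ne_zero
  have key : ∀ x, ¬ IsConj g x → (if x * g⁻¹ ∈ commutator G then ((commutator G).index : ℂ) else 0)
      + χ x * starRingEnd ℂ (χ g) = 0 := fun x hx => by
    rw [← sum_split h1 ho, sum_irr_mul_conj_of_not_isConj fun e => hx e.symm]
  have k1 := key 1 fun e => hg (isConj_one_left.1 e ▸ one_mem _)
  rw [one_mul, inv_mem_iff] at k1
  have hN : g ∈ commutator G := by
    by_contra e
    rw [if_neg e, zero_add] at k1
    exact mul_ne_zero d0 c0 k1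
  rw [if_pos hN] at k1
  have hcl : ∀ x, IsConj g x → x ∈ commutator G := fun x hx => by
    obtain ⟨c, rfl⟩ := isConj_iff.1 hx
    exact Normal.conj_mem inferInstance g hN c
  have hoff : ∀ x, x ∉ commutator G → χ x = 0 := fun x hx => by
    have := key x fun e => hx (hcl x e)
    rw [if_neg (by rwa [(commutator G).mul_mem_cancel_right (inv_mem hN)]), zero_add] at this
    exact (mul_eq_zero.1 this).resolve_right c0
  have hon : ∀ x ∈ commutator G, χ x = χ 1 ∨ IsConj g x := fun x hx => by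
    refine or_iff_not_imp_right.2 fun e => mul_right_cancel₀ c0 ?_
    have := key x e
    rw [if_pos (mul_mem hx (inv_mem hN))] at this
    linear_combination this - k1
  have hval : χ g = -(((commutator G).index : ℂ) / χ 1) := by
    have := congrArg (starRingEnd ℂ) k1
    rw [map_add, map_mul, Complex.conj_conj, map_natCast, map_zero, χ.apply_one, map_natCast,
      ← χ.apply_one] at this
    field_simp
    linear_combination this
  have hgK : χ g ≠ χ 1 := fun e => by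
    rw [e, χ.apply_one, map_natCast] at k1
    have : (commutator G).index + charDegree χ.1 * charDegree χ.1 = 0 := by exact_mod_cast k1
    exact (commutator G).index_ne_zero_of_finite (by omega)
  have huniq : ∀ ψ : IrrCharacter G, ψ 1 ≠ 1 → charKer χ.1 ≤ charKer ψ.1 → ψ = χ := by
    intro ψ hψ hk
    by_contra hne
    refine hψ (ψ.commutator_le_charKer_iff.1 fun x hx => ψ.mem_charKer.2
      ((ψ.liesOver_one_iff (commutator G).subtype).1 ?_ ⟨x, hx⟩))
    haveI := Fintype.ofFinite (commutator G)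
    have e : ∀ n : commutator G, ψ n = if χ n = χ 1 then ψ 1 else 0 := fun n => by
      split_ifs with e
      · exact ψ.mem_charKer.1 (hk (χ.mem_charKer.2 e))
      · rw [← ψ.isClassFunction.eq_of_isConj ((hon n n.2).resolve_left e), ho ψ hψ hne]
    rw [LiesOver, ip_def]
    simp only [Function.comp_apply, coe_subtype, e, IrrCharacter.one_apply, map_one, mul_one,
      ← Finset.sum_filter, Finset.sum_const, nsmul_eq_mul]
    refine mul_ne_zero (inv_ne_zero (natCard_cast_ne_zero _)) (mul_ne_zero ?_ ψ.apply_one_ne_zero)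
    exact Nat.cast_ne_zero.2 (Finset.card_ne_zero.2 ⟨1, by simp⟩)
  refine ⟨hN, hval, fun x => ⟨hon x, fun e => e.elim (fun e => by_contra fun hx =>
    d0 (e.symm.trans (hoff x hx))) (hcl x)⟩, hoff, huniq, ?_⟩
  obtain ⟨χ', hχ', hf⟩ := χ.exists_faithful_quotient
  set π := QuotientGroup.mk' (charKer χ.1)
  have hπ : Function.Surjective π := QuotientGroup.mk'_surjective _
  have hv : ∀ x, χ' (π x) = χ x := congrFun hχ'
  have hker : π.ker = charKer χ.1 := QuotientGroup.ker_mk' _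
  have hKN : π.ker ≤ commutator G := fun x hx => by_contra fun e =>
    d0 ((χ.mem_charKer.1 (hker ▸ hx)).symm.trans (hoff x e))
  have hcom : ∀ x, π x ∈ commutator _ ↔ x ∈ commutator G := fun x => by
    rw [← comap_map_eq_self hKN, map_commutator_eq, π.range_eq_top.2 hπ]; rfl
  have hc : ∀ x, π x ∈ commutator _ → π x ≠ 1 → IsConj g x := fun x a b =>
    (hon x ((hcom x).1 a)).resolve_left fun e => b (show x ∈ π.ker from hker.ge (χ.mem_charKer.2 e))
  have hG : IsGagola χ' (commutator _) := by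
    refine ⟨inferInstance, fun e => hgK ?_, fun y => ?_, fun x hx y hy x1 y1 => ?_,
      fun ψ hψ => ?_, χ'.isCharacter.charKer_eq_bot_iff.1 hf⟩
    · have := (hcom g).2 hN
      rw [e, mem_bot] at this
      rw [← hv, this, ← hv, map_one]
    · obtain ⟨x, rfl⟩ := hπ y
      rw [hv, hcom]
      refine ⟨fun e => by_contra fun e' => e (hoff x e'), fun e => ?_⟩
      rcases hon x e with e | e
      · rwa [e]
      · rwa [← χ.isClassFunction.eq_of_isConj e]
    · obtain ⟨x, rfl⟩ := hπ x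
      obtain ⟨y, rfl⟩ := hπ y
      exact π.map_isConj ((hc x hx x1).symm.trans (hc y hy y1))
    · refine ψ.commutator_le_charKer_iff.2 (by_contra fun e => hψ ?_)
      have := huniq (ψ.inflate π hπ) (by simpa using e) fun x hx =>
        (ψ.inflate π hπ).mem_charKer.2 (by
          rw [IrrCharacter.inflate_apply, IrrCharacter.inflate_apply, map_one,
            show π x = 1 from (hker.symm ▸ hx : x ∈ π.ker)])
      refine Subtype.ext (funext fun y => ?_)
      obtain ⟨x, rfl⟩ := hπ y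
      exact (congrFun (congrArg Subtype.val this) x).trans (hv x).symm
  haveI := isSolvable_ker hπ hG fun x y a b c d => (hc x a b).symm.trans (hc y c d)
  haveI := hG.isMulCommutative
  haveI : Group.IsSolvable (G ⧸ charKer χ.1) :=
    solvable_of_ker_le_range (commutator _).subtype (Abelianization.of) (by simp)
  exact solvable_of_ker_le_range π.ker.subtype π (by simp)

end OneClass

end Cfsg

set_option linter.all false in
theorem Cfsg.Rz.Grp_OneClass_0 : True := by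
  have := @_root_.Cfsg.OneClass.CaseA.mk.congr_simp.{0}
  trivial
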