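import Cfsg.Agent.Grp.Nilpotent
import Cfsg.Agent.Grp.Misc
import Cfsg.Agent.S4476
import Mathlib.GroupTheory.ClassEquation

/-!
# Finiteness theorems: Landau's theorem, four-groups with bounded centralizers
-/

set_option autoImplicit false
set_option linter.unusedSectionVars false

namespace Cfsg

open Subgroup

universe u

theorem exists_bound_of_sum_inv (k : ℕ) : ∀ a : ℚ, ∃ N : ℕ, ∀ s : Multiset ℕ, s.card ≤ k →
    (∀ n ∈ s, 0 < n) → (s.map fun n : ℕ => (n : ℚ)⁻¹).sum = a → ∀ n ∈ s, n ≤ N := by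
  induction k with
  | zero =>
    refine fun a => ⟨0, fun s hs _ _ n hn => ?_⟩
    rw [Nat.le_zero, Multiset.card_eq_zero] at hs
    simp [hs] at hn
  | succ k ih =>
    intro a
    choose F hF using ih
    let M : ℕ := ⌈((k + 1 : ℕ) : ℚ) / a⌉₊
    refine ⟨max M ((Finset.range (M + 1)).sup fun m => F (a - (m : ℚ)⁻¹)),
      fun s hs hpos hsum n hn => ?_⟩
    have hne : s ≠ 0 := fun h => by simp [h] at hn
    have ha : 0 < a := by
      have := Multiset.sum_lt_sum_of_nonempty (f := fun _ : ℕ => (0 : ℚ))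
        (g := fun n : ℕ => (n : ℚ)⁻¹) hne fun m hm => inv_pos.2 (Nat.cast_pos.2 (hpos m hm))
      simpa [hsum] using this
    obtain ⟨m, hm, hmM⟩ : ∃ m ∈ s, m ≤ M := by
      by_contra h
      push Not at h
      have h1 : (s.map fun n : ℕ => (n : ℚ)⁻¹).sum <
          (s.map fun _ : ℕ => a / ((k + 1 : ℕ) : ℚ)).sum := by
        refine Multiset.sum_lt_sum_of_nonempty hne fun x hx => ?_
        have h2 : ((k + 1 : ℕ) : ℚ) / a < x := Nat.lt_of_ceil_lt (h x hx)
        rw [div_lt_iff₀ ha] at h2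
        rw [inv_eq_one_div, div_lt_div_iff₀ (Nat.cast_pos.2 (hpos x hx)) (by positivity)]
        linarith
      rw [hsum, Multiset.map_const', Multiset.sum_replicate, nsmul_eq_mul] at h1
      have h3 : (s.card : ℚ) ≤ ((k + 1 : ℕ) : ℚ) := by exact_mod_cast hs
      have h4 := mul_le_mul_of_nonneg_right h3 (show 0 ≤ a / ((k + 1 : ℕ) : ℚ) by positivity)
      rw [mul_div_cancel₀ _ (by positivity)] at h4
      linarith
    obtain ⟨t, rfl⟩ := Multiset.exists_cons_of_mem hm
    rcases Multiset.mem_cons.1 hn with rfl | hn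
    · exact hmM.trans (le_max_left _ _)
    · refine le_trans (hF (a - (m : ℚ)⁻¹) t (by simpa using hs)
        (fun x hx => hpos x (Multiset.mem_cons_of_mem hx)) ?_ n hn) (le_trans ?_ (le_max_right _ _))
      · rw [← hsum]
        simp
      · exact Finset.le_sup (f := fun m : ℕ => F (a - (m : ℚ)⁻¹))
          (by simpa using Nat.lt_succ_of_le hmM)

/-- Landau's theorem. -/
theorem exists_card_le_of_card_conjClasses_le (k : ℕ) : ∃ N : ℕ, ∀ (G : Type u) [Group G]
    [Finite G], Nat.card (ConjClasses G) ≤ k → Nat.card G ≤ N := by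
  obtain ⟨N, hN⟩ := exists_bound_of_sum_inv k 1
  refine ⟨N, fun G _ _ hk => ?_⟩
  classical
  have := Fintype.ofFinite G
  have := Fintype.ofFinite (ConjClasses G)
  refine hN (Finset.univ.val.map fun K : ConjClasses G => Nat.card (centralizer {K.out}))
    (by simpa using hk) (fun n hn => ?_) ?_ _ ?_
  · obtain ⟨K, -, rfl⟩ := Multiset.mem_map.1 hn
    exact Nat.card_pos
  · rw [Multiset.map_map, ← Finset.sum_eq_multiset_sum]
    have hG : (Nat.card G : ℚ) ≠ 0 := Nat.cast_ne_zero.2 Nat.card_pos.ne'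
    have h1 := congrArg (Nat.cast : ℕ → ℚ) (sum_conjClasses_card_eq_card G)
    rw [← Nat.card_eq_fintype_card, Nat.cast_sum] at h1
    rw [← div_self hG]
    nth_rewrite 1 [← h1]
    rw [Finset.sum_div]
    refine Finset.sum_congr rfl fun K _ => ?_
    have h2 := card_carrier_eq_index_centralizer K.out
    rw [show ConjClasses.mk K.out = K from Quotient.out_eq K] at h2
    have h3 := (centralizer ({K.out} : Set G)).card_mul_index
    have h4 : (Nat.card (centralizer ({K.out} : Set G)) : ℚ) ≠ 0 :=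
      Nat.cast_ne_zero.2 Nat.card_pos.ne'
    rw [Set.toFinset_card, ← Nat.card_eq_fintype_card, h2, Function.comp_apply, eq_div_iff hG,
      ← h3, Nat.cast_mul, inv_mul_cancel_left₀ h4]
  · refine Multiset.mem_map.2 ⟨ConjClasses.mk 1, Finset.mem_univ_val _, ?_⟩
    have : (ConjClasses.mk (1 : G)).out = 1 :=
      isConj_one_left.1 (ConjClasses.mk_eq_mk_iff_isConj.1 (Quotient.out_eq _))
    rw [this, show centralizer ({1} : Set G) = ⊤ from eq_top_iff.2 fun x _ => by
      simp [mem_centralizer_iff], card_top]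

variable {G : Type u} [Group G] [Finite G]

theorem exists_centralizer_coord (a : G) : ∃ r : G → centralizer ({a} : Set G),
    ∀ g h, g * a * g⁻¹ = h * a * h⁻¹ → r g = r h → g = h := by
  refine ⟨fun g => ⟨(QuotientGroup.mk g : G ⧸ centralizer {a}).out⁻¹ * g,
    QuotientGroup.eq.1 (QuotientGroup.out_eq' _)⟩, fun g h e e' => ?_⟩
  have h1 : (QuotientGroup.mk g : G ⧸ centralizer {a}) = QuotientGroup.mk h := by
    rw [QuotientGroup.eq, mem_centralizer_singleton_iff]
    calc g⁻¹ * h * a = g⁻¹ * (h * a * h⁻¹) * h := by group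
      _ = a * (g⁻¹ * h) := by rw [← e]; group
  have h2 := congrArg Subtype.val e'
  simp only [h1] at h2
  exact mul_left_cancel h2

theorem card_le_mul_card_centralizer {ι β : Type*} [Finite β] (a : G) (s : ι → G)
    (hs : Function.Injective s) (φ : ι → β)
    (hφ : ∀ i j, φ i = φ j → s i * a * (s i)⁻¹ = s j * a * (s j)⁻¹) :
    Nat.card ι ≤ Nat.card β * Nat.card (centralizer ({a} : Set G)) := by
  obtain ⟨r, hr⟩ := exists_centralizer_coord a
  rw [← Nat.card_prod]
  exact Nat.card_le_card_of_injective (fun i => (φ i, r (s i))) fun i j h =>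
    hs (hr _ _ (hφ i j (congrArg Prod.fst h)) (congrArg Prod.snd h))

theorem card_le_of_mem_normal {X : Subgroup G} [hX : X.Normal] {a : G} (ha : a ∈ X) :
    Nat.card G ≤ Nat.card X * Nat.card (centralizer ({a} : Set G)) :=
  card_le_mul_card_centralizer a id Function.injective_id
    (fun g => (⟨g * a * g⁻¹, hX.conj_mem a ha g⟩ : X)) fun _ _ h => congrArg Subtype.val h

theorem card_centralizer_mk_le (X : Subgroup G) [X.Normal] (a : G) :
    Nat.card (centralizer ({(a : G ⧸ X)} : Set (G ⧸ X))) ≤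
      Nat.card (centralizer ({a} : Set G)) := by
  have h := card_le_mul_card_centralizer a
    ((centralizer ({(a : G ⧸ X)} : Set (G ⧸ X))).comap (QuotientGroup.mk' X)).subtype
    Subtype.val_injective (fun g => (⟨a⁻¹ * (g * a * (g : G)⁻¹), by
      rw [← QuotientGroup.eq, QuotientGroup.mk_mul, QuotientGroup.mk_mul, QuotientGroup.mk_inv,
        eq_mul_inv_iff_mul_eq]
      exact (mem_centralizer_singleton_iff.1 g.2).symm⟩ : X))
    fun _ _ h => mul_left_cancel (congrArg Subtype.val h)
  rw [card_comap_mk', mul_comm] at h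
  exact Nat.le_of_mul_le_mul_left h Nat.card_pos

theorem conj_pow_of_mul_self {c w : G} (hc : c * c = 1) (hw : w * c * (w * c) = 1) (n : ℕ) :
    c * w ^ n = (w ^ n)⁻¹ * c := by
  have h1 : c * w = w⁻¹ * c := by
    calc c * w = w⁻¹ * (w * c * (w * c)) * c⁻¹ := by group
      _ = w⁻¹ * c := by rw [hw, mul_one, inv_eq_of_mul_eq_one_right hc]
  induction n with
  | zero => simp
  | succ n ih => rw [pow_succ, ← mul_assoc, ih, mul_assoc, h1, ← pow_succ, pow_succ',
      mul_inv_rev, mul_assoc]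

/-- A normal subgroup of odd order is bounded by the centralizers of a four-group. -/
theorem card_le_pow_four_of_klein {K : Subgroup G} [hK : K.Normal] (h2 : ¬ 2 ∣ Nat.card K)
    {a b : G} (ha : a * a = 1) (hb : b * b = 1) (hab : a * b * (a * b) = 1) {n : ℕ}
    (na : Nat.card (centralizer ({a} : Set G)) ≤ n)
    (nb : Nat.card (centralizer ({b} : Set G)) ≤ n)
    (nc : Nat.card (centralizer ({a * b} : Set G)) ≤ n) : Nat.card K ≤ n ^ 4 := by
  have hodd : ∀ w ∈ K, ∃ r, w ^ (2 * r + 1) = 1 := fun w hw => by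
    obtain ⟨r, hr⟩ : Odd (Nat.card K) := Nat.odd_iff.2 (by omega)
    exact ⟨r, by rw [← hr]; exact congrArg Subtype.val (pow_card_eq_one' (x := (⟨w, hw⟩ : K)))⟩
  have key : ∀ k l : K, ∃ w : K,
      (w : G)⁻¹ * (k * a * (k : G)⁻¹) * w ∈ centralizer ({a * b} : Set G) ∧
      (w : G)⁻¹ * (l * b * (l : G)⁻¹) * w ∈ centralizer ({a * b} : Set G) := by
    intro k l
    set x : G := k * a * (k : G)⁻¹ with hx
    set y : G := l * b * (l : G)⁻¹ with hy
    have hxx : x * x = 1 := by
      calc x * x = k * (a * a) * (k : G)⁻¹ := by rw [hx]; group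
        _ = 1 := by rw [ha]; group
    have hyy : y * y = 1 := by
      calc y * y = l * (b * b) * (l : G)⁻¹ := by rw [hy]; group
        _ = 1 := by rw [hb]; group
    have hk : (QuotientGroup.mk' K) k = 1 := (QuotientGroup.eq_one_iff _).2 k.2
    have hl : (QuotientGroup.mk' K) l = 1 := (QuotientGroup.eq_one_iff _).2 l.2
    have hxy : QuotientGroup.mk' K (x * y) = QuotientGroup.mk' K (a * b) := by
      simp only [hx, hy, map_mul, map_inv, hk, hl, one_mul, inv_one, mul_one]
    have hc2 : QuotientGroup.mk' K (a * b) ^ 2 = 1 := by rw [← map_pow, sq, hab, map_one]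
    obtain ⟨r, hr⟩ := hodd ((x * y) ^ 2)
      ((QuotientGroup.eq_one_iff _).1 (by rw [← QuotientGroup.mk'_apply, map_pow, hxy, hc2]))
    set z := (x * y) ^ (2 * r + 1) with hz
    have hzz : z * z = 1 := by rw [hz, ← pow_add, ← two_mul, pow_mul, hr]
    have hzi : z⁻¹ = z := inv_eq_of_mul_eq_one_right hzz
    have hyz : y * z = z * y := by
      have := conj_pow_of_mul_self (w := x * y) hyy
        (by rw [mul_assoc x y y, hyy, mul_one, hxx]) (2 * r + 1)
      rwa [← hz, hzi] at this
    have hxz : x * z = z * x := by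
      have h1 : x * y * z = z * (x * y) := (Commute.self_pow (x * y) _).eq
      calc x * z = x * y * (y * z) := by rw [mul_assoc x, ← mul_assoc y, hyy, one_mul]
        _ = x * y * z * y := by rw [hyz, ← mul_assoc]
        _ = z * x := by rw [h1, mul_assoc, mul_assoc, hyy, mul_one]
    have hw : z * (a * b) ∈ K := (QuotientGroup.eq_one_iff _).1 (by
      rw [← QuotientGroup.mk'_apply, map_mul, hz, map_pow, hxy, ← pow_succ,
        show 2 * r + 1 + 1 = 2 * (r + 1) by ring, pow_mul, hc2, one_pow])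
    obtain ⟨s, hs⟩ := hodd _ hw
    set w := z * (a * b) with hwdef
    have h3 := conj_pow_of_mul_self (w := w) hab
      (by rw [hwdef, mul_assoc z, hab, mul_one, hzz]) (s + 1)
    have h4 : w ^ (s + 1) * (a * b) * (w ^ (s + 1))⁻¹ = z := by
      have h5 : a * b * (w ^ (s + 1))⁻¹ = w ^ (s + 1) * (a * b) := by
        rw [mul_inv_eq_iff_eq_mul, mul_assoc (w ^ (s + 1)), h3, mul_inv_cancel_left]
      rw [mul_assoc, h5, ← mul_assoc, ← pow_add, show s + 1 + (s + 1) = 2 * s + 1 + 1 by ring,
        pow_succ, hs, one_mul, hwdef, mul_assoc, hab, mul_one]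
    have h6 : ∀ t, t * z = z * t →
        (w ^ (s + 1))⁻¹ * t * w ^ (s + 1) ∈ centralizer ({a * b} : Set G) := fun t ht => by
      rw [mem_centralizer_singleton_iff]
      calc (w ^ (s + 1))⁻¹ * t * w ^ (s + 1) * (a * b)
          = (w ^ (s + 1))⁻¹ * (t * (w ^ (s + 1) * (a * b) * (w ^ (s + 1))⁻¹)) * w ^ (s + 1) := by
            group
        _ = _ := by
            rw [h4, ht, ← h4]
            group
    exact ⟨⟨w ^ (s + 1), K.pow_mem hw _⟩, h6 x hxz, h6 y hyz⟩
  choose w hw1 hw2 using key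
  obtain ⟨ra, hra⟩ := exists_centralizer_coord a
  obtain ⟨rb, hrb⟩ := exists_centralizer_coord b
  have h := Nat.card_le_card_of_injective (fun x : K × K => (w x.1 x.2,
    (⟨_, hw1 x.1 x.2⟩ : centralizer ({a * b} : Set G)),
    (⟨_, hw2 x.1 x.2⟩ : centralizer ({a * b} : Set G)), ra x.1, rb x.2)) (by
      rintro ⟨k, l⟩ ⟨k', l'⟩ e
      simp only [Prod.mk.injEq, Subtype.mk.injEq] at e
      obtain ⟨e1, e2, e3, e4, e5⟩ := e
      rw [e1] at e2 e3
      exact Prod.ext (Subtype.ext (hra _ _ (mul_left_cancel (mul_right_cancel e2)) e4))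
        (Subtype.ext (hrb _ _ (mul_left_cancel (mul_right_cancel e3)) e5)))
  simp only [Nat.card_prod] at h
  refine (Nat.le_of_mul_le_mul_left h Nat.card_pos).trans ?_
  rw [show n ^ 4 = n * (n * (n * n)) by ring]
  gcongr

theorem exists_normal_card_le_of_involution (h : pPrimeCore 2 G = ⊥) {t : G} (ht : orderOf t = 2)
    {n a : ℕ} (hn : Nat.card (centralizer ({t} : Set G)) ≤ n)
    (ha : (Nat.card G).factorization 2 ≤ a) :
    ∃ X : Subgroup G, X.Normal ∧ 2 ∣ Nat.card X ∧ Nat.card X ≤ 2 ^ a * (n ^ 2) ^ n ^ 2 := by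
  classical
  have := Fintype.ofFinite G
  obtain ⟨⟨x, hx1, hx⟩, -⟩ := Agent.S4476.result (G := G)
    (even_iff_two_dvd.2 (ht ▸ orderOf_dvd_natCard t)) _ rfl
  have h1 := card_le_mul_card_centralizer t id Function.injective_id
    (fun g => (⟨g * t * g⁻¹, ((MulAut.conj g).orderOf_eq t).trans ht⟩ : {x : G // orderOf x = 2}))
    fun _ _ h => congrArg Subtype.val h
  have hT : 0 < Nat.card {x : G // orderOf x = 2} := by
    have : Nonempty {x : G // orderOf x = 2} := ⟨⟨t, ht⟩⟩
    exact Nat.card_pos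
  have hm : (centralizer ({x} : Set G)).index ≤ n ^ 2 := by
    have h2 : ((Nat.card G : ℚ) - 1) / Nat.card {x : G // orderOf x = 2} ≤ n := by
      rw [div_le_iff₀ (by exact_mod_cast hT)]
      have : (Nat.card G : ℚ) ≤ Nat.card {x : G // orderOf x = 2} * n := by
        exact_mod_cast h1.trans (Nat.mul_le_mul_left _ hn)
      linarith
    have h3 : (0 : ℚ) ≤ ((Nat.card G : ℚ) - 1) / Nat.card {x : G // orderOf x = 2} := by
      have : (1 : ℚ) ≤ Nat.card G := by exact_mod_cast Nat.card_pos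
      exact div_nonneg (by linarith) (by positivity)
    exact_mod_cast hx.trans (pow_le_pow_left₀ h3 h2 2)
  let X := normalClosure ({x} : Set G)
  have hi : (centralizer (X : Set G)).index ≤ (n ^ 2) ^ n ^ 2 := by
    have h2 : (⨅ y : {y : G // IsConj x y}, centralizer ({y.1} : Set G)) ≤
        centralizer (X : Set G) := by
      intro g hg
      rw [show (X : Set G) = closure (Group.conjugatesOfSet {x}) from rfl, centralizer_closure,
        mem_centralizer_iff]
      intro y hy
      obtain ⟨_, rfl, hy'⟩ := Group.mem_conjugatesOfSet_iff.1 hy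
      exact (mem_centralizer_singleton_iff.1 (mem_iInf.1 hg ⟨y, hy'⟩)).symm
    refine (Nat.le_of_dvd (index_pos _) (index_dvd_of_le h2)).trans ((index_iInf_le _).trans ?_)
    refine (Finset.prod_le_pow_card _ _ (n ^ 2) fun y _ => ?_).trans ?_
    · rw [← card_isConj_eq_index_centralizer, Nat.card_congr
        (Equiv.subtypeEquivRight fun z => ⟨fun h => y.2.trans h, fun h => y.2.symm.trans h⟩),
        card_isConj_eq_index_centralizer]
      exact hm
    · refine Nat.pow_le_pow_right ((index_pos _).trans_le hm) ?_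
      rw [Finset.card_univ, ← Nat.card_eq_fintype_card, card_isConj_eq_index_centralizer]
      exact hm
  have hA : Nat.card (centralizer (X : Set G) ⊓ X : Subgroup G) ≤ 2 ^ a := by
    have : IsMulCommutative (centralizer (X : Set G) ⊓ X : Subgroup G) :=
      isMulCommutative_iff_forall.2 fun u hu v hv => (hu.1 v hv.2).symm
    have h2 : centralizer (X : Set G) ⊓ X ≤ pCore 2 G :=
      fittingSubgroup_eq_pCore_of_pPrimeCore_eq_bot h ▸ le_fittingSubgroup_of_isMulCommutative
    obtain ⟨k, hk⟩ := IsPGroup.iff_card.1 ((isPGroup_pCore 2 G).to_le h2)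
    rw [hk]
    refine Nat.pow_le_pow_right two_pos (le_trans ?_ ha)
    exact (Nat.prime_two.pow_dvd_iff_le_factorization Nat.card_pos.ne').1
      (hk ▸ card_subgroup_dvd_card _)
  refine ⟨X, inferInstance, ?_, ?_⟩
  · by_contra h2
    exact hx1 (mem_bot.1 (h ▸ le_pPrimeCore_of_not_dvd h2 (subset_normalClosure rfl)))
  · rw [← card_inf_mul_relIndex (centralizer (X : Set G)) X]
    refine Nat.mul_le_mul hA (le_trans ?_ hi)
    rw [← relIndex_top_right]
    exact relIndex_le_of_le_right le_top (relIndex_pos _ _).ne'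

/-- A group with bounded Sylow `2`-subgroups and a four-group whose involutions have bounded
centralizers has bounded order. -/
theorem exists_card_le_of_klein (a : ℕ) : ∀ n : ℕ, ∃ N : ℕ, ∀ (G : Type u) [Group G] [Finite G],
    (Nat.card G).factorization 2 ≤ a → ∀ x y : G, x * x = 1 → y * y = 1 → x * y * (x * y) = 1 →
    x ≠ 1 → y ≠ 1 → x * y ≠ 1 → Nat.card (centralizer ({x} : Set G)) ≤ n →
    Nat.card (centralizer ({y} : Set G)) ≤ n → Nat.card (centralizer ({x * y} : Set G)) ≤ n →
    Nat.card G ≤ N := by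
  have ho : ∀ (G : Type u) [Group G] (x : G), x * x = 1 → x ≠ 1 → orderOf x = 2 :=
    fun G _ x hx h1 => orderOf_eq_prime (by rw [sq, hx]) h1
  induction a with
  | zero =>
    refine fun n => ⟨0, fun G _ _ ha x y hx _ _ h1 _ _ _ _ _ => ?_⟩
    have := (Nat.prime_two.dvd_iff_one_le_factorization Nat.card_pos.ne').1
      (ho G x hx h1 ▸ orderOf_dvd_natCard x)
    omega
  | succ a ih =>
    intro n
    obtain ⟨N, hN⟩ := ih n
    refine ⟨2 ^ (a + 1) * (n ^ 2) ^ n ^ 2 * n ^ 4 * max n N,
      fun G _ _ ha x y hx hy hxy x1 y1 xy1 nx ny nxy => ?_⟩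
    have hK := not_dvd_card_pPrimeCore 2 G
    obtain ⟨Y, hY, hY2, hYc⟩ := exists_normal_card_le_of_involution
      (pPrimeCore_quotient_pPrimeCore 2 G) (t := x) (a := a + 1) (ho _ _
        (by rw [← QuotientGroup.mk_mul, hx, QuotientGroup.mk_one]) fun h => hK (by
          have := orderOf_dvd_natCard (⟨x, (QuotientGroup.eq_one_iff _).1 h⟩ : pPrimeCore 2 G)
          rwa [← Subgroup.orderOf_coe, ho _ _ hx x1] at this))
      ((card_centralizer_mk_le _ x).trans nx)
      (le_trans ((Nat.factorization_le_iff_dvd Nat.card_pos.ne' Nat.card_pos.ne').2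
        (card_quotient_dvd_card _) 2) ha)
    let X := Y.comap (QuotientGroup.mk' (pPrimeCore 2 G))
    have hX2 : 2 ∣ Nat.card X := by
      rw [card_comap_mk']
      exact hY2.mul_right _
    have hXc : Nat.card X ≤ 2 ^ (a + 1) * (n ^ 2) ^ n ^ 2 * n ^ 4 := by
      rw [card_comap_mk']
      exact Nat.mul_le_mul hYc (card_le_pow_four_of_klein hK hx hy hxy nx ny nxy)
    have h0 : ∀ v ∈ X, Nat.card (centralizer ({v} : Set G)) ≤ n →
        Nat.card G ≤ 2 ^ (a + 1) * (n ^ 2) ^ n ^ 2 * n ^ 4 * max n N := fun v hv h =>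
      (card_le_of_mem_normal hv).trans (Nat.mul_le_mul hXc (h.trans (le_max_left _ _)))
    by_cases h1 : x ∈ X
    · exact h0 x h1 nx
    by_cases h2 : y ∈ X
    · exact h0 y h2 ny
    by_cases h3 : x * y ∈ X
    · exact h0 _ h3 nxy
    rw [card_eq_card_quotient_mul_card_subgroup X, mul_comm]
    refine Nat.mul_le_mul hXc (le_trans (hN (G ⧸ X) ?_ x y ?_ ?_ ?_ ?_ ?_ ?_
      ((card_centralizer_mk_le X x).trans nx) ((card_centralizer_mk_le X y).trans ny)
      ((card_centralizer_mk_le X (x * y)).trans nxy)) (le_max_right _ _))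
    · rw [card_eq_card_quotient_mul_card_subgroup X,
        Nat.factorization_mul Nat.card_pos.ne' Nat.card_pos.ne', Finsupp.add_apply] at ha
      have := (Nat.prime_two.dvd_iff_one_le_factorization Nat.card_pos.ne').1 hX2
      omega
    · rw [← QuotientGroup.mk_mul, hx, QuotientGroup.mk_one]
    · rw [← QuotientGroup.mk_mul, hy, QuotientGroup.mk_one]
    · rw [← QuotientGroup.mk_mul, ← QuotientGroup.mk_mul, hxy, QuotientGroup.mk_one]
    · exact fun h => h1 ((QuotientGroup.eq_one_iff _).1 h)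
    · exact fun h => h2 ((QuotientGroup.eq_one_iff _).1 h)
    · exact fun h => h3 ((QuotientGroup.eq_one_iff (x * y)).1 h)

end Cfsg
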