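import Cfsg.Agent.Grp.Misc
import Mathlib.GroupTheory.GroupAction.CardCommute

/-!
# The class equation for groups whose noncentral elements have abelian centralizers
-/

set_option autoImplicit false
set_option linter.unusedSectionVars false

namespace Cfsg.CAClass

open Subgroup

universe u

variable {H : Type u} [Group H] [Finite H]

theorem cent_eq (hCA : ∀ h ∉ center H, IsMulCommutative (centralizer ({h} : Set H))) {x y : H}
    (hx : x ∉ center H) (hy : y ∉ center H) (h : y ∈ centralizer ({x} : Set H)) :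
    centralizer ({y} : Set H) = centralizer {x} := by
  have key : ∀ {x y : H}, x ∉ center H → y ∈ centralizer ({x} : Set H) →
      centralizer ({x} : Set H) ≤ centralizer {y} := fun {x y} hx h w hw =>
    mem_centralizer_singleton_iff.mpr (isMulCommutative_iff_forall.mp (hCA x hx) w hw y h)
  exact le_antisymm (key hy (mem_centralizer_singleton_iff.mpr
    (mem_centralizer_singleton_iff.mp h).symm)) (key hx h)

theorem conj_notMem {x : H} (hx : x ∉ center H) (g : H) : g * x * g⁻¹ ∉ center H := fun h =>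
  hx (by simpa [mul_assoc] using (inferInstance : (center H).Normal).conj_mem _ h g⁻¹)

theorem conj_mem_cent {x y : H} (g : H) (h : y ∈ centralizer ({x} : Set H)) :
    g * y * g⁻¹ ∈ centralizer ({g * x * g⁻¹} : Set H) := by
  rw [centralizer_singleton_conj, conj_mem_map_conj]; exact h

theorem mem_normalizer_iff' (hCA : ∀ h ∉ center H, IsMulCommutative (centralizer ({h} : Set H)))
    {x y : H} (hx : x ∉ center H) (hy : y ∉ center H) (h : y ∈ centralizer ({x} : Set H)) {g : H} :
    g ∈ normalizer (centralizer ({x} : Set H) : Set H) ↔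
      g * y * g⁻¹ ∈ centralizer ({x} : Set H) := by
  refine ⟨fun hg => conj_mem_of_mem_normalizer hg h, fun hg => ?_⟩
  rw [← map_conj_eq_iff]
  exact ((congrArg (Subgroup.map _) (cent_eq hCA hx hy h)).symm.trans
    (centralizer_singleton_conj g y).symm).trans (cent_eq hCA hx (conj_notMem hy g) hg)

theorem exists_classEq (hCA : ∀ h ∉ center H, IsMulCommutative (centralizer ({h} : Set H)))
    (hF : ∀ h ∉ center H, Nat.card {z // IsConj h z ∧ z ∈ centralizer ({h} : Set H)} ≤ 2) :
    ∃ (I : Type u) (_ : Fintype I) (c : {x // x ∉ center H} → I) (m f a : I → ℕ),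
      Function.Surjective c ∧ (∀ x, m (c x) = (center H).relIndex (centralizer {x.1})) ∧
      (∀ i, 2 ≤ m i) ∧ (∀ i, f i = 1 ∨ f i = 2) ∧
      (∀ i, a i * f i * m i = Nat.card H * (m i - 1)) ∧
      ∑ i, a i + Nat.card (center H) = Nat.card H ∧
      Nat.card (ConjClasses H) * (center H).index = Nat.card H + ∑ i, a i * m i ∧
      (∀ i, a i = Nat.card {x // c x = i}) ∧
      ∀ x y, c x = c y → ∃ g : H, g * y * g⁻¹ ∈ centralizer ({x.1} : Set H) := by
  classical
  let r : Setoid {x // x ∉ center H} :=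
    { r := fun x y => ∃ g : H, g * y * g⁻¹ ∈ centralizer ({x.1} : Set H)
      iseqv := ⟨fun x => ⟨1, by simp [mem_centralizer_singleton_iff]⟩,
        fun {x y} ⟨g, hg⟩ => ⟨g⁻¹, by
          have := conj_mem_cent g⁻¹ (mem_centralizer_singleton_iff.mpr
            (mem_centralizer_singleton_iff.mp hg).symm)
          simpa [mul_assoc] using this⟩,
        fun {x y w} ⟨g, hg⟩ ⟨g', hg'⟩ => ⟨g * g', by
          have := conj_mem_cent g hg'
          rw [cent_eq hCA x.2 (conj_notMem y.2 g) hg] at this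
          simpa [mul_assoc] using this⟩⟩ }
  have := Fintype.ofFinite (Quotient r)
  have := Fintype.ofFinite H
  have hZC : ∀ x : H, center H ≤ centralizer {x} := fun x => center_le_centralizer _
  have hcard : ∀ x y : {x // x ∉ center H}, r x y →
      Nat.card (centralizer ({y.1} : Set H)) = Nat.card (centralizer ({x.1} : Set H)) :=
    fun x y ⟨g, hg⟩ => by
      rw [← cent_eq hCA x.2 (conj_notMem y.2 g) hg, centralizer_singleton_conj, card_map_conj]
  have hz : 0 < Nat.card (center H) := Nat.card_pos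
  have hm : ∀ x : {x // x ∉ center H}, (center H).relIndex (centralizer {(⟦x⟧ : Quotient r).out.1}) =
      (center H).relIndex (centralizer {x.1}) := fun x => by
    refine Nat.eq_of_mul_eq_mul_left hz ?_
    rw [card_mul_relIndex (hZC _), card_mul_relIndex (hZC _)]
    exact (hcard _ _ (Quotient.mk_out x)).symm
  have hsum : ∀ F : {x // x ∉ center H} → ℕ, ∑ x, F x =
      ∑ i : Quotient r, ∑ x : {x // (⟦x⟧ : Quotient r) = i}, F x := fun F =>
    (Fintype.sum_fiberwise (fun x => (⟦x⟧ : Quotient r)) F).symm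
  have hsplit : ∀ F : H → ℕ, ∑ x, F x =
      ∑ x : center H, F x + ∑ x : {x // x ∉ center H}, F x := fun F =>
    (Fintype.sum_subtype_add_sum_subtype (· ∈ center H) F).symm
  refine ⟨Quotient r, inferInstance, Quotient.mk r,
    fun i => (center H).relIndex (centralizer {i.out.1}),
    fun i => (centralizer {i.out.1}).relIndex (normalizer (centralizer {i.out.1} : Set H)),
    fun i => Nat.card {x // (⟦x⟧ : Quotient r) = i}, Quotient.mk_surjective, hm, fun i => ?_,
    fun i => ?_, fun i => ?_, ?_, ?_, fun i => rfl, fun x y h => Quotient.exact h⟩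
  · have h1 := relIndex_pos (center H) (centralizer {i.out.1})
    have h2 : (center H).relIndex (centralizer {i.out.1}) ≠ 1 := fun h =>
      i.out.2 (relIndex_eq_one.mp h (mem_centralizer_singleton_iff.mpr rfl))
    beta_reduce
    omega
  · have h1 := relIndex_pos (centralizer {i.out.1}) (normalizer (centralizer {i.out.1} : Set H))
    have h2 : (centralizer {i.out.1}).relIndex (normalizer (centralizer {i.out.1} : Set H)) ≤ 2 := by
      refine le_trans ?_ (hF _ i.out.2)
      refine Nat.card_le_card_of_injective (Quotient.lift (fun g =>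
        ⟨(g : H) * i.out.1 * (g : H)⁻¹, isConj_iff.mpr ⟨g, rfl⟩, conj_mem_of_mem_normalizer g.2
          (mem_centralizer_singleton_iff.mpr rfl)⟩) fun g g' h => ?_) ?_
      · have h3 := mem_centralizer_singleton_iff.mp
          (mem_subgroupOf.mp (QuotientGroup.leftRel_apply.mp h))
        simp only [Subgroup.coe_mul, Subgroup.coe_inv] at h3
        apply Subtype.ext
        calc (g : H) * i.out.1 * (g : H)⁻¹ = g * (i.out.1 * ((g : H)⁻¹ * g')) * (g' : H)⁻¹ := by group
          _ = _ := by rw [← h3]; group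
      · rintro ⟨g⟩ ⟨g'⟩ h
        have h3 : (g : H) * i.out.1 * (g : H)⁻¹ = g' * i.out.1 * (g' : H)⁻¹ := congrArg Subtype.val h
        refine Quotient.sound (QuotientGroup.leftRel_apply.mpr (mem_subgroupOf.mpr
          (mem_centralizer_singleton_iff.mpr ?_)))
        simp only [Subgroup.coe_mul, Subgroup.coe_inv]
        calc (g : H)⁻¹ * g' * i.out.1 = (g : H)⁻¹ * (g' * i.out.1 * (g' : H)⁻¹) * g' := by group
          _ = _ := by rw [← h3]; group
    beta_reduce
    omega
  · set x := i.out with hx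
    let Φ : H × {t // t ∈ centralizer ({x.1} : Set H) ∧ t ∉ center H} →
        {y // (⟦y⟧ : Quotient r) = i} := fun w =>
      ⟨⟨w.1⁻¹ * w.2 * w.1⁻¹⁻¹, conj_notMem w.2.2.2 _⟩, by
        rw [← Quotient.out_eq i, ← hx]
        exact (Quotient.sound (show r x _ from
          ⟨w.1, by simpa [mul_assoc] using w.2.2.1⟩)).symm⟩
    have h1 := card_eq_card_mul_of_fiber Φ
      (n := Nat.card (normalizer (centralizer {x.1} : Set H))) fun y => by
        obtain ⟨g₀, hg₀⟩ : r x y.1 := Quotient.exact ((Quotient.out_eq i).trans y.2.symm)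
        have h2 : ∀ g : H, g * g₀⁻¹ ∈ normalizer (centralizer ({x.1} : Set H) : Set H) ↔
            g * y.1 * g⁻¹ ∈ centralizer ({x.1} : Set H) := fun g => by
          rw [mem_normalizer_iff' hCA x.2 (conj_notMem y.1.2 g₀) hg₀]
          simp [mul_assoc]
        have e : ∀ w : {w // Φ w = y}, (y.1.1 : H) = w.1.1⁻¹ * w.1.2 * w.1.1⁻¹⁻¹ := fun w =>
          (congrArg (fun a => a.1.1) w.2).symm
        refine Nat.card_congr
          { toFun := fun w => ⟨w.1.1 * g₀⁻¹, (h2 _).mpr (by
              rw [e w]; simpa [mul_assoc] using w.1.2.2.1)⟩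
            invFun := fun g => ⟨(g * g₀, ⟨(g * g₀) * y.1 * (g * g₀)⁻¹,
              (h2 _).mp (by simp), conj_notMem y.1.2 _⟩), by
                apply Subtype.ext; apply Subtype.ext; simp [Φ, mul_assoc]⟩
            left_inv := fun w => by
              apply Subtype.ext
              refine Prod.ext (by simp) (Subtype.ext ?_)
              simp only [inv_mul_cancel_right]
              rw [e w]
              simp [mul_assoc]
            right_inv := fun g => by simp }
    have h3 : Nat.card {t // t ∈ centralizer ({x.1} : Set H) ∧ t ∉ center H} +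
        Nat.card (center H) = Nat.card (centralizer ({x.1} : Set H)) := by
      have h4 := Set.ncard_sdiff_add_ncard_of_subset
        (SetLike.coe_subset_coe.mpr (hZC x.1)) (Set.toFinite _)
      exact h4
    rw [Nat.card_prod, ← card_mul_relIndex le_normalizer, ← card_mul_relIndex (hZC x.1)] at h1
    rw [← card_mul_relIndex (hZC x.1)] at h3
    refine Nat.eq_of_mul_eq_mul_left hz ?_
    beta_reduce
    rw [mul_left_comm _ (Nat.card H), Nat.mul_sub_one, ← h3, Nat.add_sub_cancel, h1]
    ring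
  · have h1 := hsplit fun _ => 1
    rw [hsum] at h1
    simp only [Finset.sum_const, Finset.card_univ, smul_eq_mul, mul_one,
      ← Nat.card_eq_fintype_card] at h1
    rw [h1, add_comm]
  · have h1 : Nat.card (ConjClasses H) * Nat.card H =
        ∑ x : H, Nat.card (centralizer ({x} : Set H)) := by
      rw [← card_comm_eq_card_conjClasses_mul_card, ← Nat.card_sigma]
      exact Nat.card_congr
        { toFun := fun w => ⟨w.1.1, w.1.2, mem_centralizer_singleton_iff.mpr w.2.symm⟩
          invFun := fun w => ⟨(w.1, w.2), (mem_centralizer_singleton_iff.mp w.2.2).symm⟩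
          left_inv := fun _ => rfl
          right_inv := fun _ => rfl }
    rw [hsplit, hsum, Finset.sum_congr rfl fun (x : center H) _ =>
      show Nat.card (centralizer ({x.1} : Set H)) = Nat.card H by
        rw [centralizer_eq_top_iff_subset.mpr (Set.singleton_subset_iff.mpr x.2), card_top],
      Finset.sum_congr rfl fun i _ => Finset.sum_congr rfl fun y _ =>
        hcard i.out y.1 (Quotient.exact ((Quotient.out_eq i).trans y.2.symm))] at h1
    simp only [Finset.sum_const, Finset.card_univ, smul_eq_mul, ← Nat.card_eq_fintype_card] at h1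
    refine Nat.eq_of_mul_eq_mul_left hz ?_
    rw [mul_left_comm, card_mul_index, h1, mul_add, Finset.mul_sum]
    congr 1
    exact Finset.sum_congr rfl fun i _ => by rw [← card_mul_relIndex (hZC _)]; ring

theorem arith_two {p z k m₀ m₁ m₂ f₂ : ℕ} (hp : 5 ≤ p) (hz : z * m₀ + 1 = p) (h0 : 3 ≤ m₀)
    (h1 : m₁ = 2) (h2 : 2 ≤ m₂) (hf : f₂ = 2)
    (h : ((m₀ : ℚ) - 1) / (2 * m₀) + ((m₁ - 1) / (2 * m₁) + (m₂ - 1) / (f₂ * m₂)) =
      1 - 1 / ((p + 1) * m₀))
    (hk : (k : ℚ) = z * (1 + ((m₀ - 1) / 2 + ((m₁ - 1) / 2 + (m₂ - 1) / f₂)))) :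
    p ≤ k ∨ (p = 5 ∧ z = 1) ∨ (p = 11 ∧ z = 2 ∧ k = 9 ∧ m₀ = 5 ∧ m₂ = 3) := by
  subst h1 hf
  have e1 : 2 * (p + 1) * (m₂ + m₀) = (p + 1) * m₀ * m₂ + 4 * m₂ := by
    have : (m₀ : ℚ) ≠ 0 := by positivity
    have : (m₂ : ℚ) ≠ 0 := by positivity
    field_simp at h
    have h' : (2 * (p + 1) * (m₂ + m₀) : ℚ) = (p + 1) * m₀ * m₂ + 4 * m₂ := by
      push_cast at h; linear_combination (-1 : ℚ) * h
    exact_mod_cast h'
  have e2 : 2 * k = z * (m₀ + m₂ + 1) := by
    have h' : (2 * k : ℚ) = z * (m₀ + m₂ + 1) := by rw [hk]; push_cast; ring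
    exact_mod_cast h'
  have e3 : m₀ * m₂ < 2 * (m₂ + m₀) := by
    refine Nat.lt_of_mul_lt_mul_left (a := p + 1) ?_
    nlinarith
  have e4 : m₂ ≤ 5 := by nlinarith
  have e5 : m₂ ≠ 2 := by rintro rfl; nlinarith
  have e6 : m₀ ≤ 5 := by
    have : 3 ≤ m₂ := by omega
    nlinarith
  interval_cases m₀ <;> interval_cases m₂ <;> omega

theorem arith {I : Type*} [Fintype I] {m f : I → ℕ} (hm : ∀ i, 2 ≤ m i)
    (hf : ∀ i, f i = 1 ∨ f i = 2) {p z h k : ℕ} (hp : 5 ≤ p) (hh : 0 < h) (i₀ : I)
    (hz : z * m i₀ = (p - 1) * h)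
    (e1 : ∑ i, ((m i : ℚ) - 1) / (f i * m i) = 1 - 1 / ((p + 1) * m i₀))
    (e2 : (k : ℚ) = z * (1 + ∑ i, ((m i : ℚ) - 1) / f i)) :
    p ≤ k ∨ (p = 5 ∧ z = 1 ∧ h = 1) ∨ (p = 11 ∧ z = 2 ∧ h = 1 ∧ k = 9 ∧ ∃ i₁ i₂,
      (∀ i, i = i₀ ∨ i = i₁ ∨ i = i₂) ∧ m i₀ = 5 ∧ m i₁ = 2 ∧ m i₂ = 3 ∧ ∀ i, f i = 2) := by
  classical
  have hm' : ∀ i, (2 : ℚ) ≤ m i := fun i => by exact_mod_cast hm i
  have hu : ∀ i, (1 / 2 : ℚ) ≤ ((m i : ℚ) - 1) / f i := fun i => by
    have := hm' i
    rcases hf i with h | h <;> rw [h] <;> push_cast <;> linarith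
  have ht : ∀ i, (f i = 2 ∧ ((m i : ℚ) - 1) / (f i * m i) = 1 / 2 - 1 / (2 * m i)) ∨
      (f i = 1 ∧ ((m i : ℚ) - 1) / (f i * m i) = 1 - 1 / m i) := fun i => by
    have := hm' i
    rcases hf i with h | h
    · right; rw [h]; exact ⟨rfl, by push_cast; field_simp⟩
    · left; rw [h]; exact ⟨rfl, by push_cast; field_simp⟩
  have hinv : ∀ i (c : ℕ), 0 < c → c ≤ m i → (1 : ℚ) / m i ≤ 1 / c := fun i c hc h =>
    one_div_le_one_div_of_le (by positivity) (by exact_mod_cast h)
  have hinv2 : ∀ i, (1 : ℚ) / (2 * m i) = 1 / m i / 2 := fun i => by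
    have := hm' i; field_simp
  have ht4 : ∀ i, (1 / 4 : ℚ) ≤ ((m i : ℚ) - 1) / (f i * m i) := fun i => by
    have := hinv i 2 two_pos (hm i)
    rcases ht i with ⟨-, h⟩ | ⟨-, h⟩ <;> rw [h] <;> (try rw [hinv2]) <;> push_cast at this <;>
      linarith
  have hp' : (5 : ℚ) ≤ p := by exact_mod_cast hp
  have hz' : (z : ℚ) * m i₀ = (p - 1) * h := by
    have := congrArg (Nat.cast : ℕ → ℚ) hz
    rwa [Nat.cast_mul, Nat.cast_mul, Nat.cast_sub (by omega), Nat.cast_one] at this
  have hh' : (1 : ℚ) ≤ h := by exact_mod_cast hh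
  have hz0 : (0 : ℚ) < z := by
    have : z ≠ 0 := by rintro rfl; simp at hz; omega
    positivity
  have hgoal : (p : ℚ) - 1 < k → p ≤ k := fun h => by
    have : (p : ℚ) < k + 1 := by linarith
    have : p < k + 1 := by exact_mod_cast this
    omega
  have hg0 : (0 : ℚ) < 1 / ((p + 1) * m i₀) := by have := hm' i₀; positivity
  have hg1 : (1 : ℚ) / ((p + 1) * m i₀) < 1 / m i₀ / 2 := by
    have := hm' i₀
    rw [← hinv2]
    exact one_div_lt_one_div_of_lt (by positivity) (by nlinarith)
  rw [← Finset.add_sum_erase _ _ (Finset.mem_univ i₀)] at e1 e2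
  set S := Finset.univ.erase i₀ with hS
  have hU : (S.card : ℚ) * (1 / 2) ≤ ∑ i ∈ S, ((m i : ℚ) - 1) / f i := by
    simpa using Finset.card_nsmul_le_sum S _ _ fun i _ => hu i
  have hT : (S.card : ℚ) * (1 / 4) ≤ ∑ i ∈ S, ((m i : ℚ) - 1) / (f i * m i) := by
    simpa using Finset.card_nsmul_le_sum S _ _ fun i _ => ht4 i
  have hm0 := hinv i₀ 2 two_pos (hm i₀)
  push_cast at hm0
  rcases ht i₀ with ⟨hf0, ht0⟩ | ⟨hf0, ht0⟩
  swap
  · left
    have hS0 : S.card ≠ 0 := fun h => by
      rw [Finset.card_eq_zero.mp h, Finset.sum_empty, ht0] at e1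
      linarith [one_div_pos.mpr (show (0 : ℚ) < m i₀ by linarith [hm' i₀])]
    have hS1 : (1 : ℚ) ≤ S.card := by exact_mod_cast Nat.pos_of_ne_zero hS0
    refine hgoal ?_
    rw [e2, hf0]
    push_cast
    nlinarith
  rw [hinv2] at ht0
  by_cases hh2 : 2 ≤ h
  · left
    have : (2 : ℚ) ≤ h := by exact_mod_cast hh2
    refine hgoal ?_
    rw [e2, hf0]
    push_cast
    have : (0 : ℚ) ≤ S.card := by positivity
    nlinarith
  obtain rfl : h = 1 := by omega
  rw [Nat.cast_one, mul_one] at hz'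
  have hgoal' : (m i₀ : ℚ) - 1 < 2 * ∑ i ∈ S, ((m i : ℚ) - 1) / f i → p ≤ k := fun h => by
    refine hgoal ?_
    rw [e2, hf0]
    push_cast
    nlinarith
  have hS2 : S.card < 3 := by
    have : (S.card : ℚ) < 3 := by rw [ht0] at e1; linarith
    exact_mod_cast this
  have hS0 : S.card ≠ 0 := fun h => by
    rw [Finset.card_eq_zero.mp h, Finset.sum_empty, ht0] at e1
    linarith
  by_cases hS1 : S.card = 1
  · left
    obtain ⟨i₁, h1⟩ := Finset.card_eq_one.mp hS1
    rw [h1, Finset.sum_singleton] at e1 hgoal'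
    rw [ht0] at e1
    have hp1 : (0 : ℚ) < 1 / m i₁ := one_div_pos.mpr (by linarith [hm' i₁])
    rcases ht i₁ with ⟨hf1, ht1⟩ | ⟨hf1, ht1⟩
    · rw [ht1, hinv2] at e1; linarith
    · rw [ht1] at e1
      have h3 : 3 ≤ m i₁ := by
        by_contra h
        have h4 : m i₁ = 2 := by have := hm i₁; omega
        rw [h4] at e1
        push_cast at e1
        linarith
      have h4 := hinv i₁ 3 (by norm_num) h3
      have h5 : m i₀ = 2 := by
        by_contra h
        have := hinv i₀ 3 (by norm_num) (by have := hm i₀; omega)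
        push_cast at this h4
        linarith
      refine hgoal' ?_
      have : (3 : ℚ) ≤ m i₁ := by exact_mod_cast h3
      rw [h5, hf1]
      push_cast
      linarith
  obtain ⟨i₁, i₂, h12, h1⟩ := Finset.card_eq_two.mp (show S.card = 2 by omega)
  rw [h1, Finset.sum_pair h12] at e1 e2 hgoal'
  by_cases h3 : m i₀ = 2
  · left
    refine hgoal' ?_
    rw [h3]
    push_cast
    linarith [hu i₁, hu i₂]
  have h4 : 3 ≤ m i₀ := by have := hm i₀; omega
  have h5 := hinv i₀ 3 (by norm_num) h4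
  push_cast at h5
  have hf12 : ∀ i j, ((m i : ℚ) - 1) / (f i * m i) + ((m j : ℚ) - 1) / (f j * m j) < 2 / 3 →
      f i = 2 := fun i j h => by
    rcases ht i with ⟨h', -⟩ | ⟨-, h'⟩
    · exact h'
    · have := hinv i 2 two_pos (hm i)
      push_cast at this
      linarith [ht4 j]
  have e1' := e1
  rw [ht0] at e1'
  have hf1 := hf12 i₁ i₂ (by linarith)
  have hf2 := hf12 i₂ i₁ (by linarith)
  have hall : ∀ i, i = i₀ ∨ i = i₁ ∨ i = i₂ := fun i => by
    by_cases h : i = i₀
    · exact Or.inl h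
    · have : i ∈ S := Finset.mem_erase.mpr ⟨h, Finset.mem_univ _⟩
      rw [h1] at this
      simpa using Or.inr (by simpa using this)
  have hfall : ∀ i, f i = 2 := fun i => by rcases hall i with rfl | rfl | rfl <;> assumption
  have hz1 : z * m i₀ + 1 = p := by omega
  rw [hf0] at e1 e2
  have h6 : m i₁ = 2 ∨ m i₂ = 2 := by
    by_contra h
    push Not at h
    have a1 := hinv i₁ 3 (by norm_num) (by have := hm i₁; omega)
    have a2 := hinv i₂ 3 (by norm_num) (by have := hm i₂; omega)
    rw [((ht i₁).resolve_right fun h => by omega).2, ((ht i₂).resolve_right fun h => by omega).2,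
      hinv2, hinv2] at e1'
    push_cast at a1 a2
    linarith
  rcases h6 with h6 | h6
  · rw [hf1] at e1 e2
    rcases arith_two hp hz1 h4 h6 (hm i₂) hf2 e1 e2 with h | h | h
    · exact Or.inl h
    · exact Or.inr (Or.inl ⟨h.1, h.2, rfl⟩)
    · exact Or.inr (Or.inr ⟨h.1, h.2.1, rfl, h.2.2.1, i₁, i₂, hall, h.2.2.2.1, h6, h.2.2.2.2, hfall⟩)
  · rw [hf2, add_comm (((m i₁ : ℚ) - 1) / _)] at e1 e2
    rcases arith_two hp hz1 h4 h6 (hm i₁) hf1 e1 e2 with h | h | h
    · exact Or.inl h
    · exact Or.inr (Or.inl ⟨h.1, h.2, rfl⟩)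
    · exact Or.inr (Or.inr ⟨h.1, h.2.1, rfl, h.2.2.1, i₂, i₁, fun i => by
        rcases hall i with h | h | h <;> simp [h], h.2.2.2.1, h6, h.2.2.2.2, hfall⟩)

end Cfsg.CAClass
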