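import Cfsg.Agent.Grp.SelfCent
import Cfsg.Agent.Grp.PPart
import Mathlib.GroupTheory.GroupAction.CardCommute

/-!
# Dickson's counting argument

A finite group acting on a finite set such that an element `x` of prime order `p` has a unique
fixed point and non-trivial `p`-regular elements have exactly two fixed points has `p + 1` Sylow
`p`-subgroups.
-/

set_option autoImplicit false

namespace Cfsg

open Subgroup MulAction

universe u v

theorem dickson_arith {p m e j : ℕ} (hp : 5 ≤ p) (hm : 0 < m) (he0 : 0 < e) (he : e ≤ p - 1)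
    (h : (2 + (p - 2) * (1 + m * p)) * j = (1 + m * p) * (p * e)) : m = 1 ∧ p - 1 ≤ 2 * e := by
  obtain ⟨q, rfl⟩ : ∃ q, p = q + 2 := ⟨p - 2, by omega⟩
  simp only [Nat.add_sub_cancel] at h
  have h1 : (1 + m * q) * j = (1 + m * (q + 2)) * e := by
    refine Nat.eq_of_mul_eq_mul_left (show 0 < q + 2 by omega) ?_
    nlinarith
  have h2 : (1 + m * q) ∣ m * (2 * e) := by
    have : (1 + m * q) ∣ (1 + m * q) * e + m * (2 * e) := ⟨j, by rw [h1]; ring⟩
    exact (Nat.dvd_add_right (Dvd.intro _ rfl)).mp this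
  have h3 : (1 + m * q).Coprime m := by
    rw [Nat.coprime_comm, mul_comm, Nat.coprime_add_mul_right_right]; simp
  have h4 : (1 + m * q) ∣ 2 * e := h3.dvd_of_dvd_mul_left h2
  obtain ⟨c, hc⟩ := h4
  have hc0 : 0 < c := Nat.pos_of_ne_zero fun h => by rw [h] at hc; omega
  have h5 : 1 + m * q ≤ 2 * e := by rw [hc]; nlinarith
  have hm1 : m = 1 := by
    by_contra hne
    rcases Nat.lt_or_ge m 3 with h6 | h6
    · obtain rfl : m = 2 := by omega
      rcases Nat.lt_or_ge c 2 with h7 | h7
      · obtain rfl : c = 1 := by omega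
        omega
      · have : (1 + 2 * q) * 2 ≤ (1 + 2 * q) * c := Nat.mul_le_mul_left _ h7
        omega
    · have : 3 * q ≤ m * q := Nat.mul_le_mul_right _ h6
      omega
  subst hm1
  exact ⟨rfl, by omega⟩

variable {H : Type u} [Group H] [Finite H] {X : Type v} [MulAction H X] [Finite X] {p : ℕ}
  [hp : Fact p.Prime]

omit [Finite X] in
theorem selfCent_of_fixed (hp2 : p ≠ 2) {x : H} (hx : orderOf x = p) (hsq : ¬ p ^ 2 ∣ Nat.card H)
    {y0 : X} (h1 : ∀ y, x • y = y ↔ y = y0)
    (h2 : ∀ g : H, g ≠ 1 → ¬ p ∣ orderOf g → (fixedBy X g).ncard = 2) : SelfCent p x := by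
  refine ⟨hx, le_antisymm ?_ ?_⟩
  · have hreg : ∀ c ∈ centralizer ({x} : Set H), ¬ p ∣ orderOf c → c = 1 := by
      intro c hc hcp
      by_contra hc1
      have hcx : Commute x c := mem_centralizer_singleton_iff.mp hc |>.symm
      obtain ⟨a, b, hab, hs⟩ := Set.ncard_eq_two.mp (h2 c hc1 hcp)
      have hmem : ∀ y ∈ fixedBy X c, x • y ∈ fixedBy X c := fun y hy => by
        rw [mem_fixedBy] at hy ⊢
        rw [smul_smul, ← hcx.eq, mul_smul, hy]
      have ha : a ∈ fixedBy X c := by rw [hs]; simp
      have hb : b ∈ fixedBy X c := by rw [hs]; simp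
      have key : ∀ a b : X, a ≠ b → a ∈ fixedBy X c → (∀ y ∈ fixedBy X c, y = a ∨ y = b) →
          x • a = a := by
        intro a b hab ha hs
        rcases hs _ (hmem a ha) with h | h
        · exact h
        · have h3 : x • x • a = a := by
            rcases hs _ (hmem _ (hmem a ha)) with h' | h'
            · exact h'
            · rw [← h] at h'
              exact absurd (((smul_left_cancel_iff x).mp h').symm.trans h) hab
          have h4 : x ^ 2 ∈ stabilizer H a := by rw [mem_stabilizer_iff, sq, mul_smul, h3]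
          obtain ⟨k, hk⟩ := hp.out.odd_of_ne_two hp2
          have h5 : x ^ (2 * (k + 1)) = x := by
            rw [show 2 * (k + 1) = p + 1 by omega, pow_succ, ← hx, pow_orderOf_eq_one, one_mul]
          have h6 := pow_mem h4 (k + 1)
          rwa [← pow_mul, h5] at h6
      have hxa := key a b hab ha fun y hy => by rw [hs] at hy; simpa using hy
      have hxb := key b a hab.symm hb fun y hy => by rw [hs] at hy; simpa [or_comm] using hy
      exact hab (((h1 a).mp hxa).trans ((h1 b).mp hxb).symm)
    have hP : IsPGroup p (centralizer ({x} : Set H)) := by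
      rw [isPGroup_iff_forall_isPElt]
      intro c hc
      rw [← pPrimePart_eq_one_iff]
      exact hreg _ (pPrimePart_mem p hc) (isPRegular_pPrimePart p c)
    have hle : zpowers x ≤ centralizer ({x} : Set H) :=
      zpowers_le.mpr (mem_centralizer_singleton_iff.mpr rfl)
    obtain ⟨k, hk⟩ := hP.exists_card_eq
    have hk1 : k ≤ 1 := by
      by_contra hk2
      exact hsq (((pow_dvd_pow p (by omega)).trans hk.symm.dvd).trans (card_subgroup_dvd_card _))
    refine (eq_of_le_of_card_ge hle ?_).ge
    rw [hk, Nat.card_zpowers, hx]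
    calc p ^ k ≤ p ^ 1 := Nat.pow_le_pow_right hp.out.pos hk1
      _ = p := pow_one p
  · exact zpowers_le.mpr (mem_centralizer_singleton_iff.mpr rfl)

theorem dickson_count (hp5 : 5 ≤ p) {x : H} (hx : orderOf x = p) (hsq : ¬ p ^ 2 ∣ Nat.card H)
    {y0 : X} (h1 : ∀ y, x • y = y ↔ y = y0)
    (h2 : ∀ g : H, g ≠ 1 → ¬ p ∣ orderOf g → (fixedBy X g).ncard = 2)
    (h3 : ∀ y : X, ∃ g : H, g ≠ 1 ∧ g • y = y)
    (h4 : ∀ g : H, g • y0 = y0 → g ∈ normalizer ((zpowers x : Subgroup H) : Set H))
    (h5 : ∃ g : H, g • y0 ≠ y0) :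
    SelfCent p x ∧ (normalizer ((zpowers x : Subgroup H) : Set H)).index = p + 1 ∧
      p - 1 ≤ 2 * (zpowers x).relIndex (normalizer ((zpowers x : Subgroup H) : Set H)) := by
  classical
  have hS := selfCent_of_fixed (by omega) hx hsq h1 h2
  set N := normalizer ((zpowers x : Subgroup H) : Set H) with hN
  have hfixP : ∀ g ∈ zpowers x, g ≠ 1 → ∀ y, g • y = y ↔ y = y0 := by
    intro g hg hg1 y
    have hgx : zpowers g = zpowers x :=
      (eq_bot_or_eq_of_prime_card hS.prime_card (zpowers_le.mpr hg)).resolve_left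
        (mt zpowers_eq_bot.mp hg1)
    rw [← h1]
    constructor
    · intro h
      have : zpowers g ≤ stabilizer H y := zpowers_le.mpr h
      exact this (hgx ▸ mem_zpowers x)
    · intro h
      exact (zpowers_le.mpr h : zpowers x ≤ stabilizer H y) hg
  have hstab : stabilizer H y0 = N := by
    refine le_antisymm h4 fun n hn => ?_
    have hn' : n⁻¹ * x * n ∈ zpowers x := by
      have := (mem_normalizer_iff.mp (N.inv_mem hn) x).mp (mem_zpowers x)
      rwa [inv_inv] at this
    have hn1 : n⁻¹ * x * n ≠ 1 := fun h => hS.ne_one (by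
      have := congrArg (fun z => n * z * n⁻¹) h
      simpa [mul_assoc] using this)
    have := (hfixP _ hn' hn1 y0).mpr rfl
    rw [mem_stabilizer_iff, ← h1, ← smul_left_cancel_iff n⁻¹, inv_smul_smul, smul_smul, smul_smul,
      this]
  -- elements of order `p` have exactly one fixed point
  have hone : ∀ g : H, p ∣ orderOf g → orderOf g = p ∧ (fixedBy X g).ncard = 1 := by
    intro g hg
    have hpp : pPart p g ≠ 1 := fun h => ((pPart_eq_one_iff (g := g)).mp h) hg
    obtain ⟨c, hc⟩ := (isPElt_pPart p g).exists_conj_mem hS.sylow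
    rw [hS.coe_sylow] at hc
    have hc1 : c * pPart p g * c⁻¹ ≠ 1 := fun h => hpp (by
      have := congrArg (fun z => c⁻¹ * z * c) h
      simpa [mul_assoc] using this)
    have hord : orderOf (c * pPart p g * c⁻¹) = p := by
      have h6 := orderOf_dvd_of_mem_zpowers hc
      rw [hx] at h6
      exact ((Nat.dvd_prime hp.out).mp h6).resolve_left (mt orderOf_eq_one_iff.mp hc1)
    have hS' := hS.of_orderOf hord
    have hcg : c * g * c⁻¹ ∈ zpowers x := by
      have h7 : c * g * c⁻¹ ∈ centralizer ({c * pPart p g * c⁻¹} : Set H) := by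
        rw [← pPart_conj]; exact mem_centralizer_pPart p _
      rw [hS'.cent] at h7
      exact zpowers_le.mpr hc h7
    have hg1 : c * g * c⁻¹ ≠ 1 := fun h => by
      have : g = 1 := by
        have := congrArg (fun z => c⁻¹ * z * c) h
        simpa [mul_assoc] using this
      rw [this, orderOf_one] at hg
      exact hp.out.one_lt.ne' (Nat.dvd_one.mp hg)
    refine ⟨?_, ?_⟩
    · have h6 := orderOf_dvd_of_mem_zpowers hcg
      rw [hx] at h6
      rw [orderOf_eq_of_isConj' (isConj_iff.mpr ⟨c, rfl⟩ : IsConj g (c * g * c⁻¹))]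
      exact ((Nat.dvd_prime hp.out).mp h6).resolve_left (mt orderOf_eq_one_iff.mp hg1)
    · refine Set.ncard_eq_one.mpr ⟨c⁻¹ • y0, Set.ext fun y => ?_⟩
      rw [mem_fixedBy, Set.mem_singleton_iff, eq_inv_smul_iff, ← hfixP _ hcg hg1, smul_smul,
        inv_mul_cancel_right, mul_smul, smul_left_cancel_iff]
  have hcnt := card_orderOf_eq_prime (G := H) (p := p)
  rw [hS.card_subgroups, ← hN] at hcnt
  set D := N.index with hD
  set e := (zpowers x).relIndex N with he
  have hNe : Nat.card N = p * e := by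
    rw [he, relIndex, ← (zpowers x |>.subgroupOf N).card_mul_index,
      Nat.card_congr (subgroupOfEquivOfLe le_normalizer).toEquiv, hS.card_zpowers]
  have hH : Nat.card H = D * (p * e) := by rw [← hNe, mul_comm, N.card_mul_index]
  have he0 : 0 < e := Nat.pos_of_ne_zero fun h => by
    rw [h, mul_zero] at hNe; exact Nat.card_pos.ne' hNe
  have hep : e ≤ p - 1 := Nat.le_of_dvd (by omega) (Dvd.intro_left _ hS.card_classes_mul)
  have hD1 : D ≡ 1 [MOD p] := by
    have h6 := card_sylow_modEq_one p H
    rw [hS.sylow.card_eq_index_normalizer] at h6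
    exact h6
  have hDne : D ≠ 1 := fun h => by
    obtain ⟨g, hg⟩ := h5
    have : N = ⊤ := index_eq_one.mp h
    exact hg (by rw [← mem_stabilizer_iff, hstab, this]; trivial)
  obtain ⟨m, hm⟩ : ∃ m, D = 1 + m * p := by
    have h7 : 0 < D := index_pos _
    refine ⟨D / p, ?_⟩
    have h8 := Nat.div_add_mod D p
    have h9 : D % p = 1 := by rw [hD1, Nat.mod_eq_of_lt hp.out.one_lt]
    rw [h9] at h8
    rw [mul_comm]; omega
  have hm0 : 0 < m := Nat.pos_of_ne_zero fun h => hDne (by rw [hm, h]; simp)
  -- Burnside count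
  letI := Fintype.ofFinite H
  letI := Fintype.ofFinite X
  letI : Fintype (Quotient (orbitRel H X)) := Fintype.ofFinite _
  have hB := sum_card_fixedBy_eq_card_orbits_mul_card_group H X
  have hC := card_eq_sum_card_group_div_card_stabilizer H X
  have hsum : ∑ g : H, Fintype.card (fixedBy X g) + D * (p - 1) + 2 =
      Fintype.card X + 2 * Fintype.card H := by
    have h6 : ∀ g : H, Fintype.card (fixedBy X g) + (if orderOf g = p then 1 else 0) +
        (if g = 1 then 2 else 0) = (if g = 1 then Fintype.card X else 0) + 2 := by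
      intro g
      rw [← Nat.card_eq_fintype_card, Nat.card_coe_set_eq]
      by_cases hg : g = 1
      · subst hg
        simp [Set.ncard_univ, hp.out.one_lt.ne]
      · by_cases hgp : p ∣ orderOf g
        · simp [hg, hone g hgp]
        · have : orderOf g ≠ p := fun h => hgp (h ▸ dvd_rfl)
          simp [hg, h2 g hg hgp, this]
    have h7 := Finset.sum_congr rfl fun g (_ : g ∈ Finset.univ) => h6 g
    simp only [Finset.sum_add_distrib, Finset.sum_ite_eq', Finset.mem_univ, if_true,
      Finset.sum_const, Finset.card_univ, smul_eq_mul] at h7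
    rw [Finset.sum_boole, Nat.cast_id, ← Fintype.card_subtype, ← Nat.card_eq_fintype_card
      (α := {g : H // orderOf g = p}), hcnt] at h7
    omega
  set f : Quotient (orbitRel H X) → ℕ := fun ω =>
    Fintype.card H / Fintype.card (stabilizer H ω.out) with hf
  have hfm : ∀ ω, f ω * Nat.card (stabilizer H ω.out) = Nat.card H := fun ω => by
    rw [hf]
    simp only [← Nat.card_eq_fintype_card]
    exact Nat.div_mul_cancel (card_subgroup_dvd_card _)
  have hf2 : ∀ ω, 2 * f ω ≤ Nat.card H := fun ω => by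
    obtain ⟨g, hg1, hg⟩ := h3 ω.out
    have : 1 < Nat.card (stabilizer H ω.out) := by
      rw [Finite.one_lt_card_iff_nontrivial]
      exact ⟨⟨⟨g, hg⟩, 1, fun h => hg1 (congrArg Subtype.val h)⟩⟩
    rw [← hfm ω]; nlinarith
  set ω0 : Quotient (orbitRel H X) := Quotient.mk _ y0 with hω0
  have hf0 : f ω0 = D := by
    have h6 : (orbitRel H X) ω0.out y0 := Quotient.exact (Quotient.out_eq ω0)
    obtain ⟨g, hg⟩ := orbitRel_apply.mp h6
    have h7 : Nat.card (stabilizer H ω0.out) = Nat.card N := by
      rw [← hstab, ← hg]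
      exact (Nat.card_congr (stabilizerEquivStabilizer (g := g) (a := y0) rfl).toEquiv).symm
    have h8 := hfm ω0
    rw [h7, ← N.index_mul_card] at h8
    exact Nat.eq_of_mul_eq_mul_right Nat.card_pos h8
  change Fintype.card X = ∑ ω, f ω at hC
  rw [← Finset.add_sum_erase _ _ (Finset.mem_univ ω0), hf0] at hC
  set T := Finset.univ.erase ω0 with hT
  have hTc : Fintype.card (Quotient (orbitRel H X)) = T.card + 1 := by
    rw [hT, Finset.card_erase_add_one (Finset.mem_univ _), Finset.card_univ]
  have hle : 2 * ∑ ω ∈ T, f ω ≤ T.card * Nat.card H := by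
    rw [Finset.mul_sum]
    exact (Finset.sum_le_card_nsmul T _ _ fun ω _ => hf2 ω).trans (by simp)
  rw [hB, hTc, hC, ← Nat.card_eq_fintype_card] at hsum
  obtain ⟨q, hq⟩ : ∃ q, p = q + 2 := ⟨p - 2, by omega⟩
  have hq1 : p - 1 = q + 1 := by omega
  have hq2 : p - 2 = q := by omega
  rw [hq1] at hsum
  have hT1 : T.card = 1 := by
    rcases Nat.lt_or_ge T.card 1 with h | h
    · have h0 : T = ∅ := Finset.card_eq_zero.mp (by omega)
      rw [h0] at hsum
      simp only [Finset.card_empty, Finset.sum_empty] at hsum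
      have h6 : D * p ≤ Nat.card H := by rw [hH]; exact Nat.mul_le_mul_left _ (by nlinarith)
      have h7 : 2 ≤ D := by rw [hm]; nlinarith
      rw [hq] at h6
      nlinarith
    · by_contra h'
      obtain ⟨t, ht⟩ : ∃ t, T.card = t + 2 := ⟨T.card - 2, by omega⟩
      rw [ht] at hsum hle
      nlinarith
  obtain ⟨ω1, hω1⟩ := Finset.card_eq_one.mp hT1
  rw [hω1] at hsum
  simp only [Finset.card_singleton, Finset.sum_singleton] at hsum
  have hf1 : f ω1 = 2 + (p - 2) * D := by rw [hq2]; nlinarith
  have h9 := hfm ω1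
  rw [hf1, hH, hm] at h9
  obtain ⟨hm1, h10⟩ := dickson_arith hp5 hm0 he0 hep h9
  exact ⟨hS, by rw [hm, hm1]; ring, h10⟩

end Cfsg
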