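import Cfsg.Agent.Grp.UnitFrac
import Mathlib.GroupTheory.Index
import Mathlib.GroupTheory.Subgroup.Centralizer
import Mathlib.Data.Fintype.Order
import Mathlib.Algebra.Group.Subgroup.Finite
import Mathlib.Data.SetLike.Fintype
import Mathlib.Tactic.Group
import Mathlib.Tactic.LinearCombination
import Mathlib.Combinatorics.Enumerative.DoubleCounting

/-!
# Jordan's counting argument with fans

The group theoretic core of Jordan's original proof of his theorem on finite linear groups.
-/

set_option autoImplicit false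

namespace Cfsg

namespace Jordan

open Subgroup

universe u

variable {G : Type u} [Group G]

/-- An abelian subgroup all of whose subgroups of index at most `J` have the same centralizer. -/
def IsFan (J : ℕ) (F : Subgroup G) : Prop :=
  F ≤ centralizer (F : Set G) ∧
    ∀ F' ≤ F, F'.relIndex F ≤ J → centralizer (F' : Set G) ≤ centralizer (F : Set G)

variable {J : ℕ}

theorem IsFan.of_le_center {Z : Subgroup G} (hZ : Z ≤ center G) : IsFan J Z := by
  have : centralizer (Z : Set G) = ⊤ := centralizer_eq_top_iff_subset.2 hZ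
  exact ⟨this ▸ le_top, fun _ _ _ => this ▸ le_top⟩

theorem IsFan.le_centralizer_of [Finite G] {F A H : Subgroup G} (hF : IsFan J F) (hFH : F ≤ H)
    (hA : A.relIndex H ≤ J) : centralizer (A : Set G) ≤ centralizer (F : Set G) := by
  refine le_trans (centralizer_le (show ((A ⊓ F : Subgroup G) : Set G) ⊆ A from inf_le_left))
    (hF.2 _ inf_le_right ?_)
  rw [inf_relIndex_right]
  exact (relIndex_le_of_le_right hFH index_ne_zero_of_finite).trans hA

theorem centralizer_sup_eq (A B : Subgroup G) :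
    centralizer ((A ⊔ B : Subgroup G) : Set G) = centralizer (A : Set G) ⊓ centralizer B := by
  apply le_antisymm
  · exact le_inf (centralizer_le (SetLike.coe_subset_coe.2 (le_sup_left : A ≤ A ⊔ B)))
      (centralizer_le (SetLike.coe_subset_coe.2 (le_sup_right : B ≤ A ⊔ B)))
  · rw [le_centralizer_iff, sup_le_iff]
    exact ⟨le_centralizer_iff.1 inf_le_left, le_centralizer_iff.1 inf_le_right⟩

theorem IsFan.sup [Finite G] {F₁ F₂ A H : Subgroup G} (h₁ : IsFan J F₁) (h₂ : IsFan J F₂)
    (hH₁ : F₁ ≤ H) (hH₂ : F₂ ≤ H) (hA : A ≤ centralizer (A : Set G)) (hJ : A.relIndex H ≤ J) :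
    IsFan J (F₁ ⊔ F₂) := by
  have a1 : A ≤ centralizer (F₁ : Set G) := hA.trans (h₁.le_centralizer_of hH₁ hJ)
  have a2 : F₁ ≤ centralizer (F₂ : Set G) :=
    (le_centralizer_iff.1 a1).trans (h₂.le_centralizer_of hH₂ hJ)
  refine ⟨?_, fun F' _ hF' => ?_⟩
  · rw [centralizer_sup_eq]
    exact sup_le (le_inf h₁.1 a2) (le_inf (le_centralizer_iff.1 a2) h₂.1)
  · rw [centralizer_sup_eq]
    exact le_inf (h₁.le_centralizer_of le_sup_left hF') (h₂.le_centralizer_of le_sup_right hF')

theorem exists_isFan_le [Finite G] (hJ : 1 ≤ J) (d : Subgroup G → ℕ) (c : ℕ) (hd : ∀ A, d A ≤ c)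
    (hlt : ∀ A' A : Subgroup G, A' ≤ A → ¬ centralizer (A' : Set G) ≤ centralizer (A : Set G) →
      d A < d A') (A : Subgroup G) (hA : A ≤ centralizer (A : Set G)) :
    ∃ F ≤ A, IsFan J F ∧ F.relIndex A ≤ J ^ c := by
  suffices H : ∀ k, ∀ A : Subgroup G, A ≤ centralizer (A : Set G) → c - d A ≤ k →
      ∃ F ≤ A, IsFan J F ∧ F.relIndex A ≤ J ^ k from H c A hA (Nat.sub_le _ _)
  intro k
  induction k with
  | zero =>
    intro A hA hk
    refine ⟨A, le_rfl, ⟨hA, fun F' hF' _ => ?_⟩, by simp⟩
    by_contra h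
    have := hlt F' A hF' h
    have := hd F'
    omega
  | succ k ih =>
    intro A hA hk
    by_cases h : IsFan J A
    · exact ⟨A, le_rfl, h, by simpa using Nat.one_le_pow _ _ hJ⟩
    simp only [IsFan, hA, true_and, not_forall] at h
    obtain ⟨A', hA', hi, hc⟩ := h
    have h1 := hlt A' A hA' hc
    have h2 := hd A'
    obtain ⟨F, hF, hF1, hF2⟩ := ih A' (hA'.trans (hA.trans (centralizer_le hA'))) (by omega)
    refine ⟨F, hF.trans hA', hF1, ?_⟩
    rw [← relIndex_mul_relIndex F A' A hF hA', pow_succ]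
    exact Nat.mul_le_mul hF2 hi

theorem IsFan.map {F : Subgroup G} (hF : IsFan J F) (φ : G ≃* G) :
    IsFan J (F.map φ.toMonoidHom) := by
  have key : ∀ (ψ : G ≃* G) (X : Subgroup G) (x : G),
      x ∈ centralizer ((X.map ψ.toMonoidHom : Subgroup G) : Set G) ↔
        ψ.symm x ∈ centralizer (X : Set G) := by
    intro ψ X x
    simp only [mem_centralizer_iff, SetLike.mem_coe]
    constructor
    · intro h y hy
      apply ψ.injective
      simpa using h (ψ y) ⟨y, hy, rfl⟩
    · rintro h _ ⟨y, hy, rfl⟩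
      apply ψ.symm.injective
      simpa using h y hy
  refine ⟨?_, fun F' hF' hi x hx => ?_⟩
  · rintro _ ⟨y, hy, rfl⟩
    rw [key]; simpa using hF.1 hy
  · have e : F' = (F'.comap φ.toMonoidHom).map φ.toMonoidHom :=
      (map_comap_eq_self_of_surjective φ.surjective F').symm
    rw [key]
    rw [e, key] at hx
    refine hF.2 _ (fun y hy => ?_) ?_ hx
    · obtain ⟨z, hz, hzy⟩ := hF' hy
      exact φ.injective hzy ▸ hz
    · rw [relIndex_comap]; exact hi

/-- The join of the fans contained in the centralizer of `g`. -/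
def fanOf (J : ℕ) (g : G) : Subgroup G := sSup {F | IsFan J F ∧ F ≤ centralizer {g}}

theorem fanOf_le (g : G) : fanOf J g ≤ centralizer {g} := sSup_le fun _ h => h.2

theorem IsFan.le_fanOf {F : Subgroup G} (hF : IsFan J F) {g : G} (h : F ≤ centralizer {g}) :
    F ≤ fanOf J g := le_sSup ⟨hF, h⟩

theorem isFan_fanOf [Finite G] {g : G} {A : Subgroup G} (hA : A ≤ centralizer (A : Set G))
    (hJ : A.relIndex (centralizer {g}) ≤ J) : IsFan J (fanOf J g) := by
  obtain ⟨F, hF, hmax⟩ := Set.Finite.exists_maximal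
    (Set.toFinite {F : Subgroup G | IsFan J F ∧ F ≤ centralizer {g}})
    ⟨⊥, IsFan.of_le_center bot_le, bot_le⟩
  have : fanOf J g = F := by
    refine le_antisymm (sSup_le fun F' hF' => ?_) (hF.1.le_fanOf hF.2)
    exact le_sup_right.trans
      (hmax ⟨hF.1.sup hF'.1 hF.2 hF'.2 hA hJ, sup_le hF.2 hF'.2⟩ le_sup_left)
  exact this ▸ hF.1

theorem conj_mem_fanOf {g y : G} (x : G) (hy : y ∈ fanOf J g) :
    x * y * x⁻¹ ∈ fanOf J (x * g * x⁻¹) := by
  have : fanOf J g ≤ (fanOf J (x * g * x⁻¹)).comap (MulAut.conj x).toMonoidHom := by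
    refine sSup_le fun F hF => ?_
    rw [← map_le_iff_le_comap]
    refine (hF.1.map _).le_fanOf ?_
    rintro _ ⟨z, hz, rfl⟩
    have := mem_centralizer_singleton_iff.1 (hF.2 hz)
    rw [mem_centralizer_singleton_iff]
    simp only [MulEquiv.toMonoidHom_eq_coe, MonoidHom.coe_coe, MulAut.conj_apply]
    calc x * z * x⁻¹ * (x * g * x⁻¹) = x * (z * g) * x⁻¹ := by group
      _ = x * g * x⁻¹ * (x * z * x⁻¹) := by rw [this]; group
  exact this hy

/-- The coset `g • fanOf J g`. -/
def cell (J : ℕ) (g : G) : Set G := {y | g⁻¹ * y ∈ fanOf J g}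

theorem mem_cell_self (g : G) : g ∈ cell J g := by simp [cell, one_mem]

theorem conj_mem_cell {g y : G} (x : G) : x * y * x⁻¹ ∈ cell J (x * g * x⁻¹) ↔ y ∈ cell J g := by
  have key : ∀ x g y : G, y ∈ cell J g → x * y * x⁻¹ ∈ cell J (x * g * x⁻¹) := by
    intro x g y hy
    have := conj_mem_fanOf x hy
    simp only [cell, Set.mem_ofPred_eq]
    convert this using 1; group
  refine ⟨fun h => ?_, key x g y⟩
  have := key x⁻¹ _ _ h
  convert this using 1
  · group
  · group

/-- The hypotheses of Jordan's argument. -/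
structure Hyp (J E c : ℕ) (Z : Subgroup G) : Prop where
  one_le : 1 ≤ J
  le_center : Z ≤ center G
  exists_ab : ∀ B : Subgroup G, B ≤ centralizer (B : Set G) → ¬ B ≤ Z →
    ∃ A : Subgroup G, A ≤ centralizer (A : Set G) ∧ A.relIndex (normalizer (B : Set G)) ≤ J
  card_le : ∀ T : Subgroup G, T ≤ centralizer (T : Set G) → ∀ k, 0 < k → k ≤ J →
    (∀ t ∈ T, t ^ k = 1) → Nat.card T ≤ E
  exists_dim : ∃ d : Subgroup G → ℕ, (∀ A, d A ≤ c) ∧ ∀ A' A : Subgroup G, A' ≤ A →
    ¬ centralizer (A' : Set G) ≤ centralizer (A : Set G) → d A < d A'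
  ne_top : ∀ B : Subgroup G, B ≤ centralizer (B : Set G) → ¬ B ≤ Z →
    normalizer (B : Set G) ≠ ⊤

namespace Hyp

variable [Finite G] {E c : ℕ} {Z : Subgroup G} (h : Hyp J E c Z) {g : G}
include h

omit [Finite G] in
theorem conj_notMem (hg : g ∉ Z) (x : G) : x * g * x⁻¹ ∉ Z := by
  intro hx
  have h1 := mem_center_iff.1 (h.le_center hx) x⁻¹
  apply hg
  have : g = x * g * x⁻¹ := by
    calc g = x⁻¹ * (x * g * x⁻¹) * x := by group
      _ = x * g * x⁻¹ := by rw [h1]; group
  rwa [this]

theorem exists_ab_centralizer (hg : g ∉ Z) : ∃ A : Subgroup G, A ≤ centralizer (A : Set G) ∧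
    A.relIndex (centralizer {g}) ≤ J := by
  obtain ⟨A, hA, hi⟩ := h.exists_ab (zpowers g) (le_centralizer _)
    (fun hz => hg (hz (mem_zpowers g)))
  refine ⟨A, hA, le_trans (relIndex_le_of_le_right ?_ index_ne_zero_of_finite) hi⟩
  refine le_trans ?_ (centralizer_le_normalizer _)
  rw [zpowers_eq_closure, centralizer_closure]

theorem isFan (hg : g ∉ Z) : IsFan J (fanOf J g) := by
  obtain ⟨A, hA, hi⟩ := h.exists_ab_centralizer hg
  exact isFan_fanOf hA hi

omit [Finite G] in
theorem le_fanOf (g : G) : Z ≤ fanOf J g :=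
  (IsFan.of_le_center h.le_center).le_fanOf (h.le_center.trans (center_le_centralizer _))

theorem card_centralizer_le (hg : g ∉ Z) :
    Nat.card (centralizer {g} : Subgroup G) ≤ J ^ (c + 1) * Nat.card (fanOf J g) := by
  obtain ⟨A, hA, hi⟩ := h.exists_ab_centralizer hg
  obtain ⟨d, hd, hlt⟩ := h.exists_dim
  obtain ⟨F, hF, hF1, hF2⟩ := exists_isFan_le h.one_le d c hd hlt (A ⊓ centralizer {g})
    (inf_le_left.trans (hA.trans (centralizer_le (SetLike.coe_subset_coe.2 inf_le_left))))
  have h1 : F ≤ fanOf J g := hF1.le_fanOf (hF.trans inf_le_right)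
  have h2 : (fanOf J g).relIndex (centralizer {g}) ≤ J ^ (c + 1) := by
    refine (relIndex_le_of_le_left h1 index_ne_zero_of_finite).trans ?_
    rw [← relIndex_mul_relIndex F _ _ hF inf_le_right, pow_succ, inf_relIndex_right]
    exact Nat.mul_le_mul hF2 hi
  have h3 := ((fanOf J g).subgroupOf (centralizer {g})).index_mul_card
  rw [Nat.card_congr (subgroupOfEquivOfLe (fanOf_le g)).toEquiv] at h3
  rw [← h3]
  exact Nat.mul_le_mul_right _ h2

theorem fanOf_eq (hg : g ∉ Z) {y : G} (hy : y ∈ cell J g) (hyZ : y ∉ Z) :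
    fanOf J y = fanOf J g := by
  have h1 : fanOf J g ≤ fanOf J y := by
    refine (h.isFan hg).le_fanOf fun f hf => mem_centralizer_singleton_iff.2 ?_
    have a1 := mem_centralizer_singleton_iff.1 (fanOf_le g hf)
    have a2 := mem_centralizer_iff.1 ((h.isFan hg).1 hf) _ hy
    calc f * y = f * g * (g⁻¹ * y) := by group
      _ = g * (f * (g⁻¹ * y)) := by rw [a1]; group
      _ = y * f := by rw [← a2]; group
  refine le_antisymm ((h.isFan hyZ).le_fanOf fun f hf => mem_centralizer_singleton_iff.2 ?_) h1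
  have a1 := mem_centralizer_singleton_iff.1 (fanOf_le y hf)
  have a2 := mem_centralizer_iff.1 ((h.isFan hyZ).1 hf) _ (inv_mem (h1 hy))
  calc f * g = f * y * (g⁻¹ * y)⁻¹ := by group
    _ = y * (f * (g⁻¹ * y)⁻¹) := by rw [a1]; group
    _ = g * f := by rw [← a2]; group

theorem cell_eq (hg : g ∉ Z) {y : G} (hy : y ∈ cell J g) (hyZ : y ∉ Z) :
    cell J y = cell J g := by
  ext x
  simp only [cell, Set.mem_ofPred_eq, h.fanOf_eq hg hy hyZ]
  have hy' : g⁻¹ * y ∈ fanOf J g := hy
  constructor
  · intro hx; convert mul_mem hy' hx using 1; group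
  · intro hx; convert mul_mem (inv_mem hy') hx using 1; group

theorem mem_normalizer_cell (hg : g ∉ Z) {y : G} (hy : y ∈ cell J g) (hyZ : y ∉ Z) {x : G} :
    x ∈ normalizer (cell J g) ↔ x * y * x⁻¹ ∈ cell J g := by
  rw [mem_set_normalizer_iff]
  refine ⟨fun H => (H y).1 hy, fun H n => ?_⟩
  rw [← h.cell_eq hg H (h.conj_notMem hyZ x), conj_mem_cell, h.cell_eq hg hy hyZ,
    h.cell_eq hg H (h.conj_notMem hyZ x)]

theorem fanOf_le_normalizer (hg : g ∉ Z) : fanOf J g ≤ normalizer (cell J g) := by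
  intro f hf
  rw [h.mem_normalizer_cell hg (mem_cell_self g) hg,
    mem_centralizer_singleton_iff.1 (fanOf_le g hf), mul_inv_cancel_right]
  exact mem_cell_self g

theorem closure_cell_le (hg : g ∉ Z) :
    closure (cell J g) ≤ centralizer (closure (cell J g) : Set G) := by
  rw [centralizer_closure, closure_le]
  intro y hy
  rw [SetLike.mem_coe, mem_centralizer_iff]
  intro x hx
  have a1 := mem_centralizer_singleton_iff.1 (fanOf_le g hx)
  have a2 := mem_centralizer_singleton_iff.1 (fanOf_le g hy)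
  have a3 := mem_centralizer_iff.1 ((h.isFan hg).1 hx) _ hy
  calc x * y = g * (g⁻¹ * x * g) * (g⁻¹ * y) := by group
    _ = g * g * (g⁻¹ * x * (g⁻¹ * y)) := by rw [a1]; group
    _ = g * (g * (g⁻¹ * y)) * (g⁻¹ * x) := by rw [← a3]; group
    _ = y * x := by rw [← a2]; group

theorem card_normalizer_le (hg : g ∉ Z) :
    Nat.card (normalizer (cell J g)) ≤ J * E * J ^ (c + 1) * Nat.card (fanOf J g) := by
  classical
  have := Fintype.ofFinite G
  obtain ⟨A, hA, hi⟩ := h.exists_ab _ (h.closure_cell_le hg)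
    (fun hz => hg (hz (subset_closure (mem_cell_self g))))
  have hDN : normalizer (cell J g) ≤ normalizer (closure (cell J g) : Set G) :=
    normalizer_le_normalizer_closure _
  have hgN : g ∈ normalizer (closure (cell J g) : Set G) :=
    le_normalizer (subset_closure (mem_cell_self g))
  obtain ⟨k, hk0, hk1, hk⟩ := exists_pow_mem_of_relIndex_ne_zero (H := A)
    index_ne_zero_of_finite hgN
  set D := normalizer (cell J g)
  have h1 : Nat.card D ≤ J * Nat.card (A ⊓ D : Subgroup G) := by
    have h3 := ((A ⊓ D).subgroupOf D).index_mul_card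
    rw [Nat.card_congr (subgroupOfEquivOfLe (inf_le_right : A ⊓ D ≤ D)).toEquiv] at h3
    rw [← h3]
    refine Nat.mul_le_mul_right _ ?_
    change (A ⊓ D).relIndex D ≤ J
    rw [inf_relIndex_right]
    exact (relIndex_le_of_le_right hDN index_ne_zero_of_finite).trans hi
  have hF := (h.isFan hg).1
  let T : Subgroup G :=
    { carrier := {f | f ∈ fanOf J g ∧ f ^ k = 1}
      one_mem' := ⟨one_mem _, one_pow _⟩
      mul_mem' := fun {a b} ha hb => ⟨mul_mem ha.1 hb.1, by
        rw [Commute.mul_pow (mem_centralizer_iff.1 (hF hb.1) _ ha.1), ha.2, hb.2, one_mul]⟩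
      inv_mem' := fun {a} ha => ⟨inv_mem ha.1, by rw [inv_pow, ha.2, inv_one]⟩ }
  have hT : Nat.card T ≤ E := h.card_le T
    (fun a ha => mem_centralizer_iff.2 fun b hb => mem_centralizer_iff.1 (hF ha.1) _ hb.1)
    k hk0 (hk1.trans hi) (fun t ht => ht.2)
  have h2 : Nat.card (A ⊓ D : Subgroup G) ≤
      Nat.card (centralizer {g} : Subgroup G) * Nat.card T := by
    have e : ∀ X : Subgroup G, Nat.card X = (Finset.univ.filter (· ∈ X)).card := fun X => by
      rw [Nat.card_eq_fintype_card, Fintype.card_subtype]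
    rw [e, e T]
    refine Finset.card_le_mul_card_image_of_maps_to (f := fun x => g⁻¹ * (x * g * x⁻¹)) ?_ _ ?_
    · intro x hx
      have hx' : x ∈ A ⊓ D := (Finset.mem_filter.1 hx).2
      have a1 : g⁻¹ * (x * g * x⁻¹) ∈ fanOf J g :=
        (h.mem_normalizer_cell hg (mem_cell_self g) hg).1 hx'.2
      refine Finset.mem_filter.2 ⟨Finset.mem_univ _, a1, ?_⟩
      have a2 : Commute g (g⁻¹ * (x * g * x⁻¹)) :=
        (mem_centralizer_singleton_iff.1 (fanOf_le g a1)).symm
      have a3 := a2.mul_pow k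
      rw [mul_inv_cancel_left, conj_pow, ← mem_centralizer_iff.1 (hA hx'.1) _ hk.1,
        mul_inv_cancel_right] at a3
      exact (left_eq_mul.1 a3)
    · intro t _
      rcases ((Finset.univ.filter (· ∈ A ⊓ D)).filter
        fun x => g⁻¹ * (x * g * x⁻¹) = t).eq_empty_or_nonempty with h0 | ⟨x0, hx0⟩
      · rw [h0]; simp
      rw [e]
      refine Finset.card_le_card_of_injOn (fun x => x0⁻¹ * x) ?_ ?_
      · intro x hx
        have a1 := (Finset.mem_filter.1 hx0).2
        have a2 := (Finset.mem_filter.1 (Finset.mem_coe.1 hx)).2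
        have a3 : x * g * x⁻¹ = x0 * g * x0⁻¹ := mul_left_cancel (a2.trans a1.symm)
        refine Finset.mem_coe.2 (Finset.mem_filter.2 ⟨Finset.mem_univ _,
          mem_centralizer_singleton_iff.2 ?_⟩)
        calc x0⁻¹ * x * g = x0⁻¹ * (x * g * x⁻¹) * x := by group
          _ = g * (x0⁻¹ * x) := by rw [a3]; group
      · intro x _ y _ hxy
        exact mul_left_cancel hxy
  calc Nat.card D ≤ J * (Nat.card (centralizer {g} : Subgroup G) * Nat.card T) :=
        h1.trans (Nat.mul_le_mul_left _ h2)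
    _ ≤ J * (J ^ (c + 1) * Nat.card (fanOf J g) * E) :=
        Nat.mul_le_mul_left _ (Nat.mul_le_mul (h.card_centralizer_le hg) hT)
    _ = _ := by ring

theorem card_class [Fintype G] [DecidablePred (· ∈ Z)] (hg : g ∉ Z)
    [DecidablePred (· ∈ cell J g)] [DecidablePred fun y => ∃ x, x * y * x⁻¹ ∈ cell J g] :
    (Finset.univ.filter fun y => y ∉ Z ∧ ∃ x, x * y * x⁻¹ ∈ cell J g).card *
      Nat.card (normalizer (cell J g)) =
    Nat.card G * (Finset.univ.filter fun y => y ∉ Z ∧ y ∈ cell J g).card := by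
  classical
  have h1 := Finset.sum_card_bipartiteAbove_eq_sum_card_bipartiteBelow
    (s := Finset.univ.filter fun y => y ∉ Z ∧ ∃ x, x * y * x⁻¹ ∈ cell J g)
    (t := (Finset.univ : Finset G)) (fun y x => x * y * x⁻¹ ∈ cell J g)
  rw [Finset.sum_const_nat (m := Nat.card (normalizer (cell J g))),
    Finset.sum_const_nat (m := (Finset.univ.filter fun y => y ∉ Z ∧ y ∈ cell J g).card)] at h1
  · rw [h1, Finset.card_univ, Nat.card_eq_fintype_card]
  · intro x _
    refine Finset.card_bij (fun y _ => x * y * x⁻¹) ?_ ?_ ?_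
    · intro y hy
      simp only [Finset.mem_bipartiteBelow, Finset.mem_filter, Finset.mem_univ, true_and] at hy ⊢
      exact ⟨h.conj_notMem hy.1.1 x, hy.2⟩
    · intro y _ z _ hyz
      simpa using hyz
    · intro z hz
      simp only [Finset.mem_bipartiteBelow, Finset.mem_filter, Finset.mem_univ, true_and] at hz ⊢
      have e : x * (x⁻¹ * z * x) * x⁻¹ = z := by group
      refine ⟨x⁻¹ * z * x, ⟨⟨?_, x, by rw [e]; exact hz.2⟩, by rw [e]; exact hz.2⟩, e⟩
      simpa using h.conj_notMem hz.1 x⁻¹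
  · intro y hy
    obtain ⟨hyZ, x0, hx0⟩ := (Finset.mem_filter.1 hy).2
    rw [Nat.card_eq_fintype_card, Fintype.card_subtype]
    refine Finset.card_bij (fun x _ => x * x0⁻¹) ?_ ?_ ?_
    · intro x hx
      simp only [Finset.mem_bipartiteAbove, Finset.mem_filter, Finset.mem_univ, true_and] at hx ⊢
      rw [h.mem_normalizer_cell hg hx0 (h.conj_notMem hyZ x0)]
      convert hx using 1; group
    · intro x _ z _ hxz
      simpa using hxz
    · intro z hz
      simp only [Finset.mem_bipartiteAbove, Finset.mem_filter, Finset.mem_univ, true_and] at hz ⊢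
      rw [h.mem_normalizer_cell hg hx0 (h.conj_notMem hyZ x0)] at hz
      exact ⟨z * x0, by convert hz using 1; group, by group⟩

omit [Finite G] in
theorem card_cell [Fintype G] [DecidablePred (· ∈ Z)] [DecidablePred (· ∈ cell J g)]
    [Decidable (g ∈ fanOf J g)] :
    (Finset.univ.filter fun y => y ∉ Z ∧ y ∈ cell J g).card +
      (if g ∈ fanOf J g then Nat.card Z else 0) = Nat.card (fanOf J g) := by
  classical
  have h1 : (Finset.univ.filter fun y => y ∈ cell J g).card = Nat.card (fanOf J g) := by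
    rw [Nat.card_eq_fintype_card, Fintype.card_subtype]
    refine Finset.card_bij (fun x _ => g⁻¹ * x) ?_ ?_ ?_
    · intro x hx
      exact Finset.mem_filter.2 ⟨Finset.mem_univ _, (Finset.mem_filter.1 hx).2⟩
    · intro x _ z _ hxz; simpa using hxz
    · intro z hz
      refine ⟨g * z, Finset.mem_filter.2 ⟨Finset.mem_univ _, ?_⟩, by group⟩
      change g⁻¹ * (g * z) ∈ fanOf J g
      simpa using hz
  rw [← h1, ← Finset.card_filter_add_card_filter_not (s := Finset.univ.filter
    fun y => y ∈ cell J g) (fun y => y ∉ Z), Finset.filter_filter, Finset.filter_filter]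
  congr 1
  · congr 1; ext y; simp [and_comm]
  · split_ifs with hg
    · rw [Nat.card_eq_fintype_card, Fintype.card_subtype]
      congr 1; ext y
      simp only [Finset.mem_filter, Finset.mem_univ, true_and, not_not, iff_and_self]
      exact fun hy => mul_mem (inv_mem hg) (h.le_fanOf g hy)
    · symm
      rw [Finset.card_eq_zero, Finset.filter_eq_empty_iff]
      rintro y - ⟨hy, hy'⟩
      apply hg
      have := mul_mem (h.le_fanOf g (not_not.1 hy')) (inv_mem (show g⁻¹ * y ∈ fanOf J g from hy))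
      simpa using this

end Hyp

/-- Jordan's counting argument. -/
theorem exists_index_le (J E c : ℕ) : ∃ C : ℕ, ∀ (G : Type u) [Group G] [Finite G]
    (Z : Subgroup G), Hyp J E c Z → Z.index ≤ C := by
  obtain ⟨C, hC⟩ := exists_bound_fund.{u} (J * E * J ^ (c + 1))
  refine ⟨C, fun G _ _ Z h => ?_⟩
  classical
  have := Fintype.ofFinite G
  let key : G → Set (Set G) := fun g => {X | ∃ x, X = cell J (x * g * x⁻¹)}
  let S := Finset.univ.filter fun y : G => y ∉ Z
  have hrep : ∀ ω : Set (Set G), ∃ g, ω ∈ S.image key → g ∉ Z ∧ key g = ω := by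
    intro ω
    by_cases hω : ω ∈ S.image key
    · obtain ⟨g, hg, rfl⟩ := Finset.mem_image.1 hω
      exact ⟨g, fun _ => ⟨(Finset.mem_filter.1 hg).2, rfl⟩⟩
    · exact ⟨1, fun h => absurd h hω⟩
  choose r hr using hrep
  have hkey : ∀ g ∉ Z, ∀ y ∉ Z, key y = key g ↔ ∃ x, x * y * x⁻¹ ∈ cell J g := by
    intro g hg y hy
    constructor
    · intro e
      have : cell J y ∈ key g := e ▸ ⟨1, by simp⟩
      obtain ⟨x, hx⟩ := this
      refine ⟨x⁻¹, (conj_mem_cell x).1 ?_⟩
      rw [← hx]; convert mem_cell_self (J := J) y using 1; group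
    · rintro ⟨x, hx⟩
      have e : ∀ z, cell J (z * (x * y * x⁻¹) * z⁻¹) = cell J (z * g * z⁻¹) := fun z =>
        h.cell_eq (h.conj_notMem hg z) ((conj_mem_cell z).2 hx)
          (h.conj_notMem (h.conj_notMem hy x) z)
      ext X
      constructor
      · rintro ⟨z, rfl⟩
        refine ⟨z * x⁻¹, ?_⟩
        rw [← e]; congr 1; group
      · rintro ⟨z, rfl⟩
        refine ⟨z * x, ?_⟩
        rw [← e]; congr 1; group
  have hG : (0 : ℚ) < Nat.card G := by exact_mod_cast Nat.card_pos
  have hZ : (0 : ℚ) < Nat.card Z := by exact_mod_cast Nat.card_pos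
  have hmul : ∀ X Y : Subgroup G, X ≤ Y → X.relIndex Y * Nat.card X = Nat.card Y := by
    intro X Y hXY
    have h3 := (X.subgroupOf Y).index_mul_card
    rwa [Nat.card_congr (subgroupOfEquivOfLe hXY).toEquiv] at h3
  refine hC (Set (Set G)) (S.image key)
    (fun ω => (fanOf J (r ω)).relIndex (normalizer (cell J (r ω))))
    (fun ω => Z.relIndex (normalizer (cell J (r ω)))) (fun ω => r ω ∈ fanOf J (r ω)) Z.index
    (Nat.pos_of_ne_zero index_ne_zero_of_finite) ?_ ?_ ?_
  · intro ω hω
    refine ⟨Nat.pos_of_ne_zero index_ne_zero_of_finite, ?_⟩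
    have h1 := h.card_normalizer_le (hr ω hω).1
    rw [← hmul _ _ (h.fanOf_le_normalizer (hr ω hω).1)] at h1
    exact Nat.le_of_mul_le_mul_right h1 Nat.card_pos
  · intro ω hω he
    have hg := (hr ω hω).1
    constructor
    · rw [← relIndex_mul_relIndex Z _ _ (h.le_fanOf _) (h.fanOf_le_normalizer hg)]
      refine Nat.mul_le_mul_right _ ?_
      have h0 : Z.relIndex (fanOf J (r ω)) ≠ 0 := index_ne_zero_of_finite
      have h1 : Z.relIndex (fanOf J (r ω)) ≠ 1 := fun h1 => hg (relIndex_eq_one.1 h1 he)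
      omega
    · rw [← relIndex_mul_index ((h.le_fanOf _).trans (h.fanOf_le_normalizer hg))]
      have h0 : (normalizer (cell J (r ω))).index ≠ 0 := index_ne_zero_of_finite
      have h1 : (normalizer (cell J (r ω))).index ≠ 1 := fun h1 =>
        h.ne_top _ (h.closure_cell_le hg) (fun hz => hg (hz (subset_closure (mem_cell_self _))))
          (top_le_iff.1 (index_eq_one.1 h1 ▸ normalizer_le_normalizer_closure _))
      have h2 : 0 < Z.relIndex (normalizer (cell J (r ω))) :=
        Nat.pos_of_ne_zero index_ne_zero_of_finite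
      nlinarith [Nat.pos_of_ne_zero h0, (by omega : 2 ≤ (normalizer (cell J (r ω))).index)]
  · have h1 : S.card + Nat.card Z = Nat.card G := by
      rw [Nat.card_eq_fintype_card, Fintype.card_subtype, Nat.card_eq_fintype_card,
        ← Finset.card_univ, add_comm]
      exact Finset.card_filter_add_card_filter_not _
    have h2 : (1 : ℚ) - 1 / Z.index = S.card / Nat.card G := by
      have a1 : (Z.index : ℚ) * Nat.card Z = Nat.card G := by exact_mod_cast Z.index_mul_card
      have a2 : (S.card : ℚ) + Nat.card Z = Nat.card G := by exact_mod_cast h1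
      have a3 : (Z.index : ℚ) ≠ 0 := by exact_mod_cast index_ne_zero_of_finite
      field_simp
      linear_combination a1 - Z.index * a2
    rw [h2, Finset.card_eq_sum_card_image key S, Nat.cast_sum, Finset.sum_div]
    refine Finset.sum_congr rfl fun ω hω => ?_
    obtain ⟨hg, hω'⟩ := hr ω hω
    set g := r ω
    have e1 : (S.filter fun y => key y = ω) =
        Finset.univ.filter fun y => y ∉ Z ∧ ∃ x, x * y * x⁻¹ ∈ cell J g := by
      ext y
      simp only [S, Finset.mem_filter, Finset.mem_univ, true_and, ← hω']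
      exact and_congr_right fun hy => hkey g hg y hy
    rw [e1]
    have a1 := congrArg (Nat.cast : ℕ → ℚ) (h.card_class hg)
    have a2 := congrArg (Nat.cast : ℕ → ℚ) (h.card_cell (g := g))
    have a3 := congrArg (Nat.cast : ℕ → ℚ) (hmul _ _ (h.fanOf_le_normalizer hg))
    have a4 := congrArg (Nat.cast : ℕ → ℚ)
      (hmul _ _ ((h.le_fanOf _).trans (h.fanOf_le_normalizer hg)))
    push_cast at a1 a2 a3 a4
    have hD : (0 : ℚ) < Nat.card (normalizer (cell J g)) := by exact_mod_cast Nat.card_pos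
    have hb : ((fanOf J g).relIndex (normalizer (cell J g)) : ℚ) ≠ 0 := by
      exact_mod_cast index_ne_zero_of_finite
    have hn : (Z.relIndex (normalizer (cell J g)) : ℚ) ≠ 0 := by
      exact_mod_cast index_ne_zero_of_finite
    have b1 : (1 : ℚ) / ((fanOf J g).relIndex (normalizer (cell J g)) : ℚ) =
        Nat.card (fanOf J g) / Nat.card (normalizer (cell J g)) := by
      field_simp; linarith
    have b2 : (1 : ℚ) / (Z.relIndex (normalizer (cell J g)) : ℚ) =
        Nat.card Z / Nat.card (normalizer (cell J g)) := by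
      field_simp; linarith
    rw [b1, b2, ← a2]
    split_ifs <;> field_simp <;> linarith

end Jordan

end Cfsg

set_option linter.all false in
theorem Cfsg.Rz.Grp_Fan_0 : True := by
  have := @_root_.Cfsg.Jordan.IsFan.eq_def.{0}
  have := @_root_.Cfsg.Jordan.IsFan.fun_cases
  have := @_root_.Cfsg.Jordan.fanOf.eq_def.{0}
  have := @_root_.Cfsg.Jordan.fanOf.eq_1.{0}
  have := @_root_.Cfsg.Jordan.fanOf.fun_cases
  have := @_root_.Cfsg.Jordan.Hyp.mk.congr_simp.{0}
  have := @_root_.Cfsg.Jordan.cell.eq_def.{0}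
  have := @_root_.Cfsg.Jordan.cell.fun_cases
  trivial
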