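import Cfsg.Agent.Grp.SylowEA

/-!
# Sylow `2`-subgroups of isometry groups of bilinear forms in odd characteristic

A `FormBlk B β` is an orthogonal direct summand of `(V, B)` isometric to `(M, β)`.  For a model
`(M, β)` with a complex structure `J`, a Sylow `2`-subgroup of the isometry group of `B` permutes
an orthogonal family of blocks whose complement contains no further block.
-/

set_option autoImplicit false

namespace Cfsg

open Subgroup

universe u v w w'

variable {F : Type u} [Field F] {V : Type v} [AddCommGroup V] [Module F V]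
  {M : Type w} [AddCommGroup M] [Module F M] {M' : Type w'} [AddCommGroup M'] [Module F M']

/-- The isometry group of a bilinear form. -/
def formIsom (B : LinearMap.BilinForm F V) : Subgroup (V ≃ₗ[F] V) where
  carrier := {g | ∀ u v, B (g u) (g v) = B u v}
  one_mem' _ _ := rfl
  mul_mem' {g h} hg hh u v := (hg (h u) (h v)).trans (hh u v)
  inv_mem' {g} hg u v := by simpa using (hg (g.symm u) (g.symm v)).symm

variable {B : LinearMap.BilinForm F V} {β : LinearMap.BilinForm F M}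
  {γ : LinearMap.BilinForm F M'}

namespace formIsom

@[simp] theorem map_map (g : formIsom B) (u v : V) : B (g.1 u) (g.1 v) = B u v := g.2 u v

@[simp] theorem mul_apply (g h : formIsom B) (v : V) : (g * h).1 v = g.1 (h.1 v) := rfl

@[simp] theorem one_apply (v : V) : (1 : formIsom B).1 v = v := rfl

@[simp] theorem apply_inv_apply (g : formIsom B) (v : V) : g.1 ((g⁻¹).1 v) = v :=
  g.1.apply_symm_apply v

@[simp] theorem inv_apply_apply (g : formIsom B) (v : V) : (g⁻¹).1 (g.1 v) = v :=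
  g.1.symm_apply_apply v

theorem ext {g h : formIsom B} (H : ∀ v, g.1 v = h.1 v) : g = h := Subtype.ext (LinearEquiv.ext H)

theorem congr {g h : formIsom B} (H : g = h) (v : V) : g.1 v = h.1 v := by rw [H]

instance [Finite V] : Finite (formIsom B) :=
  Finite.of_injective (fun g (v : V) => g.1 v) fun _ _ h => ext (congrFun h)

/-- An isometry from a linear map and its inverse. -/
def mk' (f g : V →ₗ[F] V) (h1 : ∀ v, f (g v) = v) (h2 : ∀ v, g (f v) = v)
    (h : ∀ u v, B (f u) (f v) = B u v) : formIsom B :=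
  ⟨LinearEquiv.ofLinearMap f g (LinearMap.ext h1) (LinearMap.ext h2), h⟩

@[simp] theorem mk'_apply (f g : V →ₗ[F] V) (h1 h2) (h : ∀ u v, B (f u) (f v) = B u v) (v : V) :
    (mk' f g h1 h2 h).1 v = f v := rfl

end formIsom

open formIsom

/-- An orthogonal direct summand of `(V, B)` isometric to `(M, β)`. -/
structure FormBlk (B : LinearMap.BilinForm F V) (β : LinearMap.BilinForm F M) where
  /-- the inclusion -/
  a : M →ₗ[F] V
  /-- the projection -/
  p : V →ₗ[F] M
  pa : ∀ m, p (a m) = m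
  isom : ∀ m m', B (a m) (a m') = β m m'
  orthL : ∀ m v, p v = 0 → B (a m) v = 0
  orthR : ∀ m v, p v = 0 → B v (a m) = 0

namespace FormBlk

attribute [simp] pa isom

variable (b : FormBlk B β)

theorem p_sub (v : V) : b.p (v - b.a (b.p v)) = 0 := by simp

theorem a_injective : Function.Injective b.a := Function.LeftInverse.injective b.pa

theorem form_a (m : M) (v : V) : B (b.a m) v = β m (b.p v) := by
  have := b.orthL m _ (b.p_sub v)
  rwa [map_sub, isom, sub_eq_zero] at this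

theorem form_a' (m : M) (v : V) : B v (b.a m) = β (b.p v) m := by
  have := b.orthR m _ (b.p_sub v)
  rwa [map_sub, LinearMap.sub_apply, isom, sub_eq_zero] at this

/-- Extension of an isometry of the block by the identity. -/
def ι : formIsom β →* formIsom B where
  toFun g := mk' (LinearMap.id - b.a ∘ₗ b.p + b.a ∘ₗ g.1.toLinearMap ∘ₗ b.p)
    (LinearMap.id - b.a ∘ₗ b.p + b.a ∘ₗ (g⁻¹).1.toLinearMap ∘ₗ b.p)
    (fun v => by simp) (fun v => by simp) (fun u v => by simp [form_a, form_a'])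
  map_one' := formIsom.ext fun v => by simp
  map_mul' g h := formIsom.ext fun v => by simp

theorem ι_apply (g : formIsom β) (v : V) :
    (b.ι g).1 v = v - b.a (b.p v) + b.a (g.1 (b.p v)) := rfl

@[simp] theorem ι_a (g : formIsom β) (m : M) : (b.ι g).1 (b.a m) = b.a (g.1 m) := by
  simp [ι_apply]

theorem ι_of_p {v : V} (hv : b.p v = 0) (g : formIsom β) : (b.ι g).1 v = v := by
  simp [ι_apply, hv]

@[simp] theorem p_ι (g : formIsom β) (v : V) : b.p ((b.ι g).1 v) = g.1 (b.p v) := by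
  simp [ι_apply]

theorem ι_injective : Function.Injective b.ι := fun g h H => formIsom.ext fun m => by
  simpa using congrArg b.p (formIsom.congr H (b.a m))

theorem isom_ext {g h : formIsom B} (h1 : ∀ m, g.1 (b.a m) = h.1 (b.a m))
    (h2 : ∀ v, b.p v = 0 → g.1 v = h.1 v) : g = h := formIsom.ext fun v => by
  have := h2 _ (b.p_sub v)
  rwa [map_sub, map_sub, h1, sub_left_inj] at this

/-- The isometries stabilising the block and its complement. -/
def stab : Subgroup (formIsom B) where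
  carrier := {g | ∀ v, g.1 (b.a (b.p v)) = b.a (b.p (g.1 v))}
  one_mem' _ := rfl
  mul_mem' {g h} hg hh v := by rw [mul_apply, hh, hg, mul_apply]
  inv_mem' {g} hg v := by
    have := hg ((g⁻¹).1 v)
    rw [apply_inv_apply] at this
    rw [← this, inv_apply_apply]

theorem mem_stab {g : formIsom B} :
    g ∈ b.stab ↔ ∀ v, g.1 (b.a (b.p v)) = b.a (b.p (g.1 v)) := Iff.rfl

theorem ι_mem_stab (g : formIsom β) : b.ι g ∈ b.stab := fun v => by simp

variable {b}

theorem a_p_apply_a {g : formIsom B} (hg : g ∈ b.stab) (m : M) :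
    b.a (b.p (g.1 (b.a m))) = g.1 (b.a m) := by rw [← hg, pa]

theorem p_apply_of_p {g : formIsom B} (hg : g ∈ b.stab) {v : V} (hv : b.p v = 0) :
    b.p (g.1 v) = 0 := b.a_injective (by rw [← hg, hv]; simp)

theorem exists_res {g : formIsom B} (hg : g ∈ b.stab) :
    ∃ h : formIsom β, ∀ m, g.1 (b.a m) = b.a (h.1 m) :=
  ⟨mk' (b.p ∘ₗ g.1.toLinearMap ∘ₗ b.a) (b.p ∘ₗ (g⁻¹).1.toLinearMap ∘ₗ b.a)
    (fun m => by
      have : b.a (b.p (g.1.symm (b.a m))) = g.1.symm (b.a m) := a_p_apply_a (inv_mem hg) m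
      simp [this])
    (fun m => by simp [a_p_apply_a hg, -InvMemClass.coe_inv])
    (fun m m' => by rw [← b.isom, ← b.isom m, ← map_map g (b.a m)]; simp [a_p_apply_a hg]),
    fun m => (a_p_apply_a hg m).symm⟩

theorem mem_range_ι {g : formIsom B} :
    g ∈ b.ι.range ↔ g ∈ b.stab ∧ ∀ v, b.p v = 0 → g.1 v = v := by
  refine ⟨?_, fun ⟨h1, h2⟩ => ?_⟩
  · rintro ⟨h, rfl⟩
    exact ⟨b.ι_mem_stab h, fun v hv => b.ι_of_p hv h⟩
  · obtain ⟨h, hh⟩ := exists_res h1
    exact ⟨h, b.isom_ext (fun m => by rw [hh, ι_a]) fun v hv => by rw [h2 v hv, b.ι_of_p hv]⟩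

theorem stab_le_normalizer : b.stab ≤ normalizer (b.ι.range : Set (formIsom B)) := by
  have key : ∀ g ∈ b.stab, ∀ x ∈ b.ι.range, g * x * g⁻¹ ∈ b.ι.range := fun g hg x hx =>
    mem_range_ι.mpr ⟨mul_mem (mul_mem hg (mem_range_ι.mp hx).1) (inv_mem hg), fun v hv => by
      rw [mul_apply, mul_apply, (mem_range_ι.mp hx).2 _ (p_apply_of_p (inv_mem hg) hv),
        apply_inv_apply]⟩
  refine fun g hg => mem_normalizer_iff.mpr fun x => ⟨key g hg x, fun h => ?_⟩
  simpa [mul_assoc] using key _ (inv_mem hg) _ h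

/-- The image of a block under an isometry. -/
def smul (g : formIsom B) (b : FormBlk B β) : FormBlk B β where
  a := g.1.toLinearMap ∘ₗ b.a
  p := b.p ∘ₗ (g⁻¹).1.toLinearMap
  pa m := by simp [-InvMemClass.coe_inv]
  isom m m' := by simp
  orthL m v hv := by
    rw [← apply_inv_apply g v]
    exact (map_map g _ _).trans (b.orthL m _ hv)
  orthR m v hv := by
    rw [← apply_inv_apply g v]
    exact (map_map g _ _).trans (b.orthR m _ hv)

@[simp] theorem smul_a (g : formIsom B) (m : M) : (smul g b).a m = g.1 (b.a m) := rfl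

@[simp] theorem smul_p (g : formIsom B) (v : V) : (smul g b).p v = b.p ((g⁻¹).1 v) := rfl

theorem smul_ι (g : formIsom B) (h : formIsom β) : (smul g b).ι h = g * b.ι h * g⁻¹ :=
  formIsom.ext fun v => by simp [ι_apply, -InvMemClass.coe_inv, -Subgroup.coe_mul]

/-- A block of a block. -/
def comp (b : FormBlk B β) (c : FormBlk β γ) : FormBlk B γ where
  a := b.a ∘ₗ c.a
  p := c.p ∘ₗ b.p
  pa m := by simp
  isom m m' := by simp
  orthL m v hv := (b.form_a _ v).trans (c.orthL m _ hv)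
  orthR m v hv := (b.form_a' _ v).trans (c.orthR m _ hv)

theorem comp_ι (c : FormBlk β γ) (h : formIsom γ) : (b.comp c).ι h = b.ι (c.ι h) :=
  formIsom.ext fun v => by simp [ι_apply, comp]; abel

/-- Orthogonal blocks. -/
def Orth (b : FormBlk B β) (c : FormBlk B γ) : Prop :=
  (∀ m, b.p (c.a m) = 0) ∧ ∀ m, c.p (b.a m) = 0

theorem Orth.symm {c : FormBlk B γ} (h : b.Orth c) : c.Orth b := ⟨h.2, h.1⟩

theorem Orth.ι_mem_stab {c : FormBlk B γ} (h : b.Orth c) (g : formIsom γ) : c.ι g ∈ b.stab :=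
  fun v => by simp [ι_apply, h.1, h.2]

theorem Orth.commute {c : FormBlk B γ} (h : b.Orth c) (g : formIsom β) (g' : formIsom γ) :
    Commute (b.ι g) (c.ι g') := formIsom.ext fun v => by
  simp [ι_apply, h.1, h.2, -Subgroup.coe_mul]; abel

/-- The idempotent of a block. -/
def e (b : FormBlk B β) : Module.End F V := b.a ∘ₗ b.p

theorem e_apply (v : V) : b.e v = b.a (b.p v) := rfl

theorem e_eq_of_comm [FiniteDimensional F M] {c : FormBlk B β}
    (h : ∀ v, b.a (b.p (c.a (c.p v))) = c.a (c.p (b.a (b.p v))))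
    (h1 : ∀ m, b.p (c.a (c.p (b.a m))) = m) : b.e = c.e := by
  have h2 := (LinearMap.comp_eq_id_comm F M).mp
    (show (b.p ∘ₗ c.a) ∘ₗ (c.p ∘ₗ b.a) = LinearMap.id from LinearMap.ext h1)
  ext v
  have h3 := h (b.a (b.p v))
  have h4 := h (c.a (c.p v))
  have h5 : c.p (b.a (b.p (c.a (c.p v)))) = c.p v := LinearMap.congr_fun h2 (c.p v)
  rw [h1, pa] at h3
  rw [pa, h5] at h4
  rw [e_apply, e_apply, h3, ← h, h4]

/-- The `-1`-eigenspace of an involution. -/
noncomputable def ofInvolution (h2 : (2 : F) ≠ 0) (t : formIsom B) (ht : t * t = 1) :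
    FormBlk B (B.restrict (LinearMap.ker (t.1.toLinearMap + LinearMap.id))) where
  a := Submodule.subtype _
  p := LinearMap.codRestrict _ ((2 : F)⁻¹ • (LinearMap.id - t.1.toLinearMap)) fun v => by
    have : t.1 (t.1 v) = v := formIsom.congr ht v
    simp [this, smul_sub]
  pa m := Subtype.ext (by
    have : t.1 m = -m := eq_neg_of_add_eq_zero_left m.2
    simp [this, ← two_smul F, smul_smul, h2])
  isom _ _ := rfl
  orthL m v hv := by
    have h1 : t.1 m = -m := eq_neg_of_add_eq_zero_left m.2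
    have h3 : v = t.1 v := by simpa [h2, sub_eq_zero] using congrArg Subtype.val hv
    have h4 := map_map t m v
    rw [← h3, h1, map_neg, LinearMap.neg_apply, neg_eq_iff_add_eq_zero, ← two_mul] at h4
    exact (mul_eq_zero.mp h4).resolve_left h2
  orthR m v hv := by
    have h1 : t.1 m = -m := eq_neg_of_add_eq_zero_left m.2
    have h3 : v = t.1 v := by simpa [h2, sub_eq_zero] using congrArg Subtype.val hv
    have h4 := map_map t v m
    rw [← h3, h1, map_neg, neg_eq_iff_add_eq_zero, ← two_mul] at h4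
    exact (mul_eq_zero.mp h4).resolve_left h2

end FormBlk

open FormBlk

theorem formIsom.isSquare_of_commute (h2 : (2 : F) ≠ 0) {t y : formIsom B} (ht : t * t = 1)
    (hc : Commute y t) (hy : ∀ v, t.1 v = -v → y.1 (y.1 v) = -v) : IsSquare t := by
  let b := ofInvolution h2 t ht
  have hs : y ∈ b.stab := fun v => by
    have : y.1 (t.1 v) = t.1 (y.1 v) := formIsom.congr hc.eq v
    simp [b, ofInvolution, this]
  obtain ⟨h, hh⟩ := exists_res hs
  refine ⟨b.ι h, b.isom_ext (fun m => ?_) fun v hv => ?_⟩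
  · have : t.1 m = -m := eq_neg_of_add_eq_zero_left m.2
    rw [mul_apply, ι_a, ι_a, ← hh, ← hh]
    exact this.trans (hy _ this).symm
  · rw [mul_apply, b.ι_of_p hv, b.ι_of_p hv]
    have h3 : v = t.1 v := by simpa [b, ofInvolution, h2, sub_eq_zero] using congrArg Subtype.val hv
    exact h3.symm

theorem exists_lt_le_normalizer {G : Type*} [Group G] [Finite G] {p : ℕ} [Fact p.Prime]
    {H S : Subgroup G} (hS : IsPGroup p S) (h : H < S) :
    ∃ N, H ≤ N ∧ N < S ∧ S ≤ normalizer (N : Set G) := by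
  obtain ⟨N, h1, h2⟩ := (Set.toFinite {N | N < S}).exists_le_maximal h
  refine ⟨N, h1, h2.1, ?_⟩
  have h3 := lt_inf_normalizer_of_isPGroup hS h2.1
  exact inf_eq_left.mp (of_not_not fun hne => h3.not_ge (h2.2 (lt_of_le_of_ne inf_le_left hne) h3.le))

/-- A model block: `J` is a complex structure commuting with no non-scalar involution. -/
structure IsCxModel (β : LinearMap.BilinForm F M) (J : formIsom β) : Prop where
  sq : ∀ m, J.1 (J.1 m) = -m
  irr : ∀ t : formIsom β, t * t = 1 → Commute t J → (∀ m, t.1 m = m) ∨ ∀ m, t.1 m = -m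

namespace IsCxModel

variable {J : formIsom β}

theorem ι_sq (hJ : IsCxModel β J) (b : FormBlk B β) (v : V) :
    (b.ι J * b.ι J).1 v = v - (2 : F) • b.a (b.p v) := by
  simp [ι_apply, hJ.sq, two_smul, -Subgroup.coe_mul]; abel

theorem ι_inv (hJ : IsCxModel β J) (b : FormBlk B β) (v : V) :
    ((b.ι J)⁻¹).1 v = v - b.a (b.p v) - b.a (J.1 (b.p v)) := by
  have : ∀ m, (J⁻¹).1 m = -J.1 m := fun m => J.1.injective (by simp [hJ.sq, -InvMemClass.coe_inv])
  rw [← map_inv, ι_apply, this, map_neg, sub_eq_add_neg (_ - _)]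

theorem pow_four (hJ : IsCxModel β J) : J ^ 2 ^ 2 = 1 :=
  formIsom.ext fun m => by simp [pow_succ, hJ.sq, -Subgroup.coe_mul]

theorem mem_stab_iff (h2 : (2 : F) ≠ 0) (hJ : IsCxModel β J) {b : FormBlk B β} {g : formIsom B} :
    g ∈ b.stab ↔ Commute g (b.ι J * b.ι J) := by
  refine ⟨fun h => formIsom.ext fun v => ?_, fun h v => ?_⟩
  · rw [mul_apply, hJ.ι_sq, mul_apply _ g, hJ.ι_sq, map_sub, map_smul, h]
  · have := formIsom.congr h.eq v
    rw [mul_apply, hJ.ι_sq, mul_apply _ g, hJ.ι_sq, map_sub, map_smul, sub_right_inj] at this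
    exact smul_right_injective _ h2 this

theorem eq_or_orth_of_mem_stab [FiniteDimensional F M] (h2 : (2 : F) ≠ 0) (hJ : IsCxModel β J)
    {b c : FormBlk B β} (h : c.ι J ∈ b.stab) : b.e = c.e ∨ b.Orth c := by
  have h1 := (hJ.mem_stab_iff h2).mp h
  have h3 : b.ι J * b.ι J ∈ c.stab := (hJ.mem_stab_iff h2).mpr (h1.symm.mul_right h1.symm)
  have hc : ∀ v, b.a (b.p (c.a (c.p v))) = c.a (c.p (b.a (b.p v))) := fun v => by
    have := h3 v
    rw [hJ.ι_sq, hJ.ι_sq, map_sub, map_sub, map_smul, map_smul, sub_right_inj] at this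
    exact smul_right_injective _ h2 this
  obtain ⟨t, ht⟩ := exists_res h3
  have h4 : t * t = 1 := formIsom.ext fun m => c.a_injective (by
    rw [mul_apply, ← ht, ← ht, ← mul_apply, ← map_mul, ← map_mul, ← pow_two, ← pow_two, ← pow_mul,
      show 2 * 2 = 2 ^ 2 from rfl, hJ.pow_four, map_one, one_apply, one_apply])
  have h5 : Commute t J := formIsom.ext fun m => c.a_injective (by
    rw [mul_apply, mul_apply, ← ht, ← ι_a, ← ι_a, ← ht]
    exact (formIsom.congr h1.eq _).symm)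
  rcases hJ.irr t h4 h5 with h6 | h6
  · have h7 : ∀ m, b.p (c.a m) = 0 := fun m => b.a_injective (by
      have := ht m
      rw [h6, hJ.ι_sq, sub_eq_self] at this
      simpa [h2] using this)
    refine Or.inr ⟨h7, fun m => c.a_injective ?_⟩
    simpa [h7] using (hc (b.a m)).symm
  · refine Or.inl (e_eq_of_comm (fun v => (hc v).symm) fun m => ?_).symm
    have := ht m
    rw [h6, hJ.ι_sq, map_neg, sub_eq_iff_eq_add, ← neg_add_eq_iff_eq_add, neg_neg,
      ← two_smul F] at this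
    rw [← smul_right_injective _ h2 this, pa]

theorem mem_stab_of_e_eq {b : FormBlk B β} {g : formIsom B} (h : b.e = (smul g b).e) :
    g ∈ b.stab := fun v => by
  have := LinearMap.congr_fun h (g.1 v)
  rw [e_apply, e_apply, smul_a, smul_p, inv_apply_apply] at this
  exact this.symm

/-- Two blocks whose complex structures lie in a common `2`-group coincide or are orthogonal. -/
theorem eq_or_orth [Finite V] [FiniteDimensional F M] (h2 : (2 : F) ≠ 0) (hJ : IsCxModel β J)
    {S : Subgroup (formIsom B)} (hS : IsPGroup 2 S) {b c : FormBlk B β} (hb : b.ι J ∈ S)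
    (hc : c.ι J ∈ S) : b.e = c.e ∨ b.Orth c := by
  induction' hn : Nat.card S using Nat.strong_induction_on with n ih generalizing S b c
  rcases (zpowers_le.mpr hb).eq_or_lt with h | h
  · obtain ⟨k, hk⟩ := h.ge hc
    exact hJ.eq_or_orth_of_mem_stab h2 (hk ▸ zpow_mem (b.ι_mem_stab J) k)
  obtain ⟨N, h3, h4, h5⟩ := exists_lt_le_normalizer hS h
  have key : ∀ g ∈ S, g ∈ b.stab ∨ b.Orth (smul g b) := fun g hg =>
    (ih _ (hn ▸ card_lt_of_lt h4) (hS.to_le h4.le) (h3 (mem_zpowers _))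
      (smul_ι g J ▸ conj_mem_of_mem_normalizer (h5 hg) (h3 (mem_zpowers _))) rfl).imp_left
      mem_stab_of_e_eq
  rcases key _ hc with h6 | h6
  · exact hJ.eq_or_orth_of_mem_stab h2 h6
  have h7 : ∀ m, b.p (c.a (c.p (b.a m))) = m := fun m => by
    have e1 := h6.1 m
    have e2 := h6.2 m
    rw [smul_a, ι_apply, map_add, map_sub, pa] at e1
    rw [smul_p, hJ.ι_inv, map_sub, map_sub, pa] at e2
    refine smul_right_injective _ h2 ?_
    linear_combination (norm := module) -e1 - e2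
  refine Or.inl ?_
  rcases key _ (mul_mem hc hc) with h8 | h8
  · refine e_eq_of_comm (fun v => smul_right_injective _ h2 ?_) h7
    have := h8 v
    rw [hJ.ι_sq, hJ.ι_sq, map_sub, map_sub, map_smul, map_smul, sub_right_inj] at this
    exact this.symm
  · have h9 : ∀ m : M, m = 0 := fun m => by
      have := h8.1 m
      rwa [smul_a, hJ.ι_sq, map_sub, map_smul, h7, pa, two_smul, sub_add_cancel_left,
        neg_eq_zero] at this
    ext v
    rw [e_apply, e_apply, h9 (b.p v), h9 (c.p v), map_zero, map_zero]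

end IsCxModel

/-- An orthogonal decomposition into blocks of type `β` and a remaining block of type `γ`. -/
structure FormDecomp (B : LinearMap.BilinForm F V) (β : LinearMap.BilinForm F M)
    (γ : LinearMap.BilinForm F M') (I : Type v) [Fintype I] where
  /-- the blocks -/
  b : I → FormBlk B β
  /-- the remaining block -/
  b₀ : FormBlk B γ
  orth : ∀ i j, i ≠ j → ∀ m, (b i).p ((b j).a m) = 0
  orth₀ : ∀ i, (b i).Orth b₀
  sum : ∀ v, b₀.a (b₀.p v) + ∑ i, (b i).a ((b i).p v) = v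

namespace FormDecomp

variable {I : Type v} [Fintype I]

/-- Completing an orthogonal family of blocks to a decomposition. -/
noncomputable def ofOrth (b : I → FormBlk B β) (h : ∀ i j, i ≠ j → ∀ m, (b i).p ((b j).a m) = 0) :
    FormDecomp B β (B.restrict (⨅ i, LinearMap.ker (b i).p)) I :=
  have key : ∀ i (f : I → M), (b i).p (∑ j, (b j).a (f j)) = f i := fun i f => by
    rw [map_sum, Finset.sum_eq_single i (fun j _ hj => h i j hj.symm _) (by simp), pa]
  { b := b
    b₀ :=
      { a := Submodule.subtype _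
        p := LinearMap.codRestrict _ (LinearMap.id - ∑ i, (b i).e) fun v => by
          simp [Submodule.mem_iInf, e_apply, key, -map_sum]
        pa := fun m => Subtype.ext (by
          have : ∀ i, (b i).p m = 0 := (Submodule.mem_iInf _).mp m.2
          simp [e_apply, this])
        isom := fun _ _ => rfl
        orthL := fun m v hv => by
          have h1 : ∀ i, (b i).p m = 0 := (Submodule.mem_iInf _).mp m.2
          have h2 : v = ∑ i, (b i).a ((b i).p v) := by
            simpa [sub_eq_zero, e_apply] using congrArg Subtype.val hv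
          rw [h2, map_sum]
          exact Finset.sum_eq_zero fun i _ => (b i).orthR _ _ (h1 i)
        orthR := fun m v hv => by
          have h1 : ∀ i, (b i).p m = 0 := (Submodule.mem_iInf _).mp m.2
          have h2 : v = ∑ i, (b i).a ((b i).p v) := by
            simpa [sub_eq_zero, e_apply] using congrArg Subtype.val hv
          rw [h2, map_sum, LinearMap.sum_apply]
          exact Finset.sum_eq_zero fun i _ => (b i).orthL _ _ (h1 i) }
    orth := h
    orth₀ := fun i => ⟨fun m => (Submodule.mem_iInf _).mp m.2 i, fun m => Subtype.ext (by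
      have : ∑ j, (b j).a ((b j).p ((b i).a m)) = (b i).a m := by
        rw [Finset.sum_eq_single i (fun j _ hj => by rw [h j i hj, map_zero]) (by simp), pa]
      simp [e_apply, this])⟩
    sum := fun v => by simp [e_apply] }

variable (D : FormDecomp B β γ I)

theorem p_sum (i : I) (m : M') (f : I → M) :
    (D.b i).p (D.b₀.a m + ∑ j, (D.b j).a (f j)) = f i := by
  rw [map_add, (D.orth₀ i).1, zero_add, map_sum,
    Finset.sum_eq_single i (fun j _ hj => D.orth i j hj.symm _) (by simp), pa]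

theorem p₀_sum (m : M') (f : I → M) : D.b₀.p (D.b₀.a m + ∑ j, (D.b j).a (f j)) = m := by
  simp [(D.orth₀ _).2]

theorem eq_of_p {v w : V} (h0 : D.b₀.p v = D.b₀.p w) (h : ∀ i, (D.b i).p v = (D.b i).p w) :
    v = w := by
  rw [← D.sum v, ← D.sum w, h0]
  simp only [h]

theorem form_eq (v w : V) :
    B v w = γ (D.b₀.p v) (D.b₀.p w) + ∑ i, β ((D.b i).p v) ((D.b i).p w) := by
  conv_lhs => rw [← D.sum v]
  simp [form_a]

include D in
theorem finrank_eq [FiniteDimensional F M] [FiniteDimensional F M'] :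
    Module.finrank F V = Module.finrank F M' + Fintype.card I * Module.finrank F M := by
  have e : V ≃ₗ[F] M' × (I → M) := LinearEquiv.ofBijective
    (D.b₀.p.prod (LinearMap.pi fun i => (D.b i).p))
    ⟨fun v w h => D.eq_of_p (congrArg Prod.fst h) (congrFun (congrArg Prod.snd h)),
      fun x => ⟨_, Prod.ext (D.p₀_sum x.1 x.2) (funext fun i => D.p_sum i x.1 x.2)⟩⟩
  rw [e.finrank_eq, Module.finrank_prod, Module.finrank_pi_fintype]
  simp

/-- The linear map permuting the blocks by `σ` and acting on each of them by `h`. -/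
noncomputable def lin (σ : Equiv.Perm I) (h : formIsom β) : V →ₗ[F] V :=
  D.b₀.e + ∑ i, (D.b i).a ∘ₗ h.1.toLinearMap ∘ₗ (D.b (σ⁻¹ i)).p

theorem lin_apply (σ : Equiv.Perm I) (h : formIsom β) (v : V) : D.lin σ h v =
    D.b₀.a (D.b₀.p v) + ∑ i, (D.b i).a (h.1 ((D.b (σ⁻¹ i)).p v)) := by simp [lin, e_apply]

theorem p_lin (σ : Equiv.Perm I) (h : formIsom β) (i : I) (v : V) :
    (D.b i).p (D.lin σ h v) = h.1 ((D.b (σ⁻¹ i)).p v) := by rw [lin_apply, p_sum]

theorem p₀_lin (σ : Equiv.Perm I) (h : formIsom β) (v : V) :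
    D.b₀.p (D.lin σ h v) = D.b₀.p v := by rw [lin_apply, p₀_sum]

theorem lin_lin (σ σ' : Equiv.Perm I) (h h' : formIsom β) (v : V) :
    D.lin σ h (D.lin σ' h' v) = D.lin (σ * σ') (h * h') v :=
  D.eq_of_p (by simp only [p₀_lin]) fun i => by simp only [p_lin]; rfl

theorem lin_one (v : V) : D.lin 1 1 v = v :=
  D.eq_of_p (D.p₀_lin _ _ _) fun i => D.p_lin _ _ i v

/-- Permuting the blocks and acting diagonally. -/
noncomputable def wr : Equiv.Perm I × formIsom β →* formIsom B where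
  toFun x := mk' (D.lin x.1 x.2) (D.lin x.1⁻¹ x.2⁻¹) (fun v => by simp [lin_lin, lin_one])
    (fun v => by simp [lin_lin, lin_one]) fun u v => by
      rw [D.form_eq, D.form_eq u, ← Equiv.sum_comp x.1⁻¹ fun i => β ((D.b i).p u) ((D.b i).p v)]
      simp only [p₀_lin, p_lin, formIsom.map_map]
  map_one' := formIsom.ext D.lin_one
  map_mul' x y := formIsom.ext fun v => (D.lin_lin _ _ _ _ v).symm

/-- Permuting the blocks. -/
noncomputable def τ : Equiv.Perm I →* formIsom B := D.wr.comp (MonoidHom.inl _ _)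

theorem p_τ (σ : Equiv.Perm I) (i : I) (v : V) :
    (D.b i).p ((D.τ σ).1 v) = (D.b (σ⁻¹ i)).p v := D.p_lin σ 1 i v

theorem p₀_τ (σ : Equiv.Perm I) (v : V) : D.b₀.p ((D.τ σ).1 v) = D.b₀.p v := D.p₀_lin σ 1 v

theorem τ_a (σ : Equiv.Perm I) (i : I) (m : M) : (D.τ σ).1 ((D.b i).a m) = (D.b (σ i)).a m :=
  D.eq_of_p (by rw [p₀_τ, (D.orth₀ _).2, (D.orth₀ _).2]) fun j => by
    rw [p_τ]
    rcases eq_or_ne j (σ i) with rfl | h
    · simp
    · rw [D.orth _ _ h, D.orth _ _ (fun h' => h (by rw [← h']; simp))]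

theorem τ_conj (σ : Equiv.Perm I) (i : I) (h : formIsom β) :
    D.τ σ * (D.b i).ι h * (D.τ σ)⁻¹ = (D.b (σ i)).ι h := by
  rw [mul_inv_eq_iff_eq_mul]
  refine formIsom.ext fun v => ?_
  rw [mul_apply, mul_apply, ι_apply, ι_apply, p_τ, map_add, map_sub, τ_a, τ_a]
  simp

theorem isSquare_τ (h2 : (2 : F) ≠ 0) {J : formIsom β} (hJ : ∀ m, J.1 (J.1 m) = -m)
    {σ : Equiv.Perm I} (hσ : σ ^ 2 = 1) : IsSquare (D.τ σ) := by
  refine isSquare_of_commute h2 (y := D.wr (1, J)) (by rw [← map_mul, ← pow_two, hσ, map_one])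
    (Commute.map (by simp [Commute, SemiconjBy]) D.wr) fun v hv => ?_
  have h0 : D.b₀.p v = 0 := by
    have := D.p₀_τ σ v
    rw [hv, map_neg, neg_eq_iff_add_eq_zero, ← two_smul F] at this
    exact (smul_eq_zero.mp this).resolve_left h2
  refine D.eq_of_p ?_ fun i => ?_
  · exact (D.p₀_lin _ _ _).trans ((D.p₀_lin _ _ _).trans (by simp [h0]))
  · exact (D.p_lin _ _ _ _).trans ((congrArg _ (D.p_lin _ _ _ _)).trans (by simp [hJ]))

theorem mem_stab₀ {g : formIsom B} {σ : Equiv.Perm I}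
    (h : ∀ i v, g.1 ((D.b i).e v) = (D.b (σ i)).e (g.1 v)) : g ∈ D.b₀.stab := fun v => by
  rw [eq_sub_of_add_eq (D.sum v), eq_sub_of_add_eq (D.sum (g.1 v)), map_sub, map_sum,
    ← Equiv.sum_comp σ fun i => (D.b i).a ((D.b i).p (g.1 v))]
  exact congrArg _ (Finset.sum_congr rfl fun i _ => h i v)

theorem iInf_stab_le : ⨅ i, (D.b i).stab ≤ (⨆ i, (D.b i).ι.range) ⊔ D.b₀.ι.range := by
  classical
  suffices h : ∀ (s : Finset I), ∀ g ∈ ⨅ i, (D.b i).stab,
      (∀ i ∉ s, ∀ m, g.1 ((D.b i).a m) = (D.b i).a m) →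
      g ∈ (⨆ i, (D.b i).ι.range) ⊔ D.b₀.ι.range from
    fun g hg => h Finset.univ g hg fun i hi => absurd (Finset.mem_univ i) hi
  intro s
  induction s using Finset.induction_on with
  | empty =>
    refine fun g hg h => mem_sup_right (mem_range_ι.mpr
      ⟨D.mem_stab₀ (σ := 1) fun i => mem_iInf.mp hg i, fun v hv => ?_⟩)
    rw [← D.sum v, hv]
    simp [h]
  | insert i s _ ih =>
    intro g hg h
    obtain ⟨k, hk⟩ := exists_res (mem_iInf.mp hg i)
    have h1 : (D.b i).ι k ∈ (⨆ i, (D.b i).ι.range) ⊔ D.b₀.ι.range :=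
      mem_sup_left (mem_iSup_of_mem i ⟨k, rfl⟩)
    refine (mul_mem_cancel_left (inv_mem h1)).mp (ih _ (mul_mem (inv_mem (mem_iInf.mpr fun j => ?_))
      hg) fun j hj m => ?_)
    · rcases eq_or_ne j i with rfl | hij
      · exact ι_mem_stab _ _
      · exact Orth.ι_mem_stab ⟨D.orth _ _ hij, D.orth _ _ hij.symm⟩ k
    · rw [mul_apply, ← map_inv]
      rcases eq_or_ne j i with rfl | hij
      · rw [hk, ι_a, inv_apply_apply]
      · rw [h j (by simp [hij, hj]), ι_of_p _ (D.orth _ _ hij.symm _)]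

theorem iInf_stab_le_stab₀ : ⨅ i, (D.b i).stab ≤ D.b₀.stab := fun _ hg =>
  D.mem_stab₀ (σ := 1) fun i => mem_iInf.mp hg i

theorem τ_mem_normalizer (σ : Equiv.Perm I) :
    D.τ σ ∈ normalizer ((⨅ i, (D.b i).stab : Subgroup (formIsom B)) : Set (formIsom B)) := by
  have key : ∀ σ : Equiv.Perm I, ∀ g ∈ ⨅ i, (D.b i).stab,
      D.τ σ * g * (D.τ σ)⁻¹ ∈ ⨅ i, (D.b i).stab := fun σ g hg => mem_iInf.mpr fun i v => by
    obtain ⟨i, rfl⟩ := σ.surjective i
    rw [← map_inv, mul_apply, mul_apply, mul_apply, mul_apply, τ_a, p_τ,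
      show σ⁻¹ (σ i) = i from σ.symm_apply_apply i,
      ← τ_a, ← mem_iInf.mp hg i, p_τ, inv_inv]
  refine mem_normalizer_iff.mpr fun x => ⟨key σ x, fun h => ?_⟩
  simpa [mul_assoc] using key σ⁻¹ _ h

end FormDecomp

theorem IsCxModel.exists_decomp [Finite V] [FiniteDimensional F M] [Nontrivial M]
    (h2 : (2 : F) ≠ 0) {J : formIsom β} (hJ : IsCxModel β J) (B : LinearMap.BilinForm F V) :
    ∃ (I : Type v) (_ : Fintype I) (V₀ : Submodule F V) (D : FormDecomp B β (B.restrict V₀) I),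
      IsEmpty (FormBlk (B.restrict V₀) β) ∧ ¬ 2 ∣ (D.τ.range ⊔ ⨅ i, (D.b i).stab).index := by
  obtain ⟨S⟩ : Nonempty (Sylow 2 (formIsom B)) := inferInstance
  have : Finite (Module.End F V) := Finite.of_injective _ DFunLike.coe_injective
  let I := {e : Module.End F V // ∃ b : FormBlk B β, b.ι J ∈ S ∧ b.e = e}
  have : Fintype I := Fintype.ofFinite I
  choose b hb hbe using fun i : I => i.2
  have ho : ∀ i j, i ≠ j → ∀ m, (b i).p ((b j).a m) = 0 := fun i j hij =>
    ((hJ.eq_or_orth h2 S.isPGroup' (hb i) (hb j)).resolve_left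
      fun h => hij (Subtype.ext (by rw [← hbe, ← hbe, h]))).1
  let D := FormDecomp.ofOrth b ho
  have hperm : ∀ s ∈ S, ∃ σ : Equiv.Perm I, ∀ i v, s.1 ((D.b i).e v) = (D.b (σ i)).e (s.1 v) := by
    intro s hs
    let f : I → I := fun i => ⟨(smul s (b i)).e, smul s (b i),
      smul_ι s J ▸ S.1.mul_mem (S.1.mul_mem hs (hb i)) (S.1.inv_mem hs), rfl⟩
    have hf : ∀ i v, s.1 ((b i).e v) = (b (f i)).e (s.1 v) := fun i v => by
      rw [hbe (f i)]
      simp [f, e_apply, -InvMemClass.coe_inv]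
    refine ⟨Equiv.ofBijective f (Finite.injective_iff_bijective.mp fun i j hij => ?_), hf⟩
    refine Subtype.ext ?_
    rw [← hbe, ← hbe]
    ext v
    exact s.1.injective (by rw [hf, hf, hij])
  refine ⟨I, this, _, D, ⟨fun c => ?_⟩, not_dvd_index_of_sylow_le S fun s hs => ?_⟩
  · have h1 : (S : Subgroup (formIsom B)) ≤ normalizer (D.b₀.ι.range : Set (formIsom B)) :=
      fun s hs => stab_le_normalizer (D.mem_stab₀ (hperm s hs).choose_spec)
    obtain ⟨_, ⟨g, rfl⟩, hg⟩ := exists_conj_mem_of_not_dvd_relIndex S.isPGroup'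
      (not_dvd_relIndex_of_normalizes S.not_dvd_index h1) (x := D.b₀.ι (c.ι J)) ⟨_, rfl⟩ (k := 2)
      (by rw [← map_pow, ← map_pow, hJ.pow_four, map_one, map_one])
    rw [← map_inv, ← map_mul, ← map_mul, ← smul_ι, ← comp_ι] at hg
    obtain ⟨m, hm⟩ := exists_ne (0 : M)
    let i : I := ⟨_, _, hg, rfl⟩
    have h3 := LinearMap.congr_fun (hbe i) ((b i).a m)
    have h4 : D.b₀.p ((b i).a m) = 0 := (D.orth₀ i).2 m
    rw [e_apply, pa] at h3
    refine hm ((b i).a_injective (h3.trans ?_))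
    change D.b₀.a ((smul g c).a ((smul g c).p (D.b₀.p ((b i).a m)))) = _
    simp only [h4, map_zero]
  · obtain ⟨σ, hσ⟩ := hperm s hs
    refine (mul_mem_cancel_left (mem_sup_left (MonoidHom.mem_range.mpr ⟨σ⁻¹, rfl⟩))).mp
      (mem_sup_right (mem_iInf.mpr fun i v => ?_))
    rw [mul_apply, mul_apply, D.p_τ, ← e_apply, hσ, e_apply, D.τ_a]
    simp

/-- The structure of a Sylow `2`-subgroup of an isometry group. -/
theorem IsCxModel.exists_sylow [Finite V] [FiniteDimensional F M] [Nontrivial M]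
    (h2 : (2 : F) ≠ 0) {J : formIsom β} (hJ : IsCxModel β J) (B : LinearMap.BilinForm F V) :
    ∃ (I : Type v) (_ : Fintype I) (V₀ : Submodule F V) (D : FormDecomp B β (B.restrict V₀) I)
      (T : Sylow 2 (Equiv.Perm I)) (S : Subgroup (formIsom B)),
      IsEmpty (FormBlk (B.restrict V₀) β) ∧ IsPGroup 2 S ∧ ¬ 2 ∣ S.index ∧
      (T : Subgroup _).map D.τ ≤ S ∧
      S ≤ (T : Subgroup _).map D.τ ⊔ ((⨆ i, S ⊓ (D.b i).ι.range) ⊔ S ⊓ D.b₀.ι.range) ∧
      (∀ i, ¬ 2 ∣ S.relIndex (D.b i).ι.range) ∧ ¬ 2 ∣ S.relIndex D.b₀.ι.range := by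
  obtain ⟨I, _, V₀, D, h0, hi⟩ := hJ.exists_decomp h2 B
  obtain ⟨T⟩ : Nonempty (Sylow 2 (Equiv.Perm I)) := inferInstance
  set K := ⨅ i, (D.b i).stab
  have hn : D.τ.range ≤ normalizer (K : Set (formIsom B)) := by
    rintro _ ⟨σ, rfl⟩
    exact D.τ_mem_normalizer σ
  have hT : (T : Subgroup _).map D.τ ≤ D.τ.range := map_le_range _ _
  obtain ⟨S, hS, h3, h4, h5⟩ := exists_sylow_le_of_le (T.isPGroup'.map D.τ)
    (le_sup_left (b := K))
  have h6 : ¬ 2 ∣ S.index := by
    rw [← relIndex_mul_index h4, ← relIndex_mul_index (sup_le_sup_right hT K)]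
    refine mt Nat.prime_two.dvd_mul.mp (not_or.mpr ⟨h5, mt Nat.prime_two.dvd_mul.mp
      (not_or.mpr ⟨fun h => T.not_dvd_index ?_, hi⟩)⟩)
    have := (h.trans (relIndex_sup_sup_dvd hT hn))
    rw [MonoidHom.range_eq_map] at this
    exact relIndex_top_right (T : Subgroup (Equiv.Perm I)) ▸ this.trans (relIndex_map_dvd _ _ _)
  have h7 : ¬ 2 ∣ S.relIndex K :=
    not_dvd_relIndex_of_le_normalizer h5 le_sup_right (sup_le (hT.trans hn) le_normalizer)
  have h8 : ∀ i, (D.b i).ι.range ≤ K := by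
    rintro i _ ⟨k, rfl⟩
    refine mem_iInf.mpr fun j => ?_
    rcases eq_or_ne j i with rfl | hij
    · exact ι_mem_stab _ _
    · exact Orth.ι_mem_stab ⟨D.orth _ _ hij, D.orth _ _ hij.symm⟩ k
  have h9 : D.b₀.ι.range ≤ K := by
    rintro _ ⟨k, rfl⟩
    exact mem_iInf.mpr fun j => (D.orth₀ j).ι_mem_stab k
  have h10 : ∀ i, K ≤ normalizer ((D.b i).ι.range : Set (formIsom B)) := fun i =>
    (iInf_le _ i).trans stab_le_normalizer
  have h11 : K ≤ normalizer (D.b₀.ι.range : Set (formIsom B)) :=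
    D.iInf_stab_le_stab₀.trans stab_le_normalizer
  refine ⟨I, _, V₀, D, T, S, h0, hS, h6, h3, ?_,
    fun i => not_dvd_relIndex_of_le_normalizer h7 (h8 i) (h10 i),
    not_dvd_relIndex_of_le_normalizer h7 h9 h11⟩
  refine (le_inf h4 le_rfl).trans ((sup_inf_eq_of_le_of_le_normalizer (hT.trans hn) h3).le.trans
    (sup_le_sup_left ?_ _))
  rw [inf_comm]
  refine (inf_le_iSup_inf hS h7 (fun o : Option I => o.elim D.b₀.ι.range fun i => (D.b i).ι.range)
    (fun o => by cases o; exacts [h9, h8 _]) (fun o => by cases o; exacts [h11, h10 _])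
    (D.iInf_stab_le.trans ?_)).trans ?_
  · rw [iSup_option, sup_comm]
    rfl
  · rw [iSup_option, sup_comm]
    rfl

end Cfsg

set_option linter.all false in
theorem Cfsg.Rz.Grp_FormBlock_0 : True := by
  have := @_root_.Cfsg.FormBlk.smul.eq_def.{0, 0, 0}
  have := @_root_.Cfsg.FormBlk.smul.eq_1.{0, 0, 0}
  have := @_root_.Cfsg.FormBlk.smul.fun_cases
  have := @_root_.Cfsg.FormBlk.ι.eq_def.{0, 0, 0}
  have := @_root_.Cfsg.FormBlk.ι.eq_1.{0, 0, 0}
  have := @_root_.Cfsg.FormBlk.ι.fun_cases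
  have := @_root_.Cfsg.FormDecomp.mk.congr_simp.{0, 0, 0, 0}
  have := @_root_.Cfsg.FormDecomp.wr.eq_def.{0, 0, 0, 0}
  have := @_root_.Cfsg.FormDecomp.wr.eq_1.{0, 0, 0, 0}
  have := @_root_.Cfsg.FormDecomp.wr.fun_cases
  have := @_root_.Cfsg.formIsom.mk'.eq_def.{0, 0}
  have := @_root_.Cfsg.formIsom.mk'.eq_1.{0, 0}
  have := @_root_.Cfsg.formIsom.mk'.fun_cases
  have := @_root_.Cfsg.FormBlk.ofInvolution.congr_simp.{0, 0}
  have := @_root_.Cfsg.FormBlk.ofInvolution.eq_def.{0, 0}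
  have := @_root_.Cfsg.FormBlk.ofInvolution.fun_cases
  have := @_root_.Cfsg.FormBlk.stab.eq_def.{0, 0, 0}
  have := @_root_.Cfsg.FormBlk.stab.eq_1.{0, 0, 0}
  have := @_root_.Cfsg.FormBlk.stab.fun_cases
  have := @_root_.Cfsg.FormDecomp.lin.eq_def.{0, 0, 0, 0}
  have := @_root_.Cfsg.FormDecomp.lin.fun_cases
  have := @_root_.Cfsg.FormDecomp.ofOrth.congr_simp.{0, 0, 0}
  have := @_root_.Cfsg.FormDecomp.ofOrth.eq_def.{0, 0, 0}
  have := @_root_.Cfsg.FormDecomp.ofOrth.eq_1.{0, 0, 0}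
  have := @_root_.Cfsg.FormDecomp.ofOrth.fun_cases.{0, 0, 0}
  have := @_root_.Cfsg.formIsom.eq_def.{0, 0}
  have := @_root_.Cfsg.formIsom.eq_1.{0, 0}
  have := @_root_.Cfsg.formIsom.fun_cases
  have := @_root_.Cfsg.IsCxModel.mk.congr_simp.{0, 0}
  have := @_root_.Cfsg.FormDecomp.τ.eq_def.{0, 0, 0, 0}
  trivial

set_option linter.all false in
theorem Cfsg.Rz.Grp_FormBlock_1 : True := by
  have := @_root_.Cfsg.FormDecomp.τ.eq_1.{0, 0, 0, 0}
  have := @_root_.Cfsg.FormDecomp.τ.fun_cases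
  have := @_root_.Cfsg.FormBlk.e.eq_def.{0, 0, 0}
  have := @_root_.Cfsg.FormBlk.e.eq_1.{0, 0, 0}
  have := @_root_.Cfsg.FormBlk.e.fun_cases
  have := @_root_.Cfsg.FormBlk.comp.eq_def.{0, 0, 0, 0}
  have := @_root_.Cfsg.FormBlk.comp.fun_cases
  have := @_root_.Cfsg.FormBlk.Orth.eq_def.{0, 0, 0, 0}
  have := @_root_.Cfsg.FormBlk.Orth.eq_1.{0, 0, 0, 0}
  have := @_root_.Cfsg.FormBlk.Orth.fun_cases
  trivial
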