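import Cfsg.Agent.Grp.FormBlock

/-!
# Orthogonal groups in odd characteristic: reflections and Sylow `2`-subgroups
-/

set_option autoImplicit false

namespace Cfsg

open Subgroup formIsom FormBlk Module

universe u v w

variable {F : Type u} [Field F] {V : Type v} [AddCommGroup V] [Module F V]
  {M : Type w} [AddCommGroup M] [Module F M]
  {B : LinearMap.BilinForm F V} {β : LinearMap.BilinForm F M}

/-- A group-theoretic criterion for generation by reflections of two types. -/
theorem inf_le_powComm_of_reflections {G : Type*} [Group G] {S H : Subgroup G} [H.Normal]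
    (R : Bool → Set G) (hR : ∀ s, ∀ r ∈ R s, r * r = 1)
    (hRH : ∀ s, ∀ r ∈ R s, ∀ r' ∈ R s, r * r' ∈ H) {ι : Type*} (A : ι → Subgroup G)
    (hA : ∀ i, A i ≤ S) (hc : ∀ i j, i ≠ j → ∀ x ∈ A i, ∀ y ∈ A j, Commute x y) {j₁ j₂ : ι}
    (hj : j₁ ≠ j₂) (h₁ : ∀ s, ∃ r ∈ A j₁, r ∈ R s) (h₂ : ∀ s, ∃ r ∈ A j₂, r ∈ R s)
    (hS : S ≤ closure ({x | ∃ i s, x ∈ A i ∧ x ∈ R s} ∪ {t | t ∈ S ⊓ H ∧ t ^ 2 = 1})) :
    S ⊓ H ≤ powComm 2 (S ⊓ H) := by
  have key : ∀ s i i', ∀ r ∈ A i, ∀ r' ∈ A i', r ∈ R s → r' ∈ R s →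
      r * r' ∈ powComm 2 (S ⊓ H) := fun s i i' r hr r' hr' h h' => by
    have hm : r * r' ∈ S ⊓ H := ⟨mul_mem (hA _ hr) (hA _ hr'), hRH s r h r' h'⟩
    rcases eq_or_ne i i' with rfl | hi
    · obtain ⟨j, hij, t, ht, ht'⟩ : ∃ j, i ≠ j ∧ ∃ t ∈ A j, t ∈ R s := by
        rcases eq_or_ne i j₁ with rfl | h
        exacts [⟨j₂, hj, h₂ s⟩, ⟨j₁, h, h₁ s⟩]
      refine mem_powComm.mpr ⟨hm, ?_⟩
      have := commutator_mem_commutator (H₁ := S ⊓ H) (H₂ := S ⊓ H) (g₁ := r * t) (g₂ := r' * t)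
        ⟨mul_mem (hA _ hr) (hA _ ht), hRH s r h t ht'⟩
        ⟨mul_mem (hA _ hr') (hA _ ht), hRH s r' h' t ht'⟩
      have e1 := (hc i j hij r hr t ht).eq
      have e2 := (hc i j hij r' hr' t ht).eq
      have e3 := hR s t ht'
      convert this using 1
      rw [commutatorElement_def, mul_inv_rev, mul_inv_rev,
        inv_eq_of_mul_eq_one_right (hR s r h), inv_eq_of_mul_eq_one_right (hR s r' h'),
        inv_eq_of_mul_eq_one_right e3, pow_two]
      simp only [mul_assoc]
      rw [← mul_assoc t t, e3, one_mul, ← mul_assoc r t r', e1, mul_assoc t r, ← mul_assoc r' t,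
        e2, mul_assoc t r', ← mul_assoc t t, e3, one_mul]
    · refine mem_powComm_of_pow_eq_one hm ?_
      rw [(hc i i' hi r hr r' hr').mul_pow, pow_two, pow_two, hR s r h, hR s r' h', mul_one]
  obtain ⟨a, ha, ha'⟩ := h₁ true
  obtain ⟨b, hb, hb'⟩ := h₂ false
  have hn : S ≤ normalizer ((S ⊓ H : Subgroup G) : Set G) :=
    le_normalizer_inf le_normalizer le_normalizer_of_normal
  have hab := hc _ _ hj a ha b hb
  refine inf_le_of_two_cosets hS ((powComm_le _).trans inf_le_right)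
    (fun y => conj_mem_powComm (hn (hA _ ha))) (fun y => conj_mem_powComm (hn (hA _ hb)))
    (hR _ a ha') (hR _ b hb') hab ?_
    (fun h => mem_powComm_of_pow_eq_one ⟨hA _ ha, h⟩ (by rw [pow_two, hR _ a ha']))
    (fun h => mem_powComm_of_pow_eq_one ⟨hA _ hb, h⟩ (by rw [pow_two, hR _ b hb']))
    (fun h => mem_powComm_of_pow_eq_one ⟨mul_mem (hA _ ha) (hA _ hb), h⟩
      (by rw [hab.mul_pow, pow_two, pow_two, hR _ a ha', hR _ b hb', mul_one]))
  rintro x (⟨i, s, h1, h2⟩ | ⟨h1, h2⟩)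
  · cases s
    exacts [Or.inr (Or.inr (key _ _ _ b hb x h1 hb' h2)), Or.inr (Or.inl (key _ _ _ a ha x h1 ha' h2))]
  · exact Or.inl (mem_powComm_of_pow_eq_one h1 h2)

/-- The complex structure `(x, y) ↦ (-y, x)` of the plane. -/
def planeJ (F : Type u) [Field F] : F × F →ₗ[F] F × F :=
  (-LinearMap.snd F F F).prod (LinearMap.fst F F F)

@[simp] theorem planeJ_apply (x : F × F) : planeJ F x = (-x.2, x.1) := rfl

theorem isCxModel_plane (h2 : (2 : F) ≠ 0) {β : LinearMap.BilinForm F (F × F)} {J : formIsom β}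
    (hJ : ∀ x, J.1 x = (-x.2, x.1))
    (h : ∀ (t : formIsom β) (b : F), t.1 (1, 0) = (0, b) → t.1 (0, 1) = (-b, 0) → b ^ 2 ≠ -1) :
    IsCxModel β J := by
  refine ⟨fun m => by simp [hJ, Prod.ext_iff], fun t ht hc => ?_⟩
  obtain ⟨⟨a, b⟩, h1⟩ : ∃ x, t.1 (1, 0) = x := ⟨_, rfl⟩
  have h3 : t.1 (0, 1) = (-b, a) := by
    have := formIsom.congr hc.eq (1, 0)
    rwa [mul_apply, mul_apply, h1, hJ, hJ, neg_zero] at this
  have h4 : ∀ x : F × F, t.1 x = (a * x.1 - b * x.2, b * x.1 + a * x.2) := fun x => by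
    have : x = x.1 • (1, 0) + x.2 • (0, 1) := by simp
    rw [this, map_add, map_smul, map_smul, h1, h3]
    simp [mul_comm, sub_eq_add_neg]
  have h5 := formIsom.congr ht (1, 0)
  rw [mul_apply, h1, h4, one_apply, Prod.ext_iff] at h5
  obtain ⟨h5, h6⟩ := h5
  have h7 : a = 0 ∨ b = 0 := mul_eq_zero.mp (mul_left_cancel₀ h2 (by linear_combination h6))
  rcases h7 with rfl | rfl
  · exact absurd (by linear_combination -h5) (h t b h1 h3)
  · have h8 : a = 1 ∨ a = -1 := sq_eq_one_iff.mp (by linear_combination h5)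
    rcases h8 with rfl | rfl
    · exact Or.inl fun m => by simp [h4]
    · exact Or.inr fun m => by simp [h4, Prod.ext_iff]

/-- A nondegenerate symmetric bilinear form. -/
structure IsOrthForm (B : LinearMap.BilinForm F V) : Prop where
  symm : ∀ u v, B u v = B v u
  nondeg : ∀ u, (∀ v, B u v = 0) → u = 0

/-- `r` is the reflection in the anisotropic vector `u`. -/
def IsFormRefl (u : V) (r : formIsom B) : Prop :=
  B u u ≠ 0 ∧ ∀ v, r.1 v = v - (2 * B u v / B u u) • u

/-- The subgroup generated by the reflections. -/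
def formReflGen (B : LinearMap.BilinForm F V) : Subgroup (formIsom B) :=
  closure {r | ∃ u, IsFormRefl u r}

namespace IsFormRefl

variable {u v : V} {r r' : formIsom B}

theorem unique (h : IsFormRefl u r) (h' : IsFormRefl u r') : r = r' :=
  formIsom.ext fun v => (h.2 v).trans (h'.2 v).symm

theorem apply_self (h : IsFormRefl u r) : r.1 u = -u := by
  rw [h.2, mul_div_cancel_right₀ _ h.1, two_smul, sub_add_cancel_left]

theorem apply_of_orth (h : IsFormRefl u r) (hv : B u v = 0) : r.1 v = v := by simp [h.2, hv]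

theorem mul_self (h : IsFormRefl u r) : r * r = 1 := formIsom.ext fun v => by
  rw [mul_apply, h.2 v, map_sub, map_smul, h.apply_self, h.2 v]
  simp

theorem conj (h : IsFormRefl u r) (g : formIsom B) : IsFormRefl (g.1 u) (g * r * g⁻¹) :=
  ⟨by simpa using h.1, fun v => by
    rw [mul_apply, mul_apply, h.2, map_sub, map_smul, apply_inv_apply, formIsom.map_map,
      ← formIsom.map_map g u, apply_inv_apply]⟩

theorem smul (h : IsFormRefl u r) {c : F} (hc : c ≠ 0) : IsFormRefl (c • u) r :=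
  ⟨by simpa [hc] using h.1, fun v => by
    have := h.1
    rw [h.2, smul_smul]
    congr 2
    simp only [map_smul, LinearMap.smul_apply, smul_eq_mul]
    field_simp⟩

theorem ι {m : M} {s : formIsom β} (h : IsFormRefl m s) (b : FormBlk B β) :
    IsFormRefl (b.a m) (b.ι s) :=
  ⟨by simpa using h.1, fun v => by simp [ι_apply, h.2, form_a]⟩

theorem mem (h : IsFormRefl u r) : r ∈ formReflGen B := subset_closure ⟨u, h⟩

end IsFormRefl

namespace IsOrthForm

theorem blk (hB : IsOrthForm B) (b : FormBlk B β) : IsOrthForm β :=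
  ⟨fun u v => by rw [← b.isom, ← b.isom, hB.symm], fun m h =>
    b.a_injective ((hB.nondeg _ fun v => by rw [form_a, h]).trans (map_zero _).symm)⟩

theorem exists_refl (hB : IsOrthForm B) {u : V} (hu : B u u ≠ 0) :
    ∃ r : formIsom B, IsFormRefl u r := by
  let f : V →ₗ[F] V := LinearMap.id - ((2 / B u u) • B u).smulRight u
  have hf : ∀ v, f v = v - (2 * B u v / B u u) • u := fun v => by
    simp [f, div_mul_eq_mul_div]
  have hff : ∀ v, f (f v) = v := fun v => by
    rw [hf (f v), hf v, map_sub, map_smul, smul_eq_mul, div_mul_cancel₀ _ hu]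
    match_scalars <;> ring
  refine ⟨mk' f f hff hff fun v w => ?_, hu, hf⟩
  simp only [hf, map_sub, map_smul, LinearMap.sub_apply, LinearMap.smul_apply, smul_eq_mul,
    hB.symm v u]
  field_simp
  ring

theorem exists_aniso (hB : IsOrthForm B) (h2 : (2 : F) ≠ 0) [Nontrivial V] : ∃ u, B u u ≠ 0 := by
  by_contra! h
  obtain ⟨u, hu⟩ := exists_ne (0 : V)
  refine hu (hB.nondeg u fun v => mul_left_cancel₀ h2 ?_)
  have := h (u + v)
  simp only [map_add, LinearMap.add_apply, h, hB.symm v u] at this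
  linear_combination this

theorem exists_apply_eq (hB : IsOrthForm B) (h2 : (2 : F) ≠ 0) {u v : V} (hu : B u u ≠ 0)
    (h : B u u = B v v) : ∃ g ∈ formReflGen B, g.1 u = v := by
  have key : ∀ v, B u u = B v v → B (u - v) (u - v) ≠ 0 → ∃ g ∈ formReflGen B, g.1 u = v :=
    fun v h h' => by
    obtain ⟨r, hr⟩ := hB.exists_refl h'
    refine ⟨r, hr.mem, ?_⟩
    rw [hr.2, show 2 * B (u - v) u = B (u - v) (u - v) by
      simp only [map_sub, LinearMap.sub_apply, hB.symm v u, ← h]; ring, div_self h']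
    simp
  by_cases h1 : B (u - v) (u - v) = 0
  · obtain ⟨g, hg, hgu⟩ := key (-v) (by simpa using h) fun h3 => hu (mul_left_cancel₀
      (mul_ne_zero h2 h2) (by
        simp only [sub_neg_eq_add, map_add, map_sub, LinearMap.add_apply, LinearMap.sub_apply,
          ← h] at h1 h3
        linear_combination h1 + h3))
    obtain ⟨r, hr⟩ := hB.exists_refl (h ▸ hu : B v v ≠ 0)
    exact ⟨r * g, mul_mem hr.mem hg, by rw [mul_apply, hgu, map_neg, hr.apply_self, neg_neg]⟩
  · exact key v h h1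

/-- The orthogonal complement of an anisotropic vector. -/
noncomputable def perp (hB : IsOrthForm B) {u : V} (hu : B u u ≠ 0) :
    FormBlk B (B.restrict (LinearMap.ker (B u))) where
  a := Submodule.subtype _
  p := LinearMap.codRestrict _ (LinearMap.id - ((B u u)⁻¹ • B u).smulRight u) fun v => by
    simp [mul_right_comm, hu]
  pa m := by
    have : B u m.1 = 0 := m.2
    refine Subtype.ext ?_
    change m.1 - ((B u u)⁻¹ * B u m.1) • u = m.1
    rw [this, mul_zero, zero_smul, sub_zero]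
  isom _ _ := rfl
  orthL m v hv := by
    have : v = ((B u u)⁻¹ * B u v) • u := sub_eq_zero.mp (congrArg Subtype.val hv)
    rw [this, map_smul]
    exact smul_eq_zero_of_right _ ((hB.symm _ _).trans m.2)
  orthR m v hv := by
    have : v = ((B u u)⁻¹ * B u v) • u := sub_eq_zero.mp (congrArg Subtype.val hv)
    rw [this, map_smul, LinearMap.smul_apply]
    exact smul_eq_zero_of_right _ m.2

theorem perp_a_p (hB : IsOrthForm B) {u : V} (hu : B u u ≠ 0) (v : V) :
    (hB.perp hu).a ((hB.perp hu).p v) = v - ((B u u)⁻¹ * B u v) • u := rfl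

theorem mem_range_perp (hB : IsOrthForm B) {u : V} (hu : B u u ≠ 0) {g : formIsom B}
    (hg : g.1 u = u) : g ∈ (hB.perp hu).ι.range := by
  refine mem_range_ι.mpr ⟨fun v => ?_, fun v hv => ?_⟩
  · rw [perp_a_p, perp_a_p, map_sub, map_smul, hg, ← formIsom.map_map g u v, hg]
  · have := hB.perp_a_p hu v
    rw [hv, map_zero, eq_comm, sub_eq_zero] at this
    rw [this, map_smul, hg]

theorem finrank_perp [FiniteDimensional F V] {u : V} (hu : B u u ≠ 0) :
    finrank F (LinearMap.ker (B u)) + 1 = finrank F V :=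
  Module.Dual.finrank_ker_add_one_of_ne_zero fun h => hu (by rw [h]; rfl)

/-- **Cartan–Dieudonné**: the orthogonal group is generated by reflections. -/
theorem formReflGen_eq_top [FiniteDimensional F V] (hB : IsOrthForm B) (h2 : (2 : F) ≠ 0) :
    formReflGen B = ⊤ := by
  induction' hn : finrank F V with n ih generalizing V
  · have := finrank_zero_iff.mp hn
    refine eq_top_iff.mpr fun g _ => ?_
    rw [show g = 1 from formIsom.ext fun v => Subsingleton.elim _ _]
    exact one_mem _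
  have := nontrivial_of_finrank_eq_succ hn
  obtain ⟨u, hu⟩ := hB.exists_aniso h2
  refine eq_top_iff.mpr fun g _ => ?_
  obtain ⟨h, hh, hu'⟩ := hB.exists_apply_eq h2 (u := g.1 u) (v := u) (by simpa using hu) (by simp)
  obtain ⟨k, hk⟩ := hB.mem_range_perp hu (g := h * g) hu'
  refine (mul_mem_cancel_left hh).mp (hk ▸ ?_)
  have h1 : k ∈ formReflGen _ := (ih (hB.blk (hB.perp hu))
    (by have := finrank_perp hu; omega)).ge (mem_top k)
  refine (show (formReflGen _).map (hB.perp hu).ι ≤ _ from ?_) (mem_map_of_mem _ h1)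
  rw [formReflGen, MonoidHom.map_closure]
  refine closure_mono ?_
  rintro _ ⟨r, ⟨m, hm⟩, rfl⟩
  exact ⟨_, hm.ι _⟩

theorem abExp [FiniteDimensional F V] (hB : IsOrthForm B) (h2 : (2 : F) ≠ 0) :
    AbExp 2 (formIsom B) := fun g => by
  have : formReflGen B ≤ powComm 2 ⊤ := (closure_le _).mpr fun r ⟨u, hu⟩ =>
    mem_powComm_of_pow_eq_one (mem_top r) (by rw [pow_two, hu.mul_self])
  exact (mem_powComm.mp (this ((hB.formReflGen_eq_top h2).ge (mem_top g)))).2

theorem exists_eq [Finite F] [FiniteDimensional F V] (hB : IsOrthForm B) (h2 : (2 : F) ≠ 0)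
    (hd : 2 ≤ finrank F V) (c : F) : ∃ w, B w w = c := by
  have := Fintype.ofFinite F
  have : Nontrivial V := nontrivial_of_finrank_pos (R := F) (by omega)
  obtain ⟨u, hu⟩ := hB.exists_aniso h2
  have : Nontrivial (LinearMap.ker (B u)) :=
    nontrivial_of_finrank_pos (R := F) (by have := finrank_perp hu; omega)
  obtain ⟨⟨v, huv⟩, hv⟩ := (hB.blk (hB.perp hu)).exists_aniso h2
  obtain ⟨x, y, h⟩ := FiniteField.exists_root_sum_quadratic
    (f := Polynomial.C (B u u) * Polynomial.X ^ 2)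
    (g := Polynomial.C (B v v) * Polynomial.X ^ 2 - Polynomial.C c)
    (Polynomial.degree_C_mul_X_pow 2 hu) (by compute_degree!)
    (FiniteField.odd_card_of_char_ne_two fun h => h2 (by
      rw [← Nat.cast_two, ← h]; exact ringChar.Nat.cast_ringChar))
  refine ⟨x • u + y • v, ?_⟩
  simp only [map_add, map_smul, LinearMap.add_apply, LinearMap.smul_apply, smul_eq_mul,
    hB.symm v u, show B u v = 0 from huv]
  simp at h
  linear_combination h

theorem eq_one_or_refl [FiniteDimensional F V] (hB : IsOrthForm B)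
    (hd : finrank F V ≤ 1) (g : formIsom B) : g = 1 ∨ ∃ u, IsFormRefl u g := by
  obtain ⟨u, hu⟩ := finrank_le_one_iff.mp hd
  obtain ⟨c, hc⟩ := hu (g.1 u)
  by_cases h0 : B u u = 0
  · refine Or.inl (formIsom.ext fun v => ?_)
    obtain ⟨d, rfl⟩ := hu v
    rw [hB.nondeg u fun w => by obtain ⟨e, rfl⟩ := hu w; simp [h0]]
    simp
  have h1 : c ^ 2 = 1 := mul_right_cancel₀ h0 (by
    have := formIsom.map_map g u u
    simp only [← hc, map_smul, LinearMap.smul_apply, smul_eq_mul] at this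
    linear_combination this)
  rcases sq_eq_one_iff.mp h1 with rfl | rfl
  · refine Or.inl (formIsom.ext fun v => ?_)
    obtain ⟨d, rfl⟩ := hu v
    simp [← hc]
  · obtain ⟨r, hr⟩ := hB.exists_refl h0
    refine Or.inr ⟨u, (formIsom.ext fun v => ?_ : r = g) ▸ hr⟩
    obtain ⟨d, rfl⟩ := hu v
    simp [← hc, hr.apply_self]

theorem eq_one_or_refl_of_apply_eq [FiniteDimensional F V] (hB : IsOrthForm B)
    (hd : finrank F V ≤ 2) {g : formIsom B} {w : V} (hw : B w w ≠ 0) (hg : g.1 w = w) :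
    g = 1 ∨ ∃ u, IsFormRefl u g := by
  obtain ⟨k, rfl⟩ := hB.mem_range_perp hw hg
  rcases (hB.blk (hB.perp hw)).eq_one_or_refl (by have := finrank_perp hw; omega) k with
    rfl | ⟨m, hm⟩
  exacts [Or.inl (map_one _), Or.inr ⟨_, hm.ι _⟩]

theorem exists_fixed [FiniteDimensional F V] (hB : IsOrthForm B) (h2 : (2 : F) ≠ 0)
    (hd : finrank F V ≤ 2) {u : V} {r : formIsom B} (hr : IsFormRefl u r) (g : formIsom B) :
    ∃ w, B w w ≠ 0 ∧ (g.1 w = w ∨ (r * g).1 w = w) := by
  have hu := hr.1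
  obtain ⟨⟨v, huv⟩, hv⟩ := (finrank_le_one_iff (K := F) (V := LinearMap.ker (B u))).mp
    (by have := finrank_perp hu; omega)
  replace huv : B u v = 0 := huv
  have hvu : B v u = 0 := (hB.symm _ _).trans huv
  have hs : ∀ x, ∃ a c : F, x = a • u + c • v := fun x => by
    obtain ⟨c, hc⟩ := hv ((hB.perp hu).p x)
    exact ⟨_, c, sub_eq_iff_eq_add'.mp ((hB.perp_a_p hu x).symm.trans
      (congrArg Subtype.val hc).symm)⟩
  have key : ∀ (g : formIsom B) (a c b d : F), g.1 u = a • u + c • v → g.1 v = b • u + d • v →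
      d = -a → a ^ 2 + b * c = 1 → B v v ≠ 0 → ∃ w, B w w ≠ 0 ∧ g.1 w = w := by
    rintro g a c b _ h3 h4 rfl h5 h0
    by_cases ha : a = -1
    · refine ⟨v + g.1 v, fun h => h0 (mul_left_cancel₀ (mul_ne_zero h2 h2) ?_), ?_⟩
      · have h6 : B v (g.1 v) = B v v := by simp [h4, hvu, ha]
        simp only [map_add, LinearMap.add_apply, formIsom.map_map, hB.symm (g.1 v) v, h6] at h
        linear_combination h
      · rw [map_add, add_comm, add_left_inj]
        simp only [h4, map_add, map_smul, h3]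
        match_scalars
        · ring
        · linear_combination h5
    · refine ⟨u + g.1 u, fun h => ha (mul_left_cancel₀ (mul_ne_zero h2 hu) ?_), ?_⟩
      · have h6 : B u (g.1 u) = a * B u u := by simp [h3, huv]
        simp only [map_add, LinearMap.add_apply, formIsom.map_map, hB.symm (g.1 u) u, h6] at h
        linear_combination h
      · rw [map_add, add_comm, add_left_inj]
        simp only [h4, map_add, map_smul, h3]
        match_scalars
        · linear_combination h5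
        · ring
  obtain ⟨a, c, h3⟩ := hs (g.1 u)
  obtain ⟨b, d, h4⟩ := hs (g.1 v)
  have e1 := formIsom.map_map g u u
  have e2 := formIsom.map_map g u v
  have e3 := formIsom.map_map g v v
  simp only [h3, h4, map_add, map_smul, LinearMap.add_apply, LinearMap.smul_apply, smul_eq_mul,
    huv, hvu] at e1 e2 e3
  by_cases h0 : B v v = 0
  · have hv0 : v = 0 := hB.nondeg v fun x => by obtain ⟨a, c, rfl⟩ := hs x; simp [hvu, h0]
    have h1 : a ^ 2 = 1 := mul_right_cancel₀ hu (by rw [h0] at e1; linear_combination e1)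
    refine ⟨u, hu, (sq_eq_one_iff.mp h1).imp (fun h => ?_) fun h => ?_⟩
    · simp [h3, h, hv0]
    · simp [h3, h, hv0, hr.apply_self, -Subgroup.coe_mul]
  have hD : (a * d - b * c) ^ 2 = 1 := mul_left_cancel₀ (mul_ne_zero hu h0) (by
    linear_combination (b * b * B u u + d * d * B v v) * e1 + B u u * e3 -
      (a * b * B u u + c * d * B v v) * e2)
  have hd' : d = a * (a * d - b * c) := mul_left_cancel₀ hu (by
    linear_combination c * e2 - d * e1)
  rcases sq_eq_one_iff.mp hD with h | h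
  · obtain ⟨w, hw⟩ := key (r * g) (-a) c (-b) d
      (by simp [h3, hr.apply_self, hr.apply_of_orth huv, -Subgroup.coe_mul])
      (by simp [h4, hr.apply_self, hr.apply_of_orth huv, -Subgroup.coe_mul])
      (by rw [hd', h]; ring) (by rw [h, mul_one] at hd'; rw [← h, hd']; ring) h0
    exact ⟨w, hw.1, Or.inr hw.2⟩
  · obtain ⟨w, hw⟩ := key g a c b d h3 h4 (by rw [hd', h]; ring)
      (by rw [h] at hd'; rw [hd'] at h; linear_combination -h) h0
    exact ⟨w, hw.1, Or.inl hw.2⟩

theorem exists_refl_mem [Finite V] (hB : IsOrthForm B) {S : Subgroup (formIsom B)}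
    (hS : IsPGroup 2 S) (hi : ¬ 2 ∣ S.index) {u : V} (hu : B u u ≠ 0) :
    ∃ w, ∃ r ∈ S, B w w = B u u ∧ IsFormRefl w r := by
  obtain ⟨r, hr⟩ := hB.exists_refl hu
  obtain ⟨g, -, hg⟩ := exists_conj_mem_of_not_dvd_relIndex hS (by rwa [relIndex_top_right])
    (mem_top r) (k := 1) (by rw [pow_one, pow_two, hr.mul_self])
  exact ⟨_, _, hg, formIsom.map_map g u u, hr.conj g⟩

theorem le_closure_refl [Finite V] [FiniteDimensional F V] (hB : IsOrthForm B) (h2 : (2 : F) ≠ 0)
    (hd : finrank F V ≤ 2) {S : Subgroup (formIsom B)} (hS : IsPGroup 2 S) (hi : ¬ 2 ∣ S.index) :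
    S ≤ closure {r | r ∈ S ∧ ∃ u, IsFormRefl u r} := fun g hg => by
  rcases subsingleton_or_nontrivial V with h | h
  · rw [show g = 1 from formIsom.ext fun v => Subsingleton.elim _ _]
    exact one_mem _
  obtain ⟨u, hu⟩ := hB.exists_aniso h2
  obtain ⟨u, r, hr, -, hu⟩ := hB.exists_refl_mem hS hi hu
  have key : ∀ g ∈ S, ∀ w, B w w ≠ 0 → g.1 w = w →
      g ∈ closure {r | r ∈ S ∧ ∃ u, IsFormRefl u r} := fun g hg w hw h => by
    rcases hB.eq_one_or_refl_of_apply_eq hd hw h with rfl | h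
    exacts [one_mem _, subset_closure ⟨hg, h⟩]
  obtain ⟨w, hw, h | h⟩ := hB.exists_fixed h2 hd hu g
  · exact key g hg w hw h
  · exact (mul_mem_cancel_left (Subgroup.subset_closure (by exact ⟨hr, u, hu⟩))).mp
      (key _ (mul_mem hr hg) w hw h)

theorem inf_le_closure_refl [Finite V] [FiniteDimensional F M] (hB : IsOrthForm B)
    (h2 : (2 : F) ≠ 0) (b : FormBlk B β) (hd : finrank F M ≤ 2) {S : Subgroup (formIsom B)}
    (hS : IsPGroup 2 S) (hi : ¬ 2 ∣ S.relIndex b.ι.range) :
    S ⊓ b.ι.range ≤ closure {r | r ∈ S ⊓ b.ι.range ∧ ∃ u, IsFormRefl u r} := by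
  have := Finite.of_injective _ b.a_injective
  rw [inf_comm, ← map_comap_eq]
  refine (map_mono ((hB.blk b).le_closure_refl h2 hd (hS.comap_of_injective _ b.ι_injective)
    (by rwa [index_comap]))).trans ?_
  rw [MonoidHom.map_closure]
  refine closure_mono ?_
  rintro _ ⟨r, ⟨h, u, hu⟩, rfl⟩
  exact ⟨mem_map_of_mem _ h, _, hu.ι b⟩

theorem exists_refl_mem_blk [Finite F] [Finite V] [FiniteDimensional F M] (hB : IsOrthForm B)
    (h2 : (2 : F) ≠ 0) (b : FormBlk B β) (hd : 2 ≤ finrank F M) {S : Subgroup (formIsom B)}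
    (hS : IsPGroup 2 S) (hi : ¬ 2 ∣ S.relIndex b.ι.range) (c : F) (hc : c ≠ 0) :
    ∃ u, ∃ r ∈ S ⊓ b.ι.range, B u u = c ∧ IsFormRefl u r := by
  have := Finite.of_injective _ b.a_injective
  obtain ⟨u, rfl⟩ := (hB.blk b).exists_eq h2 hd c
  obtain ⟨w, r, h1, h3, h4⟩ := (hB.blk b).exists_refl_mem (hS.comap_of_injective _ b.ι_injective)
    (by rwa [index_comap]) hc
  exact ⟨_, _, ⟨h1, r, rfl⟩, (b.isom _ _).trans h3, h4.ι b⟩

theorem mul_mem_commutator (hB : IsOrthForm B) (h2 : (2 : F) ≠ 0) {u v : V} {r s : formIsom B}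
    (hr : IsFormRefl u r) (hs : IsFormRefl v s) (h : IsSquare (B u u * B v v)) :
    r * s ∈ commutator (formIsom B) := by
  obtain ⟨d, hd⟩ := h
  have hv := hs.1
  have hd0 : d ≠ 0 := by rintro rfl; exact mul_ne_zero hr.1 hv (by simpa using hd)
  obtain ⟨g, -, hg⟩ := hB.exists_apply_eq h2 hr.1 (v := (d / B v v) • v) (by
    simp only [map_smul, LinearMap.smul_apply, smul_eq_mul]
    field_simp
    linear_combination hd)
  have := (hs.smul (div_ne_zero hd0 hv)).unique (hg ▸ hr.conj g)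
  have h1 := commutator_mem_commutator (mem_top r) (mem_top g)
  rw [commutatorElement_def, inv_eq_of_mul_eq_one_right hr.mul_self] at h1
  rw [this, ← mul_assoc, ← mul_assoc]
  exact h1

end IsOrthForm

/-- The standard form on the plane. -/
def planeDot (F : Type u) [Field F] : LinearMap.BilinForm F (F × F) :=
  (LinearMap.mul F F).compl₁₂ (LinearMap.fst F F F) (LinearMap.fst F F F) +
    (LinearMap.mul F F).compl₁₂ (LinearMap.snd F F F) (LinearMap.snd F F F)

@[simp] theorem planeDot_apply (x y : F × F) : planeDot F x y = x.1 * y.1 + x.2 * y.2 := rfl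

theorem IsOrthForm.finrank_le_two [Finite F] [FiniteDimensional F V] (hB : IsOrthForm B)
    (h2 : (2 : F) ≠ 0) (h : IsEmpty (FormBlk B (planeDot F))) : finrank F V ≤ 2 := by
  by_contra! hd
  obtain ⟨u, hu⟩ := hB.exists_eq h2 hd.le 1
  have hu' : B u u ≠ 0 := hu ▸ one_ne_zero
  obtain ⟨⟨v, huv⟩, hv⟩ := (hB.blk (hB.perp hu')).exists_eq h2
    (by have := IsOrthForm.finrank_perp hu'; omega) 1
  replace huv : B u v = 0 := huv
  replace hv : B v v = 1 := hv
  have hvu : B v u = 0 := (hB.symm _ _).trans huv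
  refine h.false ⟨(LinearMap.toSpanSingleton F V u).coprod (LinearMap.toSpanSingleton F V v),
    (B u).prod (B v), fun m => by simp [hu, hv, huv, hvu], fun m m' => by
      simp [hu, hv, huv, hvu], fun m x hx => ?_, fun m x hx => ?_⟩
  all_goals
    obtain ⟨h1, h3⟩ : B u x = 0 ∧ B v x = 0 := Prod.ext_iff.mp hx
    simp [h1, h3, hB.symm x]

theorem isSquare_mul_of_iff [Finite F] {a b : F} (ha : a ≠ 0) (hb : b ≠ 0)
    (h : IsSquare a ↔ IsSquare b) : IsSquare (a * b) := by
  classical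
  have := Fintype.ofFinite F
  by_cases h1 : IsSquare a
  · exact h1.mul (h.mp h1)
  rw [← quadraticChar_one_iff_isSquare (mul_ne_zero ha hb), map_mul,
    quadraticChar_neg_one_iff_not_isSquare.mpr h1,
    quadraticChar_neg_one_iff_not_isSquare.mpr (mt h.mpr h1)]
  rfl

/-- Sylow `2`-subgroups of `Ω(V)`, `SO(V)`, `O(V)`, ... have elementary abelian abelianization
when `dim V ≥ 4`. -/
theorem IsOrthForm.sylowEA [Finite F] [FiniteDimensional F V] (hB : IsOrthForm B)
    (h2 : (2 : F) ≠ 0) (hd : 4 ≤ finrank F V) {H : Subgroup (formIsom B)}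
    (hH : commutator (formIsom B) ≤ H) : SylowEA 2 H := by
  classical
  have := Module.finite_of_finite F (M := V)
  have : H.Normal := Normal.of_commutator_le _ hH
  let J : formIsom (planeDot F) := mk' (planeJ F) (-planeJ F) (fun v => by simp) (fun v => by simp)
    fun u v => by simp [add_comm]
  have hJ : IsCxModel (planeDot F) J := isCxModel_plane h2 (fun _ => rfl) fun t b h1 _ h => h2 (by
    have := formIsom.map_map t (1, 0) (1, 0)
    rw [h1] at this
    simp at this
    linear_combination h - this)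
  obtain ⟨I, _, V₀, D, T, S, h0, hS, hi, hT, hle, hi1, hi2⟩ := hJ.exists_sylow h2 B
  refine sylowEA_of_le inf_le_right (hS.to_le inf_le_left) (by
    rw [inf_relIndex_right]; exact fun h => hi (h.trans (relIndex_normal_dvd_index _ _))) ?_
  let R : Bool → Set (formIsom B) := fun s => {r | ∃ u, IsFormRefl u r ∧ (IsSquare (B u u) ↔ s)}
  have hmem : ∀ {u r}, IsFormRefl u r → r ∈ R (decide (IsSquare (B u u))) := fun h =>
    ⟨_, h, by simp⟩
  obtain ⟨c, hc⟩ := FiniteField.exists_nonsquare (F := F) fun h => h2 (by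
    rw [← Nat.cast_two, ← h]; exact ringChar.Nat.cast_ringChar)
  have hboth : ∀ {K : Subgroup (formIsom B)}, (∀ c ≠ 0, ∃ u, ∃ r ∈ K, B u u = c ∧ IsFormRefl u r) →
      ∀ s, ∃ r ∈ K, r ∈ R s := fun h s => by
    cases s
    · obtain ⟨u, r, h1, h3, h4⟩ := h c (by rintro rfl; exact hc IsSquare.zero)
      exact ⟨r, h1, u, h4, by simpa [h3] using hc⟩
    · obtain ⟨u, r, h1, h3, h4⟩ := h 1 one_ne_zero
      exact ⟨r, h1, u, h4, by simp [h3]⟩
  let A : Option I → Subgroup (formIsom B) := fun o =>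
    S ⊓ o.elim D.b₀.ι.range fun i => (D.b i).ι.range
  have hd0 := (hB.blk D.b₀).finrank_le_two h2 h0
  have hd1 : finrank F (F × F) = 2 := by simp
  have hd2 := D.finrank_eq
  obtain ⟨j₁, j₂, hj, h₁, h₂⟩ : ∃ j₁ j₂, j₁ ≠ j₂ ∧ (∀ s, ∃ r ∈ A j₁, r ∈ R s) ∧
      ∀ s, ∃ r ∈ A j₂, r ∈ R s := by
    have h3 := fun i => hboth (hB.exists_refl_mem_blk h2 (D.b i) hd1.ge hS (hi1 i))
    rcases hd0.eq_or_lt with h | h
    · obtain ⟨i⟩ := Fintype.card_pos_iff.mp (show 0 < Fintype.card I by
        by_contra h'; rw [Nat.eq_zero_of_not_pos h'] at hd2; omega)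
      exact ⟨none, some i, by simp, hboth (hB.exists_refl_mem_blk h2 D.b₀ h.ge hS hi2), h3 i⟩
    · obtain ⟨i, j, hij⟩ := Fintype.one_lt_card_iff.mp (show 1 < Fintype.card I by
        rw [hd1] at hd2; omega)
      exact ⟨some i, some j, by simpa using hij, h3 i, h3 j⟩
  refine inf_le_powComm_of_reflections R (fun s r ⟨u, hu, _⟩ => hu.mul_self)
    (fun s r ⟨u, hu, h3⟩ r' ⟨v, hv, h4⟩ => hH (hB.mul_mem_commutator h2 hu hv
      (isSquare_mul_of_iff hu.1 hv.1 (h3.trans h4.symm)))) A (fun _ => inf_le_left) ?_ hj h₁ h₂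
    (hle.trans (sup_le ?_ (sup_le (iSup_le fun i => ?_) ?_)))
  · rintro (_ | i) (_ | j) hij _ ⟨-, g, rfl⟩ _ ⟨-, h, rfl⟩
    · exact absurd rfl hij
    · exact (D.orth₀ j).symm.commute g h
    · exact (D.orth₀ i).commute g h
    · have : i ≠ j := fun h => hij (by rw [h])
      exact Orth.commute ⟨D.orth _ _ this, D.orth _ _ this.symm⟩ g h
  · refine (map_mono (sylow_perm_le_closure I T)).trans ?_
    rw [MonoidHom.map_closure]
    refine closure_mono ?_
    rintro _ ⟨σ, ⟨h3, h4⟩, rfl⟩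
    obtain ⟨x, hx⟩ := D.isSquare_τ h2 hJ.sq h4
    exact Or.inr ⟨⟨hT (mem_map_of_mem _ h3), hH (hx ▸ pow_two x ▸ hB.abExp h2 x)⟩,
      by rw [← map_pow, h4, map_one]⟩
  · exact (hB.inf_le_closure_refl h2 (D.b i) hd1.le hS (hi1 i)).trans
      (closure_mono fun r ⟨h3, u, hu⟩ => Or.inl ⟨some i, _, h3, hmem hu⟩)
  · exact (hB.inf_le_closure_refl h2 D.b₀ hd0 hS hi2).trans
      (closure_mono fun r ⟨h3, u, hu⟩ => Or.inl ⟨none, _, h3, hmem hu⟩)

theorem SylowEA.map {G G' : Type*} [Group G] [Group G'] [Finite G] {p : ℕ} [Fact p.Prime]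
    {H : Subgroup G} (h : SylowEA p H) (f : G →* G') : SylowEA p (H.map f) :=
  h.of_surjective _ (f.subgroupMap_surjective H)

/-- Matrices as linear automorphisms. -/
noncomputable def glEquivLin (ι : Type*) [Fintype ι] [DecidableEq ι] (F : Type u) [Field F] :
    GL ι F ≃* ((ι → F) ≃ₗ[F] (ι → F)) :=
  Matrix.GeneralLinearGroup.toLin.trans (LinearMap.GeneralLinearGroup.generalLinearEquiv F _)

theorem glEquivLin_apply {ι : Type*} [Fintype ι] [DecidableEq ι] (g : GL ι F) (v : ι → F) :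
    glEquivLin ι F g v = Matrix.mulVec g v := rfl

/-- The bilinear form `u a * v b`. -/
def coordForm {ι : Type*} (F : Type u) [Field F] (a b : ι) : LinearMap.BilinForm F (ι → F) :=
  (LinearMap.mul F F).compl₁₂ (LinearMap.proj a) (LinearMap.proj b)

@[simp] theorem coordForm_apply {ι : Type*} (a b : ι) (u v : ι → F) :
    coordForm F a b u v = u a * v b := rfl

theorem two_ne_zero_of_odd_card [Fintype F] (h : Odd (Fintype.card F)) : (2 : F) ≠ 0 :=
  Ring.two_ne_zero fun h' => by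
    have := FiniteField.even_card_of_char_two h'
    have := Nat.odd_iff.mp h
    omega

theorem exists_mulEquiv_isometryGroup {ι : Type} [Fintype ι] [DecidableEq ι] (h2 : (2 : F) ≠ 0)
    {Q : (ι → F) → F} {C : LinearMap.BilinForm F (ι → F)} (hQ : ∀ v, Q v = C v v) :
    Nonempty (formIsom (C + C.flip) ≃* isometryGroup F Q) := by
  refine ⟨(MulEquiv.subgroupCongr ?_).trans
    ((glEquivLin ι F).subgroupMap (isometryGroup F Q)).symm⟩
  ext g
  obtain ⟨g, rfl⟩ := (glEquivLin ι F).surjective g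
  refine Iff.trans (b := g ∈ isometryGroup F Q)
    ⟨fun h u _ => mul_left_cancel₀ h2 ?_, fun h u v => ?_⟩
    ⟨mem_map_of_mem _, fun ⟨g', h, h'⟩ => (glEquivLin ι F).injective h' ▸ h⟩
  · beta_reduce
    rw [hQ, hQ, two_mul, two_mul]
    exact h u u
  · have key : ∀ u, C (glEquivLin ι F g u) (glEquivLin ι F g u) = C u u := fun u => by
      rw [← hQ, ← hQ]; exact h u u
    have := key (u + v)
    simp only [map_add, LinearMap.add_apply, key] at this
    change C _ _ + C _ _ = C u v + C v u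
    linear_combination this

theorem sylowEA_omega [Fintype F] (hF : Odd (Fintype.card F)) {ι : Type} [Fintype ι]
    [DecidableEq ι] (hι : 4 ≤ Fintype.card ι) {Q : (ι → F) → F}
    (C : LinearMap.BilinForm F (ι → F)) (hQ : ∀ v, Q v = C v v)
    (hC : ∀ u, (∀ v, C u v + C v u = 0) → u = 0) : SylowEA 2 (Omega F Q) := by
  have h2 := two_ne_zero_of_odd_card hF
  obtain ⟨e⟩ := exists_mulEquiv_isometryGroup h2 hQ
  have hB : IsOrthForm (C + C.flip) := ⟨fun u v => add_comm (C u v) (C v u), hC⟩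
  have := (hB.sylowEA h2 (by simpa using hι) le_rfl).map e.toMonoidHom
  rwa [map_commutator_eq, MonoidHom.range_eq_top.mpr e.surjective] at this

end Cfsg

set_option linter.all false in
theorem Cfsg.Rz.Grp_FormOrth_0 : True := by
  have := @_root_.Cfsg.IsOrthForm.perp.congr_simp.{0, 0}
  have := @_root_.Cfsg.IsOrthForm.perp.eq_def.{0, 0}
  have := @_root_.Cfsg.IsOrthForm.perp.eq_1.{0, 0}
  have := @_root_.Cfsg.IsOrthForm.perp.fun_cases
  have := @_root_.Cfsg.glEquivLin.eq_def.{0, 0}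
  have := @_root_.Cfsg.glEquivLin.eq_1.{0, 0}
  have := @_root_.Cfsg.glEquivLin.fun_cases
  have := @_root_.Cfsg.formReflGen.eq_def.{0, 0}
  have := @_root_.Cfsg.formReflGen.fun_cases
  have := @_root_.Cfsg.planeDot.eq_def.{0}
  have := @_root_.Cfsg.planeDot.eq_1.{0}
  have := @_root_.Cfsg.planeDot.fun_cases
  have := @_root_.Cfsg.coordForm.eq_def.{0, 0}
  have := @_root_.Cfsg.coordForm.eq_1.{0, 0}
  have := @_root_.Cfsg.coordForm.fun_cases
  have := @_root_.Cfsg.planeJ.eq_def.{0}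
  have := @_root_.Cfsg.planeJ.eq_1.{0}
  have := @_root_.Cfsg.planeJ.fun_cases
  have := @_root_.Cfsg.IsFormRefl.eq_def.{0, 0}
  have := @_root_.Cfsg.IsFormRefl.eq_1.{0, 0}
  have := @_root_.Cfsg.IsFormRefl.fun_cases
  have := @_root_.Cfsg.IsOrthForm.mk.congr_simp.{0, 0}
  trivial
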