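import Cfsg.Agent.Grp.FrobKernel

/-!
# Fixed point free automorphisms of order four (Gorenstein–Herstein)
-/

set_option autoImplicit false
set_option linter.unusedSectionVars false
set_option linter.unusedVariables false
set_option linter.style.haveILetI false

namespace Cfsg

open Subgroup
open MonoidHom (FixedPointFree commutatorMap_apply)

universe u v

theorem mem_of_forall_pPart_mem {G : Type u} [Group G] [Finite G] {H : Subgroup G} {x : G}
    (h : ∀ (q : ℕ) [Fact q.Prime], q ∣ Nat.card G → pPart q x ∈ H) : x ∈ H := by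
  set C := zpowers x with hC
  set N := H.subgroupOf C with hN
  haveI : N.Normal := normal_of_comm N
  have : ((⟨x, mem_zpowers x⟩ : C) : C ⧸ N) = 1 := by
    rw [← orderOf_eq_one_iff]
    by_contra hne
    obtain ⟨q, hq, hd⟩ := Nat.exists_prime_and_dvd hne
    haveI := Fact.mk hq
    have hd' : q ∣ Nat.card G := hd.trans ((orderOf_map_dvd (QuotientGroup.mk' N) _).trans
      ((orderOf_coe _).symm.dvd.trans (orderOf_dvd_natCard x)))
    refine pPart_eq_one_iff.1 ?_ hd
    rw [← mk_pPart, QuotientGroup.eq_one_iff, hN, mem_subgroupOf, coe_pPart]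
    exact h q hd'
  exact mem_subgroupOf.1 ((QuotientGroup.eq_one_iff (N := N) _).1 this)

theorem eq_of_forall_pPart_eq {G : Type u} [Group G] [Finite G] {x y : G}
    (h : ∀ (q : ℕ) [Fact q.Prime], q ∣ Nat.card G → pPart q x = pPart q y) : x = y := by
  have hc : Commute x y := mem_centralizer_singleton_iff.1
    (mem_of_forall_pPart_mem (H := centralizer {y}) fun q _ hq => by
      rw [h q hq]
      exact mem_centralizer_singleton_iff.2 (commute_pPart_of_commute _ (Commute.refl y)).symm)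
  rw [← mul_inv_eq_one, ← mem_bot]
  refine mem_of_forall_pPart_mem fun q _ hq => ?_
  rw [pPart_mul_of_commute _ hc.inv_right, pPart_inv, h q hq, mul_inv_cancel]
  exact one_mem _

namespace Fpf

variable {K : Type u} [Group K] [Finite K]

/-- An involutory endomorphism of a group of odd order: `K = F · I`. -/
theorem exists_fix_mul_inv {θ : K →* K} (hθ : ∀ x, θ (θ x) = x) (ho : Odd (Nat.card K)) (g : K) :
    ∃ f x, θ f = f ∧ θ x = x⁻¹ ∧ f * x = g := by
  obtain ⟨m, hm⟩ := ho
  set w := (θ g)⁻¹ * g with hw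
  have h1 : θ w = w⁻¹ := by simp [hw, hθ]
  have h2 : w ^ (m + 1) * w ^ (m + 1) = w := by
    rw [← pow_add, show m + 1 + (m + 1) = (2 * m + 1) + 1 by ring, ← hm, pow_succ,
      pow_card_eq_one', one_mul]
  refine ⟨g * (w ^ (m + 1))⁻¹, w ^ (m + 1), ?_, by rw [map_pow, h1, inv_pow], by group⟩
  rw [map_mul, map_inv, map_pow, h1, inv_pow, inv_inv, eq_mul_inv_iff_mul_eq, mul_assoc, h2, hw]
  group

theorem card_fix_mul_card_inv {θ : K →* K} (hθ : ∀ x, θ (θ x) = x) (ho : Odd (Nat.card K)) :
    Nat.card (θ.eqLocus (MonoidHom.id K)) * Nat.card {x : K // θ x = x⁻¹} = Nat.card K := by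
  rw [← Nat.card_prod]
  refine Nat.card_congr (Equiv.ofBijective (fun z => (z.1 : K) * (z.2 : K)) ⟨?_, fun g => ?_⟩)
  · rintro ⟨⟨f, hf⟩, x, hx⟩ ⟨⟨f', hf'⟩, x', hx'⟩ h
    simp only at h
    have hf1 : θ f = f := hf
    have hf2 : θ f' = f' := hf'
    have h1 : x ^ 2 = x' ^ 2 := by
      have h2 := congrArg θ h
      rw [map_mul, map_mul, hf1, hf2, hx, hx'] at h2
      calc x ^ 2 = (f * x⁻¹)⁻¹ * (f * x) := by rw [sq]; group
        _ = x' ^ 2 := by rw [h, h2, sq]; group
    have h3 : x = x' := (powCoprime (G := K) (n := 2) (Nat.coprime_two_right.2 ho)).injective h1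
    subst h3
    rw [mul_left_inj] at h
    subst h
    rfl
  · obtain ⟨f, x, hf, hx, h⟩ := exists_fix_mul_inv hθ ho g
    exact ⟨(⟨f, hf⟩, ⟨x, hx⟩), h⟩

variable {φ : K →* K}

theorem odd_card_of_four (hn : φ^[4] = id) (hφ : FixedPointFree φ) : Odd (Nat.card K) := by
  classical
  have := Fintype.ofFinite K
  have h := Equiv.Perm.card_fixedPoints_modEq (f := (φ : K → K)) (p := 2) (n := 2) (by
    funext x; exact congrFun hn x)
  have h1 : Fintype.card (Function.fixedPoints (φ : K → K)) = 1 :=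
    Fintype.card_eq_one_iff.2 ⟨⟨1, map_one φ⟩, fun x => Subtype.ext (hφ x x.2)⟩
  rw [Nat.card_eq_fintype_card, Nat.odd_iff]
  rw [h1] at h
  exact h

/-- **Gorenstein–Herstein**: a finite group with a fixed point free automorphism of order
dividing four is solvable. -/
theorem isSolvable_of_four (hn : φ^[4] = id) (hφ : FixedPointFree φ) : Group.IsSolvable K := by
  classical
  have hi := injective_of_iterate (by norm_num) hn
  have ho := odd_card_of_four hn hφ
  set θ := φ.comp φ with hθd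
  have hθ : ∀ x, θ (θ x) = x := fun x => congrFun hn x
  set F := θ.eqLocus (MonoidHom.id K) with hF
  have hFφ : Inv φ F := fun x hx => congrArg φ (show φ (φ x) = x from hx)
  have hF2 : (res hFφ)^[2] = id := by ext x; exact x.2
  have hFinv : ∀ f ∈ F, φ f = f⁻¹ := fun f hf => congrArg Subtype.val
    (congrFun ((res_fpf hFφ hφ).coe_eq_inv_of_sq_eq_one hF2) ⟨f, hf⟩)
  have hFc : ∀ a ∈ F, ∀ b ∈ F, a * b = b * a := fun a ha b hb => congrArg Subtype.val
    ((res_fpf hFφ hφ).commute_all_of_involutive (fun x => congrFun hF2 x) ⟨a, ha⟩ ⟨b, hb⟩)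
  have hcomm : ∀ x, θ x = x⁻¹ → Commute x (φ x) := fun x hx => by
    have h1 := hφ.prod_pow_eq_one hn x
    have h2 : φ (φ x) = x⁻¹ := hx
    simp only [List.range_succ, List.range_zero, List.nil_append, List.map_cons, List.map_nil,
      List.cons_append, List.prod_cons, List.prod_nil, Function.iterate_succ_apply',
      Function.iterate_zero_apply, h2, map_inv, mul_one] at h1
    rw [← commutatorElement_eq_one_iff_commute, commutatorElement_def, ← h1]; group
  have hS : ∀ q : (Nat.card K).primeFactors, ∃ Q : Subgroup K, IsPGroup q Q ∧ ¬ (q : ℕ) ∣ Q.index ∧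
      Inv φ Q := fun q =>
    haveI := Fact.mk (Nat.prime_of_mem_primeFactors q.2)
    exists_inv_sylow hφ hi q
  choose Q hQ hQi hQφ using hS
  have hmem : ∀ (q : (Nat.card K).primeFactors) (x : K), θ x = x⁻¹ → IsPElt q x → x ∈ Q q := by
    intro q x hx hq
    haveI := Fact.mk (Nat.prime_of_mem_primeFactors q.2)
    have hn' : zpowers (φ x) ≤ normalizer (zpowers x : Set K) := zpowers_le.2
      (centralizer_le_normalizer _ (by
        rw [centralizer_zpowers]; exact mem_centralizer_singleton_iff.2 (hcomm x hx).symm))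
    refine Inv.le_sylow hφ hi (hQ q) (hQi q) (hQφ q) (R := zpowers x ⊔ zpowers (φ x))
      ((isPElt_iff_isPGroup_zpowers.1 hq).to_sup_of_normal_left'
        (isPElt_iff_isPGroup_zpowers.1 (hq.map φ)) hn') ?_ (mem_sup_left (mem_zpowers x))
    rw [inv_iff_map_le, Subgroup.map_sup, MonoidHom.map_zpowers, MonoidHom.map_zpowers]
    refine sup_le le_sup_right (le_sup_of_le_left (zpowers_le.2 ?_))
    rw [show φ (φ x) = x⁻¹ from hx]
    exact inv_mem (mem_zpowers x)
  -- counting
  have hcard : ∀ q : (Nat.card K).primeFactors,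
      Nat.card {x : K // x ∈ Q q ∧ θ x = x⁻¹} = F.relIndex (Q q) := by
    intro q
    have hθQ : Inv θ (Q q) := fun x hx => hQφ q _ (hQφ q x hx)
    have h1 := card_fix_mul_card_inv (θ := res hθQ) (fun x => Subtype.ext (hθ x))
      (ho.of_dvd_nat (card_subgroup_dvd_card _))
    have h2 : (res hθQ).eqLocus (MonoidHom.id _) = F.subgroupOf (Q q) := by
      ext x; exact Subtype.ext_iff
    have h3 : Nat.card {x : Q q // res hθQ x = x⁻¹} = Nat.card {x : K // x ∈ Q q ∧ θ x = x⁻¹} :=
      Nat.card_congr ⟨fun x => ⟨x.1, x.1.2, congrArg Subtype.val x.2⟩,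
        fun x => ⟨⟨x.1, x.2.1⟩, Subtype.ext x.2.2⟩, fun _ => rfl, fun _ => rfl⟩
    rw [h2, h3, ← (F.subgroupOf (Q q)).card_mul_index] at h1
    exact Nat.eq_of_mul_eq_mul_left Nat.card_pos h1
  have hI : Nat.card {x : K // θ x = x⁻¹} = F.index := by
    have h1 := card_fix_mul_card_inv hθ ho
    rw [← F.card_mul_index] at h1
    exact Nat.eq_of_mul_eq_mul_left Nat.card_pos h1
  have hpow : ∀ q : (Nat.card K).primeFactors, ∃ k, F.relIndex (Q q) = (q : ℕ) ^ k := fun q =>
    haveI := Fact.mk (Nat.prime_of_mem_primeFactors q.2)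
    (hQ q).index _
  have hdvd : ∀ q : (Nat.card K).primeFactors, F.relIndex (Q q) ∣ F.index := by
    intro q
    haveI := Fact.mk (Nat.prime_of_mem_primeFactors q.2)
    obtain ⟨S, hS, -, hSF, hSi⟩ := exists_sylow_le_of_le (p := q) IsPGroup.of_bot (bot_le (a := F))
    have hSQ : S ≤ Q q := Inv.le_sylow hφ hi (hQ q) (hQi q) (hQφ q) hS fun x hx => by
      rw [hFinv x (hSF hx)]; exact inv_mem hx
    have h1 : ¬ (q : ℕ) ∣ (Q q).relIndex F := fun h => hSi (h.trans (relIndex_dvd_of_le_left _ hSQ))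
    obtain ⟨k, hk⟩ := hpow q
    have h2 : F.relIndex (Q q) * (Q q).index = (Q q).relIndex F * F.index := by
      rw [← inf_relIndex_right, relIndex_mul_index inf_le_right, inf_comm, ← inf_relIndex_right (Q q),
        relIndex_mul_index inf_le_right]
    refine Nat.Coprime.dvd_of_dvd_mul_left ?_ (h2 ▸ dvd_mul_right _ _)
    rw [hk]
    exact Nat.Coprime.pow_left _ ((Nat.Prime.coprime_iff_not_dvd Fact.out).2 h1)
  have hθp : ∀ (q : ℕ) (x : K), θ x = x⁻¹ → θ (pPart q x) = (pPart q x)⁻¹ := fun q x hx => by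
    rw [map_pPart, hx, pPart_inv]
  set Φ : {x : K // θ x = x⁻¹} → ∀ q : (Nat.card K).primeFactors,
      {x : K // x ∈ Q q ∧ θ x = x⁻¹} := fun x q =>
    haveI := Fact.mk (Nat.prime_of_mem_primeFactors q.2)
    ⟨pPart q x, hmem q _ (hθp q x x.2) (isPElt_pPart _ _), hθp q x x.2⟩ with hΦ
  have hΦi : Function.Injective Φ := fun x y h => Subtype.ext (eq_of_forall_pPart_eq fun q _ hq =>
    congrArg Subtype.val (congrFun h ⟨q, Nat.mem_primeFactors.2 ⟨Fact.out, hq, Nat.card_pos.ne'⟩⟩))
  have hΦs : Function.Surjective Φ := by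
    refine ((Nat.bijective_iff_injective_and_card Φ).2 ⟨hΦi, le_antisymm
      (Nat.card_le_card_of_injective Φ hΦi) ?_⟩).2
    rw [Nat.card_pi, hI]
    refine Nat.le_of_dvd (index_pos F) (Finset.prod_dvd_of_isRelPrime ?_ fun q _ => by
      rw [hcard]; exact hdvd q)
    intro p _ q _ hpq
    obtain ⟨k, hk⟩ := hpow p
    obtain ⟨l, hl⟩ := hpow q
    simp only [Function.onFun, hcard, hk, hl]
    exact Nat.coprime_iff_isRelPrime.1 (Nat.Coprime.pow _ _ ((Nat.coprime_primes
      (Nat.prime_of_mem_primeFactors p.2) (Nat.prime_of_mem_primeFactors q.2)).2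
        fun e => hpq (Subtype.ext e)))
  have hpq : ∀ p q : (Nat.card K).primeFactors, p ≠ q → ∀ x y : K, x ∈ Q p → θ x = x⁻¹ →
      y ∈ Q q → θ y = y⁻¹ → Commute x y := by
    intro p q hne x y hx hx' hy hy'
    obtain ⟨z, hz⟩ := hΦs (Function.update (Function.update (fun r => ⟨1, one_mem _, by simp⟩)
      p ⟨x, hx, hx'⟩) q ⟨y, hy, hy'⟩)
    have h1 := congrArg Subtype.val (congrFun hz p)
    have h2 := congrArg Subtype.val (congrFun hz q)
    rw [Function.update_of_ne hne, Function.update_self] at h1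
    rw [Function.update_self] at h2
    change pPart p z.1 = x at h1
    change pPart q z.1 = y at h2
    rw [← h1, ← h2]
    exact commute_pPart_of_commute _ (commute_pPart_of_commute _ (Commute.refl _)).symm
  have hfit : ∀ x, θ x = x⁻¹ → x ∈ fittingSubgroup K := by
    intro x hx
    refine mem_of_forall_pPart_mem fun q _ hq => pCore_le_fittingSubgroup (p := q) ?_
    set q' : (Nat.card K).primeFactors := ⟨q, Nat.mem_primeFactors.2 ⟨Fact.out, hq, Nat.card_pos.ne'⟩⟩
    set J := closure {y : K | y ∈ Q q' ∧ θ y = y⁻¹} with hJ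
    have hJQ : J ≤ Q q' := (closure_le _).2 fun y hy => hy.1
    haveI : J.Normal := by
      rw [← normalizer_eq_top_iff, eq_top_iff]
      intro g _
      obtain ⟨f, y, hf, hy, rfl⟩ := exists_fix_mul_inv hθ ho g
      refine mul_mem (mem_normalizer_of_map_conj_le ?_) (mem_of_forall_pPart_mem fun r _ hr => ?_)
      · rw [hJ, MonoidHom.map_closure]
        refine closure_mono ?_
        rintro _ ⟨z, hz, rfl⟩
        have h1 : θ (f * z * f⁻¹) = (f * z * f⁻¹)⁻¹ := by
          rw [map_mul, map_mul, map_inv, hf, hz.2]; group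
        exact ⟨hmem q' _ h1 (isPElt_conj_iff.2 (isPElt_of_mem (hQ q') hz.1)), h1⟩
      · set r' : (Nat.card K).primeFactors :=
          ⟨r, Nat.mem_primeFactors.2 ⟨Fact.out, hr, Nat.card_pos.ne'⟩⟩
        have h1 : pPart r y ∈ Q r' := hmem r' _ (hθp r y hy) (isPElt_pPart _ _)
        by_cases e : q' = r'
        · exact le_normalizer (subset_closure ⟨e ▸ h1, hθp r y hy⟩)
        · refine centralizer_le_normalizer _ (le_centralizer_iff.1 ((closure_le _).2 ?_)
            (mem_zpowers _))
          intro z hz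
          rw [SetLike.mem_coe, centralizer_zpowers]
          exact mem_centralizer_singleton_iff.2 (hpq q' r' e z _ hz.1 hz.2 h1 (hθp r y hy))
    exact le_pCore ((hQ q').to_le hJQ)
      (subset_closure ⟨hmem q' _ (hθp q x hx) (isPElt_pPart _ _), hθp q x hx⟩)
  haveI : Group.IsSolvable (K ⧸ fittingSubgroup K) := by
    refine Group.isSolvable_of_comm fun a b => ?_
    obtain ⟨a, rfl⟩ := QuotientGroup.mk_surjective a
    obtain ⟨b, rfl⟩ := QuotientGroup.mk_surjective b
    obtain ⟨f, x, hf, hx, rfl⟩ := exists_fix_mul_inv hθ ho a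
    obtain ⟨f', x', hf', hx', rfl⟩ := exists_fix_mul_inv hθ ho b
    rw [QuotientGroup.mk_mul_of_mem _ (hfit x hx), QuotientGroup.mk_mul_of_mem _ (hfit x' hx'),
      ← QuotientGroup.mk_mul, ← QuotientGroup.mk_mul, hFc f hf f' hf']
  exact isSolvable_of_normal_of_quotient (fittingSubgroup K)

end Fpf

/-- Gorenstein–Herstein, ambient form. -/
theorem isSolvable_of_conj_fpf_four {G : Type u} [Group G] [Finite G] {K : Subgroup G} {g : G}
    (hg : g ∈ normalizer (K : Set G)) (hn : g ^ 4 ∈ centralizer (K : Set G))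
    (hf : ∀ k ∈ K, g * k = k * g → k = 1) : Group.IsSolvable K :=
  Fpf.isSolvable_of_four (conjEndo_iterate hg hn) (conjEndo_fpf hg hf)

end Cfsg
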