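import Cfsg.Agent.FT.BG03a
import Cfsg.Agent.Alg.CycloBig
import Mathlib.RingTheory.ZMod.UnitsCyclic

/-!
# Groups of automorphisms acting freely; primitive prime divisors for odd `q`
-/

set_option autoImplicit false
set_option linter.unusedSectionVars false

namespace Cfsg.FreeCyc

open Subgroup Cfsg.Agent.FT

universe u v

variable {R : Type u} {V : Type v} [Group R] [Finite R]

/-- An abelian group, or an `r`-group for odd `r`, acting freely on the nonidentity elements of a
nontrivial group is cyclic. -/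
theorem isCyclic_of_free [Group V] [Finite V] [Nontrivial V] (φ : R →* MulAut V)
    (hf : ∀ x, x ≠ 1 → ∀ v, φ x v = v → v = 1)
    (h : IsMulCommutative R ∨ ∃ r : ℕ, r.Prime ∧ r ≠ 2 ∧ IsPGroup r R) : IsCyclic R := by
  haveI : Finite (V ⋊[φ] R) := Finite.of_equiv _ SemidirectProduct.equivProd.symm
  let H : Subgroup (V ⋊[φ] R) := (SemidirectProduct.inl : V →* V ⋊[φ] R).range
  let K : Subgroup (V ⋊[φ] R) := (SemidirectProduct.inr : R →* V ⋊[φ] R).range
  let e : R ≃* K := MonoidHom.ofInjective SemidirectProduct.inr_injective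
  have hH : H ≠ ⊥ := fun h0 => by
    obtain ⟨v, hv⟩ := exists_ne (1 : V)
    have : (SemidirectProduct.inl v : V ⋊[φ] R) ∈ H := ⟨v, rfl⟩
    rw [h0, mem_bot] at this
    exact hv (SemidirectProduct.inl_injective (this.trans (map_one _).symm))
  have hn : K ≤ normalizer (H : Set (V ⋊[φ] R)) := by
    haveI : H.Normal := by
      rw [show H = _ from SemidirectProduct.range_inl_eq_ker_rightHom]; infer_instance
    rw [normalizer_eq_top]
    exact le_top
  have hs : SemiRegular H K := by
    rintro _ ⟨x, rfl⟩ hx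
    rw [eq_bot_iff]
    rintro _ ⟨⟨v, rfl⟩, hv⟩
    have h1 := mem_centralizer_singleton_iff.1 hv
    have h2 : φ x v = v := SemidirectProduct.inl_injective (φ := φ) (by
      rw [SemidirectProduct.inl_aut, ← h1, map_inv, mul_inv_cancel_right])
    rw [mem_bot, hf x (fun e => hx (by rw [e, map_one])) v h2, map_one]
  suffices IsCyclic K from isCyclic_of_surjective e.symm e.symm.surjective
  rcases h with h | ⟨r, hr, hr2, h⟩
  · refine abelian_regular_cyclic ⟨⟨fun a b => ?_⟩⟩ hH hn hs
    obtain ⟨a, rfl⟩ := e.surjective a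
    obtain ⟨b, rfl⟩ := e.surjective b
    rw [← map_mul, ← map_mul, mul_comm' a b]
  · haveI := Fact.mk hr
    have hK : IsPGroup r K := h.of_equiv e
    refine odd_regular_pgroup_cyclic hK ?_ hH hn hs
    obtain ⟨k, hk⟩ := hK.exists_card_eq
    rw [hk]
    exact (hr.odd_of_ne_two hr2).pow

theorem le_two_pow_totient {n : ℕ} (h6 : n ≠ 6) : n ≤ 2 ^ n.totient := by
  have h1 := (CycBig.le_two_mul_totient_sq n).1
  by_cases h : n.totient ≤ 6
  · have h2 : n ≤ 72 := h1.trans (by nlinarith)
    have h3 : ∀ m ≤ 72, m ≠ 6 → m ≤ 2 ^ m.totient := by decide +kernel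
    exact h3 n h2 h6
  · refine h1.trans ?_
    generalize n.totient = k at h
    obtain ⟨k, rfl⟩ : ∃ j, k = j + 7 := ⟨k - 7, by omega⟩
    clear h
    induction k with
    | zero => norm_num
    | succ k ih =>
      rw [show k + 1 + 7 = k + 7 + 1 by ring, pow_succ 2]
      nlinarith [Nat.zero_le k, Nat.zero_le (k ^ 2)]

/-- Zsigmondy's theorem for odd `q` and `n ≥ 3`. -/
theorem exists_zsig {q n : ℕ} (hq : 1 < q) (ho : Odd q) (hn : 3 ≤ n) :
    ∃ r : ℕ, r.Prime ∧ r ∣ q ^ n - 1 ∧ ∀ i, 0 < i → i < n → ¬ r ∣ q ^ i - 1 := by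
  by_cases h36 : q = 3 ∧ n = 6
  · obtain ⟨rfl, rfl⟩ := h36
    refine ⟨7, by norm_num, by norm_num, fun i h0 h1 => ?_⟩
    interval_cases i <;> norm_num
  have hq3 : 3 ≤ q := by obtain ⟨k, rfl⟩ := ho; omega
  have hlt := CycBig.lt_cyc (n := n) (q := q) (by omega) (by omega)
  have hbig : n < CycBig.cyc n q := by
    refine lt_of_le_of_lt ?_ hlt
    by_cases h6 : n = 6
    · subst h6
      have h5 : 5 ≤ q := by obtain ⟨k, rfl⟩ := ho; omega
      rw [show Nat.totient 6 = 2 by decide]
      have : 4 ≤ q - 1 := by omega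
      nlinarith
    · exact (le_two_pow_totient h6).trans (Nat.pow_le_pow_left (by omega) _)
  obtain ⟨r, hr, h1, h2⟩ : ∃ r : ℕ, r.Prime ∧ r ∣ CycBig.cyc n q ∧ ¬ r ∣ n := by
    by_contra hc
    push Not at hc
    refine (Nat.le_of_dvd (by omega) ?_).not_gt hbig
    rw [Nat.dvd_iff_prime_pow_dvd_dvd]
    intro l k hl hk
    rcases k with _ | _ | k
    · simp
    · simpa using hc l hl (by simpa using hk)
    · exact absurd ((pow_dvd_pow l (by omega)).trans hk) (CycBig.not_sq_dvd hl (by omega) hq ho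
        (hc l hl ((dvd_pow_self l (by omega)).trans hk)))
  haveI := Fact.mk hr
  refine ⟨r, hr, h1.trans (CycBig.cyc_dvd n hq.le), fun i h0 hi hd => ?_⟩
  refine (CycBig.isPrimitiveRoot_of_dvd h1 h2).pow_ne_one_of_pos_of_lt h0.ne' hi ?_
  rw [← ZMod.natCast_eq_zero_iff, Nat.cast_sub (Nat.one_le_pow _ _ (by omega))] at hd
  simpa [sub_eq_zero] using hd

/-- An `r`-group of automorphisms of a group of order `p ^ n` acts freely if `r` is a primitive
prime divisor. -/
theorem free_of_zsig [Group V] [Finite V] {p n r : ℕ} (hp : p.Prime) [hr : Fact r.Prime]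
    (hrp : r ≠ p) (hV : Nat.card V = p ^ n) (hz : ∀ i, 0 < i → i < n → ¬ r ∣ p ^ i - 1)
    (φ : R →* MulAut V) (hφ : Function.Injective φ) (hR : IsPGroup r R) {x : R} (hx : x ≠ 1)
    {v : V} (hv : φ x v = v) : v = 1 := by
  letI : MulDistribMulAction (zpowers x) V :=
    MulDistribMulAction.compHom V (φ.comp (zpowers x).subtype)
  let F : Subgroup V := FixedPoints.subgroup (zpowers x) V
  have h1 : Nat.card V ≡ Nat.card F [MOD r] :=
    (hR.to_subgroup (zpowers x)).card_modEq_card_fixedPoints V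
  obtain ⟨c, hc, hF⟩ := (Nat.dvd_prime_pow hp).1 (hV ▸ F.card_subgroup_dvd_card)
  have hvF : v ∈ F := by
    rintro ⟨_, k, rfl⟩
    change φ (x ^ k) v = v
    rw [map_zpow]
    exact MulAction.mem_stabilizer_iff.1
      (zpow_mem (show φ x ∈ MulAction.stabilizer (MulAut V) v from hv) k)
  have hcn : c ≠ n := fun e => by
    have h2 : F = ⊤ := eq_top_of_card_eq _ (by rw [hF, hV, e])
    refine hx (hφ ?_)
    rw [map_one]
    ext w
    exact (h2 ▸ mem_top w : w ∈ F) ⟨x, mem_zpowers x⟩
  have hc0 : c = 0 := by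
    by_contra h0
    refine hz (n - c) (by omega) (by omega) ?_
    rw [hV, hF, show n = c + (n - c) by omega, pow_add] at h1
    have h3 : p ^ (n - c) ≡ 1 [MOD r] := by
      refine Nat.ModEq.cancel_left_of_coprime (c := p ^ c) ?_ (by rwa [mul_one])
      exact Nat.Coprime.pow_right _ ((Nat.coprime_primes hr.out hp).2 hrp)
    exact (Nat.modEq_iff_dvd' (Nat.one_le_pow _ _ hp.pos)).1 h3.symm
  rw [hc0, pow_zero, Subgroup.card_eq_one] at hF
  rwa [hF, mem_bot] at hvF

/-- A `p'`-group of automorphisms of an elementary abelian group of rank at most two that fixes a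
nonidentity element is cyclic. -/
theorem isCyclic_of_fix [CommGroup V] [Finite V] {p : ℕ} (hp : p.Prime) (he : ∀ w : V, w ^ p = 1)
    (hV : Nat.card V ∣ p ^ 2) (φ : R →* MulAut V) (hφ : Function.Injective φ)
    (hR : ¬ p ∣ Nat.card R) {v : V} (hv : v ≠ 1) (hfix : ∀ x, φ x v = v) : IsCyclic R := by
  haveI := Fact.mk hp
  have hW : ∀ x, ∀ w ∈ zpowers v, φ x w = w := by
    rintro x _ ⟨k, rfl⟩
    simp only [map_zpow, hfix]
  let ψ : R →* MulAut (V ⧸ zpowers v) :=
    { toFun := fun x => QuotientGroup.congr _ _ (φ x) (by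
        ext w
        constructor
        · rintro ⟨y, hy, rfl⟩
          exact (hW x y hy).symm ▸ hy
        · exact fun hw => ⟨w, hw, hW x w hw⟩)
      map_one' := by
        ext w
        obtain ⟨w, rfl⟩ := QuotientGroup.mk_surjective w
        simp
      map_mul' := fun a b => by
        ext w
        obtain ⟨w, rfl⟩ := QuotientGroup.mk_surjective w
        simp }
  have hψ : Function.Injective ψ := by
    rw [injective_iff_map_eq_one]
    intro x hx
    have h1 : ∀ w, φ x w / w ∈ zpowers v := fun w => by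
      rw [← QuotientGroup.eq_iff_div_mem]
      exact congrArg (fun σ : MulAut (V ⧸ zpowers v) => σ (w : V ⧸ zpowers v)) hx
    have h2 : ∀ (k : ℕ) w, φ (x ^ k) w = w * (φ x w / w) ^ k := fun k w => by
      induction k with
      | zero => simp
      | succ k ih =>
        rw [pow_succ', map_mul, MulAut.mul_apply, ih, map_mul, hW x _ (pow_mem (h1 w) k), pow_succ']
        rw [← mul_assoc, mul_div_cancel]
    have h3 : x ^ p = 1 := hφ (by
      ext w
      rw [h2, he, map_one, mul_one, MulAut.one_apply])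
    by_contra hx1
    exact hR (orderOf_eq_prime h3 hx1 ▸ orderOf_dvd_natCard x)
  have hc : Nat.card (V ⧸ zpowers v) ∣ p := by
    rw [card_eq_card_quotient_mul_card_subgroup (zpowers v), Nat.card_zpowers,
      orderOf_eq_prime (he v) hv, sq] at hV
    exact Nat.dvd_of_mul_dvd_mul_right hp.pos hV
  haveI : IsCyclic (MulAut (V ⧸ zpowers v)) := by
    rcases (Nat.dvd_prime hp).1 hc with h | h
    · haveI := (Nat.card_eq_one_iff_unique.1 h).1
      haveI : Subsingleton (MulAut (V ⧸ zpowers v)) :=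
        ⟨fun a b => MulEquiv.ext fun _ => Subsingleton.elim _ _⟩
      exact isCyclic_of_subsingleton
    · haveI := isCyclic_of_prime_card h
      haveI : IsCyclic (ZMod (Nat.card (V ⧸ zpowers v)))ˣ := ZMod.isCyclic_units_prime (h ▸ hp)
      exact isCyclic_of_surjective _ (IsCyclic.mulAutMulEquiv (V ⧸ zpowers v)).symm.surjective
  exact isCyclic_of_injective ψ hψ

end Cfsg.FreeCyc
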