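import Cfsg.Agent.Grp.Sharp3
import Mathlib.LinearAlgebra.Matrix.GeneralLinearGroup.Card
import Mathlib.Data.Fintype.CardEmbedding
import Mathlib.GroupTheory.Sylow
import Mathlib.LinearAlgebra.Matrix.ProjectiveSpecialLinearGroup
import Cfsg.Agent.Char.Basic

/-!
# Groups of order `(q + 1) q (q - 1)` whose involutions have elementary centralizers of order `q`
-/

set_option autoImplicit false
set_option linter.unusedSectionVars false

namespace Cfsg

open Subgroup MulAction
open scoped Pointwise MatrixGroups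

universe u

/-- A group acting freely on an invariant set has order dividing the size of the set. -/
theorem card_dvd_of_free_on {A X : Type*} [Group A] [MulAction A X] [Finite X] (T : Set X)
    (hT : ∀ a : A, ∀ x ∈ T, a • x ∈ T) (hf : ∀ a : A, ∀ x ∈ T, a • x = x → a = 1) :
    Nat.card A ∣ Nat.card T := by
  let S : SubMulAction A X := ⟨T, fun a {x} hx => hT a x hx⟩
  have h : ∀ b : S, stabilizer A b = ⊥ := fun b => by
    rw [eq_bot_iff]
    intro a ha
    exact hf a b.1 b.2 (congrArg Subtype.val ha)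
  have := Nat.card_congr (MulAction.selfEquivOrbitsQuotientProd h)
  rw [Nat.card_prod] at this
  exact Dvd.intro_left _ this.symm

theorem IsSharp3.of_card {G : Type u} [Group G] [Finite G] {α : Type*} [Finite α] [MulAction G α]
    (hfix : ∀ {g : G} {a b c : α}, a ≠ b → a ≠ c → b ≠ c → g • a = a → g • b = b → g • c = c →
      g = 1)
    (hG : Nat.card G = Nat.card α * (Nat.card α - 1) * (Nat.card α - 2)) : IsSharp3 G α := by
  classical
  refine ⟨fun {a b c a' b' c'} h1 h2 h3 h1' h2' h3' => ?_, hfix⟩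
  let _ := Fintype.ofFinite α
  have inj : ∀ {a b c : α}, a ≠ b → a ≠ c → b ≠ c → Function.Injective ![a, b, c] := by
    intro a b c h1 h2 h3 i j h
    fin_cases i <;> fin_cases j <;> simp_all [eq_comm]
  let f : G → (Fin 3 ↪ α) := fun g => ⟨fun i => g • ![a, b, c] i,
    (MulAction.injective g).comp (inj h1 h2 h3)⟩
  have hf : Function.Injective f := fun g g' e => by
    have e0 : g • a = g' • a := congrArg (fun φ : Fin 3 ↪ α => φ 0) e
    have e1 : g • b = g' • b := congrArg (fun φ : Fin 3 ↪ α => φ 1) e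
    have e2 : g • c = g' • c := congrArg (fun φ : Fin 3 ↪ α => φ 2) e
    have := hfix (g := g'⁻¹ * g) h1 h2 h3 (by rw [mul_smul, e0, inv_smul_smul])
      (by rw [mul_smul, e1, inv_smul_smul]) (by rw [mul_smul, e2, inv_smul_smul])
    exact (inv_mul_eq_one.1 this).symm
  have hb : Function.Bijective f := by
    rw [Nat.bijective_iff_injective_and_card]
    refine ⟨hf, ?_⟩
    rw [hG, Nat.card_eq_fintype_card (α := Fin 3 ↪ α), Fintype.card_embedding_eq,
      Nat.card_eq_fintype_card]
    simp [Nat.descFactorial]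
    ring
  obtain ⟨g, hg⟩ := hb.2 ⟨![a', b', c'], inj h1' h2' h3'⟩
  exact ⟨g, congrArg (fun φ : Fin 3 ↪ α => φ 0) hg, congrArg (fun φ : Fin 3 ↪ α => φ 1) hg,
    congrArg (fun φ : Fin 3 ↪ α => φ 2) hg⟩

theorem card_SL2 (F : Type*) [Field F] [Fintype F] :
    Nat.card SL(2, F) = (Fintype.card F + 1) * Fintype.card F * (Fintype.card F - 1) := by
  classical
  have h1 := Matrix.card_GL_field (𝔽 := F) 2
  have h2 : Nat.card SL(2, F) = Nat.card (Matrix.GeneralLinearGroup.det (n := Fin 2) (R := F)).ker := by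
    refine Nat.card_congr ⟨fun s => ⟨s.toGL, ?_⟩, fun g => ⟨g.1.1, ?_⟩, fun s => rfl,
      fun g => Subtype.ext (Units.ext rfl)⟩
    · rw [MonoidHom.mem_ker]
      exact Units.ext s.2
    · exact congrArg Units.val g.2
  have h3 : Function.Surjective (Matrix.GeneralLinearGroup.det (n := Fin 2) (R := F)) := by
    intro a
    refine ⟨Matrix.GeneralLinearGroup.mkOfDetNeZero !![(a : F), 0; 0, 1] (by simp), ?_⟩
    ext
    simp
  have h4 := (Matrix.GeneralLinearGroup.det (n := Fin 2) (R := F)).ker.card_mul_index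
  rw [index_ker, MonoidHom.range_eq_top.2 h3, card_top, Nat.card_units, h1, ← h2,
    Nat.card_eq_fintype_card (α := F)] at h4
  have hq : 1 < Fintype.card F := Fintype.one_lt_card
  obtain ⟨m, hm⟩ : ∃ m, Fintype.card F = m + 1 := ⟨_, (Nat.succ_pred_eq_of_pos (by omega)).symm⟩
  rw [hm] at h4 hq ⊢
  simp only [Fin.prod_univ_two, Fin.val_zero, Fin.val_one, pow_zero, pow_one,
    Nat.add_sub_cancel] at h4 ⊢
  rw [show (m + 1) ^ 2 - 1 = (m + 1 + 1) * m from Nat.sub_eq_of_eq_add (by ring),
    show (m + 1) ^ 2 - (m + 1) = (m + 1) * m from Nat.sub_eq_of_eq_add (by ring)] at h4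
  refine Nat.eq_of_mul_eq_mul_right (show 0 < m by omega) (h4.trans (by ring))

theorem card_SL2_le_two_mul_card_PSL2 (F : Type*) [Field F] [Fintype F] :
    Nat.card SL(2, F) ≤ 2 * Nat.card (Matrix.ProjectiveSpecialLinearGroup (Fin 2) F) := by
  classical
  have h1 := (center SL(2, F)).card_mul_index
  have h2 : Nat.card (center SL(2, F)) ≤ 2 := by
    rw [Nat.card_congr (Matrix.SpecialLinearGroup.center_equiv_rootsOfUnity' (R := F) (0 : Fin 2)).toEquiv]
    have := card_rootsOfUnity F (Fintype.card (Fin 2))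
    simpa [Nat.card_eq_fintype_card] using this
  rw [← h1]
  exact Nat.mul_le_mul_right _ h2

section S3

variable {G : Type u} [Group G] [Finite G] {q : ℕ}

/-- Every involution has an elementary abelian centralizer of order `q`. -/
def ElemInvol (G : Type u) [Group G] (q : ℕ) : Prop :=
  ∀ z : G, orderOf z = 2 →
    Nat.card (centralizer ({z} : Set G)) = q ∧ ∀ h ∈ centralizer ({z} : Set G), h * h = 1

theorem comm_of_forall_mul_self {H : Subgroup G} (h : ∀ a ∈ H, a * a = 1) {a b : G} (ha : a ∈ H)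
    (hb : b ∈ H) : a * b = b * a := by
  have h1 := h _ (H.mul_mem ha hb)
  calc a * b = (a * b) * ((b * a) * (a * b) * (b * a) * (a * b)) := by
        rw [show (b * a) * (a * b) = b * (a * a) * b by group, h a ha, mul_one, h b hb, one_mul,
          show (b * a) * (a * b) = b * (a * a) * b by group, h a ha, mul_one, h b hb, mul_one]
    _ = (a * b * b * a) * (a * b * b * a) * (a * b) := by group
    _ = b * a := by
        rw [show a * b * b * a = a * (b * b) * a by group, h b hb, mul_one, h a ha, one_mul, one_mul]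
        calc a * b = (b * a) * (a * b) * (a * b) := by
              rw [show (b * a) * (a * b) = b * (a * a) * b by group, h a ha, mul_one, h b hb, one_mul]
          _ = b * a := by rw [mul_assoc, h1, mul_one]

theorem orderOf_two_of_mul_self {a : G} (h : a * a = 1) (h1 : a ≠ 1) : orderOf a = 2 :=
  orderOf_eq_prime (by rw [pow_two, h]) h1

theorem mul_self_of_orderOf {a : G} (h : orderOf a = 2) : a * a = 1 := by
  rw [← pow_two, ← h, pow_orderOf_eq_one]

theorem ne_one_of_orderOf_two {a : G} (h : orderOf a = 2) : a ≠ 1 := fun e => by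
  rw [e, orderOf_one] at h
  omega

namespace ElemInvol

theorem isPGroup (h : ElemInvol G q) {z : G} (hz : orderOf z = 2) :
    IsPGroup 2 (centralizer ({z} : Set G)) := fun a =>
  ⟨1, Subtype.ext (by simpa [pow_two] using (h z hz).2 a a.2)⟩

theorem centralizer_eq_of_mem (h : ElemInvol G q) {z s : G} (hz : orderOf z = 2)
    (hs : s ∈ centralizer ({z} : Set G)) (h1 : s ≠ 1) :
    centralizer ({s} : Set G) = centralizer ({z} : Set G) := by
  have hs2 := orderOf_two_of_mul_self ((h z hz).2 s hs) h1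
  symm
  apply Subgroup.eq_of_le_of_card_ge
  · intro a ha
    exact mem_centralizer_singleton_iff.2 (comm_of_forall_mul_self (h z hz).2 ha hs)
  · rw [(h z hz).1, (h s hs2).1]

variable (h : ElemInvol G q) (hG : Nat.card G = (q + 1) * q * (q - 1)) (hq : Even q)
include h hG hq

theorem two_le : 2 ≤ q := by
  have h1 : 0 < Nat.card G := Nat.card_pos
  rw [hG] at h1
  obtain ⟨k, rfl⟩ := hq
  rcases k with _ | k
  · simp at h1
  · omega

theorem centralizer_eq (S : Sylow 2 G) {s : G} (hs : s ∈ (S : Subgroup G)) (h1 : s ≠ 1) :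
    centralizer ({s} : Set G) = S := by
  have h2 := h.two_le hG hq
  obtain ⟨z, hz⟩ := exists_prime_orderOf_dvd_card' (G := G) 2
    (hG ▸ (hq.two_dvd.mul_left _).mul_right _)
  have hi : ¬ 2 ∣ (centralizer ({z} : Set G)).index := by
    have := (centralizer ({z} : Set G)).card_mul_index
    rw [(h z hz).1, hG] at this
    have h3 : (centralizer ({z} : Set G)).index = (q + 1) * (q - 1) :=
      Nat.eq_of_mul_eq_mul_left (by omega : 0 < q) (this.trans (by ring))
    rw [h3, Nat.prime_two.dvd_mul]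
    obtain ⟨k, rfl⟩ := hq
    omega
  obtain ⟨g, hg⟩ := MulAction.exists_smul_eq G ((h.isPGroup hz).toSylow hi) S
  have hz' : orderOf (g * z * g⁻¹) = 2 := by
    rw [← hz]; exact (MulAut.conj g).orderOf_eq z
  have e : (S : Subgroup G) = centralizer ({g * z * g⁻¹} : Set G) := by
    ext a
    rw [← hg, Sylow.coe_subgroup_smul, mem_pointwise_smul_iff_inv_smul_mem,
      IsPGroup.toSylow_coe, mem_centralizer_singleton_iff, mem_centralizer_singleton_iff]
    simp only [← map_inv, MulAut.smul_def, MulAut.conj_apply, inv_inv]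
    constructor
    · intro e
      calc a * (g * z * g⁻¹) = g * (g⁻¹ * a * g * z) * g⁻¹ := by group
        _ = _ := by rw [e]; group
    · intro e
      calc g⁻¹ * a * g * z = g⁻¹ * (a * (g * z * g⁻¹)) * g := by group
        _ = _ := by rw [e]; group
  rw [e] at hs ⊢
  exact h.centralizer_eq_of_mem hz' hs h1

theorem card_sylow (S : Sylow 2 G) : Nat.card S = q := by
  have h2 := h.two_le hG hq
  have : (S : Subgroup G) ≠ ⊥ := S.ne_bot_of_dvd_card (hG ▸ (hq.two_dvd.mul_left _).mul_right _)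
  obtain ⟨⟨s, hs⟩, h1⟩ := (ne_bot_iff_exists_ne_one.1 this)
  have h1' : s ≠ 1 := fun e => h1 (Subtype.ext e)
  obtain ⟨k, hk⟩ := IsPGroup.iff_orderOf.1 S.isPGroup' ⟨s, hs⟩
  rw [Subgroup.orderOf_mk] at hk
  have hd : 2 ∣ orderOf s := by
    rw [hk]
    refine dvd_pow_self _ fun e => h1' ?_
    rwa [e, pow_zero, orderOf_eq_one_iff] at hk
  have hz : orderOf (s ^ (orderOf s / 2)) = 2 := orderOf_pow_orderOf_div (orderOf_pos s).ne' hd
  rw [← (h _ hz).1, h.centralizer_eq hG hq S (pow_mem hs _) (ne_one_of_orderOf_two hz)]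

theorem eq_of_smul_eq {S T : Sylow 2 G} {s : G} (hs : s ∈ (S : Subgroup G)) (h1 : s ≠ 1)
    (e : s • T = T) : T = S := by
  have h2 : s ∈ (T : Subgroup G) := by
    have h3 : IsPGroup 2 (zpowers s) := S.isPGroup'.to_le (zpowers_le.2 hs)
    have := h3.inf_normalizer_sylow T
    have h4 : s ∈ zpowers s ⊓ normalizer ((T : Subgroup G) : Set G) :=
      ⟨mem_zpowers s, Sylow.smul_eq_iff_mem_normalizer.1 e⟩
    exact (this.le h4).2
  apply Sylow.ext
  rw [← h.centralizer_eq hG hq S hs h1, h.centralizer_eq hG hq T h2 h1]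

theorem card_eq : Nat.card (Sylow 2 G) = q + 1 := by
  have h2 := h.two_le hG hq
  obtain ⟨S⟩ : Nonempty (Sylow 2 G) := inferInstance
  have hS := h.card_sylow hG hq S
  have hi : (S : Subgroup G).index = (q + 1) * (q - 1) := by
    have := (S : Subgroup G).card_mul_index
    rw [hS, hG] at this
    exact Nat.eq_of_mul_eq_mul_left (by omega : 0 < q) (this.trans (by ring))
  have h3 := S.card_dvd_index
  have h4 := card_dvd_of_free_on (A := (S : Subgroup G)) ({S}ᶜ : Set (Sylow 2 G))
    (fun a T hT e => hT (by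
      have : a • S = S := Sylow.smul_eq_iff_mem_normalizer.2 (le_normalizer a.2)
      exact MulAction.injective a (e.trans this.symm)))
    (fun a T hT e => by
      by_contra h1
      exact hT (h.eq_of_smul_eq hG hq a.2 (fun e' => h1 (Subtype.ext e')) e))
  rw [hS] at h4
  have h5 : Nat.card ({S}ᶜ : Set (Sylow 2 G)) + 1 = Nat.card (Sylow 2 G) := by
    rw [Nat.card_coe_set_eq, ← Set.ncard_singleton S, add_comm, Set.ncard_add_ncard_compl]
  obtain ⟨k, hk⟩ := h4
  rw [hi, ← h5, hk] at h3
  rw [← h5, hk]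
  obtain ⟨r, hr⟩ := h3
  obtain ⟨m, rfl⟩ : ∃ m, q = m + 1 := ⟨q - 1, by omega⟩
  rw [Nat.add_sub_cancel] at hr
  have h6 : m + 1 ∣ r + 1 := by
    refine (Nat.dvd_add_right (dvd_mul_right (m + 1) (k * r))).1 ⟨m + 1, ?_⟩
    linarith
  have h7 := Nat.le_of_dvd (by omega) h6
  have hk1 : k ≤ 1 := by
    by_contra hk2
    have : ((m + 1) * 2 + 1) * m ≤ ((m + 1) * k + 1) * r :=
      Nat.mul_le_mul (by nlinarith) (by omega)
    nlinarith
  have hk0 : k ≠ 0 := by
    rintro rfl
    have : (S : Subgroup G) ≠ ⊥ := fun e => by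
      rw [e, card_bot] at hS
      omega
    obtain ⟨⟨s, hs⟩, h1⟩ := (ne_bot_iff_exists_ne_one.1 this)
    have h1' : s ≠ 1 := fun e => h1 (Subtype.ext e)
    have hu : Subsingleton (Sylow 2 G) := by
      rw [← Finite.card_le_one_iff_subsingleton, ← h5, hk, mul_zero]
    have hn : (S : Subgroup G).Normal := S.normal_of_subsingleton
    have h8 : Nat.card {x : G // IsConj s x} ≤ Nat.card S :=
      Nat.card_le_card_of_injective (fun x => ⟨x.1, by
        obtain ⟨g, hg⟩ := isConj_iff.1 x.2
        exact hg ▸ hn.conj_mem s hs g⟩) fun x y e => Subtype.ext (congrArg Subtype.val e :)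
    rw [card_isConj_eq_index, h.centralizer_eq hG hq S hs h1', hi, hS, Nat.add_sub_cancel] at h8
    nlinarith
  rw [show k = 1 by omega, mul_one]

theorem isSharp3 : IsSharp3 G (Sylow 2 G) := by
  have h2 := h.two_le hG hq
  refine IsSharp3.of_card (fun {g S T U} h1 h3 h4 e1 e2 e3 => ?_)
    (by rw [h.card_eq hG hq, hG]; rfl)
  have hinj : Function.Injective fun s : (S : Subgroup G) => (⟨(s : G) • T, fun e => h1 (by
      have : (s : G) • S = S := Sylow.smul_eq_iff_mem_normalizer.2 (le_normalizer s.2)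
      exact MulAction.injective (s : G) (this.trans e.symm))⟩ : ({S}ᶜ : Set (Sylow 2 G))) := by
    intro s s' e
    have e' : (s : G) • T = (s' : G) • T := congrArg Subtype.val e
    by_contra hne
    refine h1 (h.eq_of_smul_eq hG hq (mul_mem (inv_mem s'.2) s.2) (fun e'' => hne ?_)
      (by rw [mul_smul, e', inv_smul_smul])).symm
    exact Subtype.ext (inv_mul_eq_one.1 e'').symm
  have h5 : Nat.card ({S}ᶜ : Set (Sylow 2 G)) + 1 = Nat.card (Sylow 2 G) := by
    rw [Nat.card_coe_set_eq, ← Set.ncard_singleton S, add_comm, Set.ncard_add_ncard_compl]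
  rw [h.card_eq hG hq] at h5
  obtain ⟨s, hs⟩ := ((Nat.bijective_iff_injective_and_card _).2 ⟨hinj, by
    rw [h.card_sylow hG hq]; exact (Nat.succ_injective h5).symm⟩).2 ⟨U, h3.symm⟩
  have hs' : (s : G) • T = U := congrArg Subtype.val hs
  have hs1 : (s : G) ≠ 1 := fun e => h4 (by rw [← hs', e, one_smul])
  have hc : g * s * g⁻¹ ∈ (S : Subgroup G) :=
    (mem_normalizer_iff.1 (Sylow.smul_eq_iff_mem_normalizer.1 e1) _).1 s.2
  have h6 : (s : G)⁻¹ * (g * s * g⁻¹) = 1 := by
    by_contra hne
    refine h1 (h.eq_of_smul_eq hG hq (mul_mem (inv_mem s.2) hc) hne ?_).symm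
    rw [mul_smul, mul_smul, mul_smul, inv_smul_eq_iff.2 e2.symm, hs', e3, ← hs', inv_smul_smul]
  have h7 : g ∈ (S : Subgroup G) := by
    rw [← h.centralizer_eq hG hq S s.2 hs1, mem_centralizer_singleton_iff]
    rw [inv_mul_eq_one] at h6
    conv_rhs => rw [h6]
    group
  by_contra hne
  exact h1 (h.eq_of_smul_eq hG hq h7 hne e2).symm

theorem exists_mulEquiv : ∃ (a : ℕ) (F : Type) (_ : Field F) (_ : Fintype F),
    q = 2 ^ a ∧ Fintype.card F = 2 ^ a ∧ Nonempty (G ≃* SL(2, F)) := by
  have h2 := h.two_le hG hq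
  have h3 := h.card_eq hG hq
  obtain ⟨a, -, h4, F, _, _, h5, h6⟩ := (h.isSharp3 hG hq).exists_mulEquiv_SL2
    (h3 ▸ hq.add_one) (by omega)
  exact ⟨a, F, _, _, by omega, h5, h6⟩

end ElemInvol

end S3

end Cfsg

set_option linter.all false in
theorem Cfsg.Rz.Grp_InvolSL2_0 : True := by
  have := @_root_.Cfsg.ElemInvol.eq_def.{0}
  have := @_root_.Cfsg.ElemInvol.eq_1.{0}
  have := @_root_.Cfsg.ElemInvol.fun_cases
  trivial
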