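import Cfsg.Agent.Grp.FpfFour
import Cfsg.Agent.Grp.Bounded

/-!
# `p`-groups with many fixed point free elements
-/

set_option autoImplicit false
set_option linter.unusedSectionVars false
set_option linter.unusedVariables false
set_option linter.style.haveILetI false

namespace Cfsg

open Subgroup
open scoped commutatorElement IsMulCommutative

universe u v

namespace OneClass

/-- A semiregular automorphism has order dividing `|U| - 1`. -/
theorem iterate_card_sub_one {U : Type u} [Group U] [Finite U] (ψ : U →* U)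
    (hi : Function.Injective ψ) (h : ∀ (k : ℕ) (y : U), y ≠ 1 → ψ^[k] y = y → ψ^[k] = id) :
    ψ^[Nat.card U - 1] = id := by
  classical
  have := Fintype.ofFinite U
  set σ : Equiv.Perm U := Equiv.ofBijective ψ (Finite.injective_iff_bijective.1 hi) with hσ
  have hσk : ∀ k : ℕ, ⇑(σ ^ k) = ψ^[k] := fun k => Equiv.Perm.coe_pow σ k
  have hB := MulAction.sum_card_fixedBy_eq_card_orbits_mul_card_group (zpowers σ) U
  have h1 : ∀ a : zpowers σ, a ≠ 1 → Fintype.card (MulAction.fixedBy U a) = 1 := by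
    rintro ⟨a, ha⟩ hne
    obtain ⟨k, rfl⟩ := mem_powers_iff_mem_zpowers.2 ha
    refine Fintype.card_eq_one_iff.2 ⟨⟨1, ?_⟩, fun y => Subtype.ext ?_⟩
    · change (σ ^ k) 1 = 1
      rw [hσk, iterate_map_one]
    · by_contra hy
      have h2 : (σ ^ k) y = y := y.2
      rw [hσk] at h2
      exact hne (Subtype.ext (Equiv.ext fun z => by
        change (σ ^ k) z = z
        rw [hσk, h k y hy h2]; rfl))
  rw [← Finset.add_sum_erase _ _ (Finset.mem_univ 1),
    Finset.sum_congr rfl (fun a ha => h1 a (Finset.ne_of_mem_erase ha))] at hB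
  simp only [MulAction.fixedBy_one_eq_univ, Finset.sum_const, smul_eq_mul, mul_one,
    Finset.card_erase_of_mem (Finset.mem_univ _), Finset.card_univ] at hB
  have h2 : Fintype.card (Set.univ : Set U) = Nat.card U := by
    rw [Fintype.card_setUniv, Nat.card_eq_fintype_card]
  have h3 : Fintype.card (zpowers σ) ∣ Nat.card U - 1 := by
    have h4 : 0 < Fintype.card (zpowers σ) := Fintype.card_pos
    have h5 : 0 < Nat.card U := Nat.card_pos
    have h6 : Nat.card U - 1 + Fintype.card (zpowers σ) =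
        Fintype.card (Set.univ : Set U) + (Fintype.card (zpowers σ) - 1) := by omega
    exact (Nat.dvd_add_left (dvd_refl _)).1 (h6 ▸ hB ▸ dvd_mul_left _ _)
  rw [Fintype.card_zpowers] at h3
  rw [← hσk, orderOf_dvd_iff_pow_eq_one.1 h3]; rfl

theorem exists_cyclotomic_exponent {p a : ℕ} (hp : 1 < p) (ha : 1 < a) :
    ∃ m, 0 < m ∧ m < p ^ a - 1 ∧ ∀ d, 0 < d → d < a → Nat.gcd (p ^ a - 1) (p ^ d - 1) ∣ m := by
  set Φ := ((Polynomial.cyclotomic a ℤ).eval (p : ℤ)).natAbs with hΦ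
  have h1 : 1 < Φ := lt_of_le_of_lt (by omega)
    (Polynomial.sub_one_lt_natAbs_cyclotomic_eval ha hp.ne')
  have key : ∀ d ∈ a.properDivisors, (p ^ d - 1) * Φ ∣ p ^ a - 1 := fun d hd => by
    have h2 := Polynomial.eval_dvd (x := (p : ℤ))
      (Polynomial.X_pow_sub_one_mul_cyclotomic_dvd_X_pow_sub_one_of_dvd ℤ hd)
    have h3 := Int.natAbs_dvd_natAbs.2 h2
    have h4 : ∀ k : ℕ, ((p : ℤ) ^ k - 1).natAbs = p ^ k - 1 := fun k => by
      have : (p : ℤ) ^ k - 1 = ((p ^ k - 1 : ℕ) : ℤ) := by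
        rw [Nat.cast_sub (Nat.one_le_pow _ _ (by omega))]; simp
      rw [this, Int.natAbs_natCast]
    simpa [Int.natAbs_mul, h4] using h3
  have hpos : 0 < p ^ a - 1 := by have := Nat.one_lt_pow (n := a) (by omega) hp; omega
  have hd : Φ ∣ p ^ a - 1 :=
    (dvd_mul_left _ _).trans (key 1 (Nat.one_mem_properDivisors_iff_one_lt.2 ha))
  refine ⟨(p ^ a - 1) / Φ, Nat.div_pos (Nat.le_of_dvd hpos hd) (by omega),
    Nat.div_lt_self hpos h1, fun d h0 hd' => ?_⟩
  rw [Nat.pow_sub_one_gcd_pow_sub_one]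
  refine Nat.dvd_div_of_mul_dvd (mul_comm Φ _ ▸ key _ (Nat.mem_properDivisors.2
    ⟨Nat.gcd_dvd_left _ _, (Nat.gcd_le_right _ h0).trans_lt hd'⟩))

variable {G : Type u} [Group G] [Finite G] {p : ℕ} [hp : Fact p.Prime]

theorem card_sup_zpowers_le {L : Subgroup G} {y : G} {n : ℕ} (hn : 0 < n)
    (hy : y ∈ normalizer (L : Set G)) (hp : y ^ n ∈ L) :
    Nat.card (L ⊔ zpowers y : Subgroup G) ≤ Nat.card L * n := by
  rw [← Nat.card_fin n, ← Nat.card_prod]
  refine Nat.card_le_card_of_surjective (fun z => ⟨z.1 * y ^ (z.2 : ℕ),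
    mul_mem (mem_sup_left z.1.2) (mem_sup_right (pow_mem (mem_zpowers y) _))⟩) fun z => ?_
  obtain ⟨l, hl, _, hk, h⟩ := (mem_sup_of_le_normalizer' (zpowers_le.2 hy)).1 z.2
  obtain ⟨k, rfl⟩ := mem_powers_iff_mem_zpowers.2 hk
  refine ⟨(⟨l * (y ^ n) ^ (k / n), mul_mem hl (pow_mem hp _)⟩, ⟨k % n, Nat.mod_lt _ hn⟩),
    Subtype.ext ?_⟩
  change l * (y ^ n) ^ (k / n) * y ^ (k % n) = z
  rw [← h, mul_assoc, ← pow_mul, ← pow_add, Nat.div_add_mod]

theorem commutator_le_of_le_normalizer {L P : Subgroup G} (h : P ≤ normalizer (L : Set G)) :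
    ⁅L, P⁆ ≤ L := by
  rw [commutator_le]
  intro y hy a ha
  rw [commutatorElement_def, mul_assoc, mul_assoc, ← mul_assoc a]
  exact mul_mem hy (conj_mem_of_mem_normalizer (h ha) (inv_mem hy))

theorem le_normalizer_of_commutator_le {X L P : Subgroup G} (h : ⁅L, P⁆ ≤ X) (hX : X ≤ L) :
    P ≤ normalizer (X : Set G) := fun a ha => mem_normalizer_of_forall_conj_mem fun x hx => by
  have := h (commutator_mem_commutator (inv_mem (hX hx)) ha)
  have h2 := mul_mem hx this
  rwa [commutatorElement_def, inv_inv, ← mul_assoc, ← mul_assoc, mul_inv_cancel_left] at h2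

/-- A suitable power of a `p'`-element of order dividing `p ^ a - 1` centralizes the small
chief factors. -/
theorem pow_mem_centralizer {P P₀ : Subgroup G} (hP : IsPGroup p P) (hle : P₀ ≤ P) {x : G}
    (hx : x ∈ P) (hx0 : x ∉ P₀) {a : ℕ} (hC : Nat.card (centralizer ({x} : Set G)) ≤ p ^ a)
    {h : G} (hr : IsPRegular p h) (hn : h ∈ normalizer (P : Set G)) (hh : h ^ (p ^ a - 1) = 1)
    (ha : 0 < a) {m : ℕ} (hm : ∀ d, 0 < d → d < a → Nat.gcd (p ^ a - 1) (p ^ d - 1) ∣ m)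
    (L : Subgroup G) (hL : L ≤ P₀) (hPL : P ≤ normalizer (L : Set G))
    (hhL : h ∈ normalizer (L : Set G)) : h ^ m ∈ centralizer (L : Set G) := by
  induction L using (wellFounded_lt (α := Subgroup G)).induction with
  | _ L ih =>
  by_cases h0 : L = ⊥
  · rw [h0]; intro y hy; rw [mem_bot.1 hy, one_mul, mul_one]
  haveI := hP.isNilpotent
  have hLP : L ≤ P := hL.trans hle
  obtain ⟨X, ⟨hX1, hX2, hX3⟩, hmax⟩ := (Set.toFinite {X : Subgroup G | ⁅L, P⁆ ≤ X ∧ X < L ∧
    h ∈ normalizer (X : Set G)}).exists_maximal ⟨⁅L, P⁆, le_rfl,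
      commutator_lt_of_le_isNilpotent hLP le_rfl hPL h0,
      normalizer_inf_le_normalizer_commutator L P ⟨hhL, hn⟩⟩
  have hPX : P ≤ normalizer (X : Set G) := le_normalizer_of_commutator_le hX1 hX2.le
  have ihX := ih X hX2 (hX2.le.trans hL) hPX hX3
  -- the index is small
  have hidx : X.relIndex L < p ^ a := by
    haveI : (X.subgroupOf P).Normal := (normal_subgroupOf_iff_le_normalizer (hX2.le.trans hLP)).2 hPX
    have h1 := card_centralizer_mk_le (X.subgroupOf P) ⟨x, hx⟩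
    rw [centralizer_singleton_subgroupOf] at h1
    have h2 : ((L ⊔ zpowers x).subgroupOf P).map (QuotientGroup.mk' (X.subgroupOf P)) ≤
        centralizer {((⟨x, hx⟩ : P) : P ⧸ X.subgroupOf P)} := by
      rintro _ ⟨y, hy, rfl⟩
      obtain ⟨l, hl, _, ⟨k, rfl⟩, hy'⟩ :=
        (mem_sup_of_le_normalizer' (zpowers_le.2 (hPL hx))).1 hy
      rw [mem_centralizer_singleton_iff, QuotientGroup.mk'_apply, ← QuotientGroup.mk_mul,
        ← QuotientGroup.mk_mul, QuotientGroup.eq_iff_div_mem, mem_subgroupOf]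
      have := hX1 (commutator_mem_commutator hl hx)
      convert this using 1
      simp only [commutatorElement_def, div_eq_mul_inv, Subgroup.coe_mul, Subgroup.coe_inv]
      change (y : G) * x * (x * y)⁻¹ = _
      rw [← show l * x ^ k = y from hy']; group
    have h3 := (card_le_of_le h2).trans (h1.trans ((card_subgroupOf _ _).le.trans
      ((card_le_of_le inf_le_left).trans hC)))
    rw [card_map_mk'_eq_relIndex, relIndex_subgroupOf (sup_le hLP (zpowers_le.2 hx))] at h3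
    refine lt_of_lt_of_le ?_ h3
    rw [← relIndex_mul_relIndex X L _ hX2.le le_sup_left]
    refine lt_mul_of_one_lt_right (relIndex_pos _ _) (lt_of_le_of_ne (relIndex_pos _ _) fun e =>
      hx0 (hL (relIndex_eq_one.1 e.symm (mem_sup_right (mem_zpowers x)))))
  set φ := conjEndo L hhL with hφ
  set N := X.subgroupOf L with hN
  haveI : N.Normal := (normal_subgroupOf_iff_le_normalizer hX2.le).2 (hLP.trans hPX)
  have hNφ : Fpf.Inv φ N := fun y hy => conj_mem_of_mem_normalizer hX3 hy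
  set ψ := Fpf.quot hNφ with hψ
  have hψk : ∀ (k : ℕ) (y : L), ψ^[k] (y : L ⧸ N) = (φ^[k] y : L) := by
    intro k y
    induction k with
    | zero => rfl
    | succ k ih => rw [Function.iterate_succ_apply', Function.iterate_succ_apply', ih]; rfl
  have hpos : 0 < p ^ a - 1 := by have := Nat.one_lt_pow ha.ne' hp.out.one_lt; omega
  have hψa : ψ^[p ^ a - 1] = id :=
    Fpf.quot_iterate hNφ (conjEndo_iterate hhL (by rw [hh]; exact one_mem _))
  have hψd := iterate_card_sub_one ψ (Fpf.injective_of_iterate hpos hψa) (by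
    intro k y hy hk
    obtain ⟨y, rfl⟩ := QuotientGroup.mk_surjective y
    set Y : Subgroup (L ⧸ N) :=
      { carrier := {z | ψ^[k] z = z}
        one_mem' := iterate_map_one ψ k
        mul_mem' := fun {a b} ha hb => by
          change ψ^[k] (a * b) = a * b
          rw [iterate_map_mul, ha, hb]
        inv_mem' := fun {a} ha => by
          change ψ^[k] a⁻¹ = a⁻¹
          rw [iterate_map_inv, ha] } with hY
    have hYm : ∀ z, z ∈ Y ↔ ψ^[k] z = z := fun z => Iff.rfl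
    set Y' := (Y.comap (QuotientGroup.mk' N)).map L.subtype with hY'
    have hXY : X ≤ Y' := fun z hz => ⟨⟨z, hX2.le hz⟩, le_comap_mk'_self N Y hz, rfl⟩
    have hY'L : Y' = L := by
      by_contra hne
      have := hmax ⟨hX1.trans hXY, lt_of_le_of_ne (map_subtype_le _) hne,
        mem_normalizer_of_forall_conj_mem (by
          rintro _ ⟨z, hz, rfl⟩
          refine ⟨φ z, (hYm _).2 ?_, rfl⟩
          change ψ^[k] (ψ (z : L ⧸ N)) = ψ (z : L ⧸ N)
          rw [← Function.iterate_succ_apply, Function.iterate_succ_apply']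
          exact congrArg ψ ((hYm _).1 hz))⟩ hXY
      exact hy ((QuotientGroup.eq_one_iff y).2 (this ⟨y, (hYm _).2 hk, rfl⟩))
    funext z
    obtain ⟨z, rfl⟩ := QuotientGroup.mk_surjective z
    obtain ⟨z', hz', e⟩ := hY'L.ge z.2
    rw [← show z' = z from Subtype.ext e]
    exact (hYm _).1 hz')
  obtain ⟨d, hd⟩ := (hP.to_le hLP).index N
  have hd0 : 0 < d := Nat.pos_of_ne_zero fun e => by
    rw [e, pow_zero] at hd
    exact hX2.not_ge (relIndex_eq_one.1 hd)
  have hda : d < a := (Nat.pow_lt_pow_iff_right hp.out.one_lt).1 (hd ▸ hidx)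
  change ψ^[N.index - 1] = id at hψd
  rw [hd] at hψd
  intro y hy
  have h1 : Function.IsPeriodicPt ψ m ((⟨y⁻¹, inv_mem hy⟩ : L) : L ⧸ N) :=
    (Function.IsPeriodicPt.gcd (congrFun hψa _) (congrFun hψd _)).trans_dvd (hm d hd0 hda)
  rw [Function.IsPeriodicPt, Function.IsFixedPt, hψk, QuotientGroup.eq, hN, mem_subgroupOf] at h1
  have h2 := conj_mem_of_mem_normalizer (hPX (hLP (inv_mem hy))) h1
  refine (commute_of_commutator_mem_of_coprime (M := X) (a := h ^ m) (x := y)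
    (fun z hz => mem_centralizer_singleton_iff.2 (ihX z hz)) ?_
    (IsPGroup.coprime_card_of_not_dvd (hP.to_le (hX2.le.trans hLP)) (hr.pow m))).symm
  convert h2 using 1
  simp only [Subgroup.coe_mul, Subgroup.coe_inv, hφ, coe_conjEndo_iterate]
  group

theorem mul_pow_of_central {a b : G} (ha : Commute ⁅b, a⁆ a) (hb : Commute ⁅b, a⁆ b) (n : ℕ) :
    (a * b) ^ n = a ^ n * b ^ n * ⁅b, a⁆ ^ n.choose 2 := by
  set c := ⁅b, a⁆ with hc
  have h0 : b * a = c * a * b := by rw [hc, commutatorElement_def]; group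
  have h1 : ∀ k : ℕ, b ^ k * a = a * b ^ k * c ^ k := by
    intro k
    induction k with
    | zero => simp
    | succ k ih =>
      rw [pow_succ', mul_assoc, ih, ← mul_assoc, ← mul_assoc, h0, mul_assoc c, mul_assoc c,
        mul_assoc c, ((ha.mul_right hb).mul_right (hb.pow_right k)).mul_right
          ((Commute.refl c).pow_right k) |>.eq, pow_succ c]
      group
  induction n with
  | zero => simp
  | succ n ih =>
    rw [pow_succ, ih, Nat.choose_succ_succ, Nat.choose_one_right, pow_add,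
      mul_assoc _ (c ^ _), ((ha.mul_right hb).pow_left _).eq, ← mul_assoc, ← mul_assoc,
      mul_assoc (a ^ n), h1, mul_assoc (a ^ n), mul_assoc _ (c ^ n), (hb.pow_left n).eq]
    group

/-- A class two `p`-group whose elements outside a central subgroup `P₀ ≥ Φ(P)` act without
fixed points on a nontrivial abelian `p'`-group has `|P : P₀| ≤ p` or `≤ 4`. -/
theorem card_le_of_fpf {P P₀ W : Subgroup G} (hle : P₀ ≤ P) (hc : ⁅P, P⁆ ≤ P₀)
    (hz : P₀ ≤ centralizer (P : Set G)) (hpow : ∀ x ∈ P, x ^ p ∈ P₀) (hexp : ∀ z ∈ P₀, z ^ p = 1)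
    [IsMulCommutative W] (hW0 : W ≠ ⊥) (hW : ¬ p ∣ Nat.card W)
    (hPW : P ≤ normalizer (W : Set G))
    (hf : ∀ x ∈ P, x ∉ P₀ → ∀ w ∈ W, x * w = w * x → w = 1) :
    Nat.card P ≤ Nat.card P₀ * p ∨ (p = 2 ∧ Nat.card P ≤ Nat.card P₀ * 2 * 2) := by
  obtain ⟨W₀, ⟨h0, hW₀, hPW₀⟩, hmin⟩ := (Set.toFinite {X : Subgroup G | X ≠ ⊥ ∧ X ≤ W ∧
    P ≤ normalizer (X : Set G)}).exists_minimal ⟨W, hW0, le_rfl, hPW⟩
  haveI : IsMulCommutative W₀ := isMulCommutative_iff_forall.2 fun a ha b hb =>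
    isMulCommutative_iff_forall.1 ‹IsMulCommutative W› a (hW₀ ha) b (hW₀ hb)
  set D := centralizer (W₀ : Set G) with hD
  have hirr : ∀ z ∈ P₀, ∀ w ∈ W₀, w ≠ 1 → z * w = w * z → z ∈ D := by
    intro z hz0 w hw hw1 hzw
    have h1 := hmin (y := W₀ ⊓ centralizer {z}) ⟨fun e => hw1 (by
      rw [← mem_bot, ← e]; exact ⟨hw, mem_centralizer_singleton_iff.2 hzw.symm⟩),
      inf_le_left.trans hW₀, le_normalizer_inf hPW₀ (le_trans (fun y hy =>
        mem_centralizer_singleton_iff.2 (hz hz0 y hy)) le_normalizer)⟩ inf_le_left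
    exact fun y hy => mem_centralizer_singleton_iff.1 (h1 hy).2
  have FP : ∀ a ∈ P, ∀ b ∈ P, ⁅a, b⁆ ∈ D → a ^ p ∈ D → b ^ p ∈ D →
      (∀ j : ℕ, ∀ w ∈ W₀, a * b ^ j * w = w * (a * b ^ j) → w = 1) → b ∈ D :=
    fun a ha b hb => FpfEnd.mem_centralizer_of_fpf_pair hp.out
      ((Nat.Prime.coprime_iff_not_dvd hp.out).2 fun h => hW (h.trans (card_dvd_of_le hW₀)))
      (hPW₀ ha) (hPW₀ hb)
  have hnD : ∀ x ∈ P, x ∉ P₀ → x ∉ D := fun x hx hx0 h => h0 ((eq_bot_iff_forall _).2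
    fun w hw => hf x hx hx0 w (hW₀ hw) (h w hw).symm)
  have hnew : ∀ L : Subgroup G, P₀ ≤ L → L ≤ P → ∀ y ∈ P,
      Nat.card (L ⊔ zpowers y : Subgroup G) ≤ Nat.card L * p := fun L h1 h2 y hy =>
    card_sup_zpowers_le hp.out.pos (le_normalizer_of_commutator_le (hc.trans h1) h2 hy)
      (h1 (hpow y hy))
  have hex : ∀ L : Subgroup G, Nat.card L < Nat.card P → ∃ y ∈ P, y ∉ L := fun L h =>
    SetLike.not_le_iff_exists.1 fun h' => (card_le_of_le h').not_gt h
  have hmem : ∀ (L : Subgroup G) (x y : G) (j : ℕ), x * y ^ j ∈ L → x ∈ L ⊔ zpowers y :=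
    fun L x y j h => by
      have := mul_mem (mem_sup_left h : x * y ^ j ∈ L ⊔ zpowers y)
        (inv_mem (mem_sup_right (pow_mem (mem_zpowers y) j)))
      rwa [mul_inv_cancel_right] at this
  by_contra hcon
  rw [not_or, not_le] at hcon
  obtain ⟨y, hy, hy0⟩ := hex P₀ (lt_of_le_of_lt (Nat.le_mul_of_pos_right _ hp.out.pos) hcon.1)
  obtain ⟨x, hx, hx1⟩ := hex _ ((hnew P₀ le_rfl hle y hy).trans_lt hcon.1)
  have hxy : ∀ j : ℕ, x * y ^ j ∉ P₀ := fun j h => hx1 (hmem _ _ _ _ h)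
  have hX : ¬ P₀ ≤ D := fun h => hnD y hy hy0 (FP x hx y hy
    (h (hc (commutator_mem_commutator hx hy))) (h (hpow x hx)) (h (hpow y hy)) fun j w hw =>
      hf _ (mul_mem hx (pow_mem hy j)) (hxy j) w (hW₀ hw))
  have hY : ∀ x ∈ P, x ∉ P₀ → x ^ p ∉ D := fun x hx hx0 h => hX fun z hz0 =>
    FP x hx z (hle hz0) (by
      rw [commutatorElement_eq_one_iff_mul_comm.2 (hz hz0 x hx)]; exact one_mem _) h
      (by rw [hexp z hz0]; exact one_mem _) fun j w hw => hf _ (mul_mem hx (pow_mem (hle hz0) j))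
        (fun h' => hx0 ((mul_mem_cancel_right (pow_mem hz0 j)).1 h')) w (hW₀ hw)
  have hZ : ∀ a ∈ P₀, ∀ b ∈ P₀, b ∉ D → ∃ j : ℕ, a * b ^ j ∈ D := fun a ha b hb hbD => by
    by_contra hn
    push Not at hn
    refine hbD (FP a (hle ha) b (hle hb) (by
      rw [commutatorElement_eq_one_iff_mul_comm.2 (hz hb a (hle ha))]; exact one_mem _)
      (by rw [hexp a ha]; exact one_mem _) (by rw [hexp b hb]; exact one_mem _) fun j w hw h => ?_)
    by_contra hw1
    exact hn j (hirr _ (mul_mem ha (pow_mem hb j)) w hw hw1 h)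
  have hform : ∀ a ∈ P, ∀ b ∈ P, (a * b) ^ p = a ^ p * b ^ p * ⁅b, a⁆ ^ p.choose 2 :=
    fun a ha b hb => mul_pow_of_central
      (hz (hc (commutator_mem_commutator hb ha)) a ha).symm
      (hz (hc (commutator_mem_commutator hb ha)) b hb).symm p
  rcases hp.out.eq_two_or_odd' with h2 | hodd
  · subst h2
    have h4 : Nat.card P₀ * 2 * 2 < Nat.card P := not_le.1 fun h => hcon.2 ⟨rfl, h⟩
    have hsq : ∀ a ∈ P₀, a ∉ D → ∀ b ∈ P₀, b ∉ D → a * b ∈ D := fun a ha haD b hb hbD => by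
      obtain ⟨j, hj⟩ := hZ a ha b hb hbD
      rw [← Nat.div_add_mod j 2, pow_add, pow_mul, hexp b hb, one_pow, one_mul] at hj
      rcases Nat.mod_two_eq_zero_or_one j with e | e
      · rw [e, pow_zero, mul_one] at hj; exact absurd hj haD
      · rwa [e, pow_one] at hj
    obtain ⟨w, hw, hw1⟩ := hex _ (((hnew _ le_sup_left (sup_le hle (zpowers_le.2 hy)) x hx).trans
      (Nat.mul_le_mul_right _ (hnew P₀ le_rfl hle y hy))).trans_lt h4)
    have key : ∀ u ∈ P, u ∉ P₀ ⊔ zpowers y → ⁅y, u⁆ ∉ D := fun u hu hu1 h => by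
      refine hY (u * y) (mul_mem hu hy) (fun h' => hu1 (hmem _ _ _ 1 (by rwa [pow_one]))) ?_
      rw [hform u hu y hy, Nat.choose_self, pow_one]
      exact mul_mem (hsq _ (hpow u hu) (hY u hu fun h' => hu1 (mem_sup_left h')) _ (hpow y hy)
        (hY y hy hy0)) h
    refine key (w * x) (mul_mem hw hx) (fun h' => hw1 (hmem _ _ _ 1 (by rwa [pow_one]))) ?_
    have e : ⁅y, w * x⁆ = ⁅y, w⁆ * ⁅y, x⁆ := by
      have := hz (hc (commutator_mem_commutator hy hx)) w hw
      rw [← mul_inv_eq_iff_eq_mul] at this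
      rw [← this]
      simp only [commutatorElement_def]
      group
    rw [e]
    exact hsq _ (hc (commutator_mem_commutator hy hw)) (key w hw fun h => hw1 (mem_sup_left h)) _
      (hc (commutator_mem_commutator hy hx)) (key x hx hx1)
  · obtain ⟨j, hj⟩ := hZ _ (hpow x hx) _ (hpow y hy) (hY y hy hy0)
    refine hY _ (mul_mem hx (pow_mem hy j)) (hxy j) ?_
    obtain ⟨k, hk⟩ : p ∣ p.choose 2 := hp.out.dvd_choose_self two_ne_zero
      (lt_of_le_of_ne hp.out.two_le fun e => by rw [← e] at hodd; exact absurd hodd (by decide))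
    rw [hform x hx _ (pow_mem hy j), hk, pow_mul,
      hexp _ (hc (commutator_mem_commutator (pow_mem hy j) hx)), one_pow, mul_one, ← pow_mul,
      mul_comm j, pow_mul]
    exact hj

/-- A `2`-group in which `x P₀` is a class of commutators with `P / P₀` extraspecial. -/
theorem pow_four_eq_one {P : Type u} [Group P] [Finite P] (hP : IsPGroup 2 P) {P₀ : Subgroup P}
    [P₀.Normal] {x : P} (hx0 : x ∉ P₀) (hx2 : x ^ 2 ∈ P₀)
    (b2 : ∀ a : P, a ^ 2 ∈ P₀ ∨ x⁻¹ * a ^ 2 ∈ P₀)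
    (b3 : ∀ a : P, (a ∈ P₀ ∨ x⁻¹ * a ∈ P₀) ∨ ∃ b, x⁻¹ * ⁅a, b⁆ ∈ P₀)
    (b4 : ∀ k ∈ P₀, ∃ u, u * x * u⁻¹ = x * k) (b5 : ∀ u, x⁻¹ * (u * x * u⁻¹) ∈ P₀) :
    P₀ ≤ zpowers (x ^ 2) ∧ x ^ 4 = 1 := by
  set M := P₀ ⊔ zpowers x with hM
  have hxM : x ∈ M := mem_sup_right (mem_zpowers x)
  have hmem : ∀ a, x⁻¹ * a ∈ P₀ → a ∈ M := fun a h => by
    have := mul_mem hxM (mem_sup_left h : x⁻¹ * a ∈ M)
    rwa [mul_inv_cancel_left] at this
  haveI : M.Normal := by
    rw [← normalizer_eq_top_iff, eq_top_iff]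
    intro u _
    refine mem_normalizer_of_map_conj_le ?_
    rw [hM, Subgroup.map_sup, map_conj_eq_of_normal, ← zpowers_conj]
    exact sup_le le_sup_left (zpowers_le.2 (hmem _ (b5 u)))
  set X := frattiniOf M ⊔ ⁅P₀, (⊤ : Subgroup P)⁆ with hX
  set π := QuotientGroup.mk' X with hπ
  have hsq : ∀ m ∈ M, π m * π m = 1 := fun m hm => by
    rw [← map_mul, ← sq]
    exact (QuotientGroup.eq_one_iff _).2 (mem_sup_left (pow_mem_frattiniOf (hP.to_subgroup M) hm))
  have hcen : ∀ k ∈ P₀, ∀ a, Commute (π k) (π a) := fun k hk a => by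
    rw [← commutatorElement_eq_one_iff_commute, ← map_commutatorElement]
    exact (QuotientGroup.eq_one_iff _).2 (mem_sup_right (commutator_mem_commutator hk (mem_top a)))
  have hback : ∀ a c, x⁻¹ * c ∈ P₀ → Commute (π a) (π c) → Commute (π a) (π x) := fun a c hc h => by
    have := h.mul_right (hcen _ hc a).symm.inv_right
    rwa [← map_inv, ← map_mul, mul_inv_rev, inv_inv, mul_inv_cancel_left] at this
  have hcomm : ∀ a, Commute (π a) (π x) := fun a => by
    rcases b3 a with (h | h) | ⟨b, hb⟩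
    · exact hcen a h x
    · exact hback a a h (Commute.refl _)
    · rcases b2 a with h | h
      · refine hback a _ hb ?_
        have h1 := commutatorElement_eq_one_iff_commute.2 (hcen _ h b)
        have h2 := hsq _ (hmem _ hb)
        rw [← map_commutatorElement, show ⁅a ^ 2, b⁆ = a * ⁅a, b⁆ * a⁻¹ * ⁅a, b⁆ by
          simp only [commutatorElement_def, sq]; group, map_mul, ← h2, mul_left_inj, map_mul,
          map_mul, map_inv, mul_inv_eq_iff_eq_mul] at h1
        exact h1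
      · exact hback a _ h (by rw [map_pow]; exact (Commute.refl _).pow_right 2)
  have h1 : P₀ ≤ X := fun k hk => by
    obtain ⟨u, hu⟩ := b4 k hk
    have := congrArg π hu
    rw [map_mul, map_mul, map_mul, (hcomm u).eq, map_inv, mul_inv_cancel_right, left_eq_mul] at this
    exact (QuotientGroup.eq_one_iff _).1 this
  have h2 : P₀ ≤ frattiniOf M := by
    by_contra hn
    obtain ⟨Y, -, hY1, hY2, hY3, hY4⟩ := IsPGroup.exists_normal_relIndex_below hP
      (L := frattiniOf M ⊓ P₀) (K := P₀) (lt_of_le_of_ne inf_le_right fun e => hn (e ▸ inf_le_left))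
    have h3 : P₀ ≤ Y := by
      have := sup_normal_inf_eq' (frattiniOf M) (commutator_le_left P₀ ⊤)
      rw [← hX, inf_eq_right.2 h1] at this
      rw [this]; exact sup_le hY1 hY4
    rw [relIndex_eq_one.2 h3] at hY3
    exact absurd hY3 (by decide)
  have h3 : zpowers x = M := eq_of_sup_frattiniOf le_sup_right
    (sup_le (h2.trans le_sup_right) le_sup_left)
  have h4 : P₀ ≤ zpowers (x ^ 2) := fun k hk => by
    obtain ⟨i, rfl⟩ := mem_powers_iff_mem_zpowers.2 (h3.ge (mem_sup_left hk))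
    change x ^ i ∈ _ at hk ⊢
    rw [← Nat.div_add_mod i 2, pow_add, pow_mul] at hk ⊢
    rcases Nat.mod_two_eq_zero_or_one i with e | e
    · rw [e, pow_zero, mul_one]; exact pow_mem (mem_zpowers _) _
    · rw [e, pow_one] at hk
      exact absurd ((mul_mem_cancel_left (pow_mem hx2 _)).1 hk) hx0
  refine ⟨h4, ?_⟩
  obtain ⟨a, ha⟩ := b4 (x ^ 4) (by rw [show 4 = 2 * 2 from rfl, pow_mul]; exact pow_mem hx2 2)
  have hM' : ∀ c, c ∈ P₀ ∨ x⁻¹ * c ∈ P₀ → ∃ i : ℤ, x ^ i = c := fun c h =>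
    h3.ge (h.elim mem_sup_left (hmem c))
  rcases b3 a with h | ⟨b, hb⟩
  · obtain ⟨i, rfl⟩ := hM' a h
    rwa [((Commute.refl x).zpow_left i).eq, mul_inv_cancel_right, left_eq_mul] at ha
  obtain ⟨i, hi⟩ := hM' _ (b2 a)
  obtain ⟨j, hj⟩ := h4 hb
  obtain ⟨l, hl⟩ := h4 (b5 b)
  change (x ^ 2) ^ j = _ at hj
  change (x ^ 2) ^ l = _ at hl
  have e1 : ⁅a, b⁆ = x ^ (2 * j + 1) := by
    rw [eq_inv_mul_iff_mul_eq] at hj
    rw [← hj]; group
  have e2 : b * x * b⁻¹ = x ^ (2 * l + 1) := by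
    rw [eq_inv_mul_iff_mul_eq] at hl
    rw [← hl]; group
  have e3 : ∀ n : ℤ, a * x ^ n * a⁻¹ = x ^ (5 * n) := fun n => by
    rw [← conj_zpow, ha]; group
  have e4 : x ^ (4 * i) = 1 := by
    have := e3 i
    rw [hi, show a * a ^ 2 * a⁻¹ = a ^ 2 by group, ← hi] at this
    calc x ^ (4 * i) = x ^ (5 * i) * (x ^ i)⁻¹ := by group
      _ = 1 := by rw [← this, mul_inv_cancel]
  have e5 : x ^ (6 * (2 * j + 1) + 2 * i * l) = 1 := by
    have h5 : ⁅a ^ 2, b⁆ = a * ⁅a, b⁆ * a⁻¹ * ⁅a, b⁆ := by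
      simp only [commutatorElement_def, sq]; group
    rw [e1, e3, ← hi, commutatorElement_def, mul_assoc, mul_assoc, ← mul_assoc b, ← zpow_neg,
      ← conj_zpow, e2] at h5
    calc _ = (x ^ (5 * (2 * j + 1)) * x ^ (2 * j + 1)) * (x ^ i * (x ^ (2 * l + 1)) ^ (-i))⁻¹ := by
          group
      _ = 1 := by rw [← h5, mul_inv_cancel]
  have e6 : (x ^ 4) ^ (3 * (2 * j + 1)) = 1 := by
    calc _ = (x ^ (6 * (2 * j + 1) + 2 * i * l)) ^ 2 * ((x ^ (4 * i)) ^ l)⁻¹ := by group
      _ = 1 := by rw [e4, e5]; simp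
  refine (isPElt_of_mem (hP.to_subgroup ⊤) (mem_top _)).eq_one_of_isPRegular fun hd => ?_
  have := (Int.natCast_dvd_natCast.2 hd).trans (orderOf_dvd_iff_zpow_eq_one.2 e6)
  omega

end OneClass

end Cfsg
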