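import Cfsg.Agent.Grp.TransTwo
import Cfsg.Agent.Grp.PSolvable
import Cfsg.Prelude.Def_Perm

/-!
# `p`-solvable groups with one class of nontrivial `p`-elements: `p`-regular class numbers
-/

set_option autoImplicit false
set_option linter.unusedSectionVars false

namespace Cfsg.OnePClass

open scoped Matrix MatrixGroups Pointwise
open Subgroup TransLin

universe u

variable {G : Type u} [Group G] [Finite G] {p : ℕ} [hp : Fact p.Prime]

theorem exists_coords (V : Subgroup G) [V.Normal] [IsMulCommutative V] (he : ∀ x ∈ V, x ^ p = 1) :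
    ∃ (n : ℕ) (e : V ≃ (Fin n → ZMod p)) (R : G →* Matrix (Fin n) (Fin n) (ZMod p)),
      (∀ x y, e (x * y) = e x + e y) ∧ ∀ g (x : V), e (MulAut.conjNormal g x) = R g *ᵥ e x := by
  letI : CommGroup V := { (inferInstance : Group V) with mul_comm := mul_comm' }
  letI : Module (ZMod p) (Additive V) := AddCommGroup.zmodModule (n := p) fun x =>
    Additive.toMul.injective (Subtype.ext (he _ x.toMul.2))
  let φ : G →* Module.End (ZMod p) (Additive V) :=
    { toFun := fun g =>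
        (MonoidHom.toAdditive (MulAut.conjNormal (H := V) g).toMonoidHom).toZModLinearMap p
      map_one' := LinearMap.ext fun x => by simp
      map_mul' := fun g h => LinearMap.ext fun x => by simp }
  let b := Module.finBasis (ZMod p) (Additive V)
  refine ⟨_, Additive.ofMul.trans b.equivFun.toEquiv,
    (LinearMap.toMatrixAlgEquiv b).toMonoidHom.comp φ, fun x y => b.equivFun.map_add _ _,
    fun g x => (LinearMap.toMatrix_mulVec_repr b b (φ g) (Additive.ofMul x)).symm⟩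

omit hp in
theorem exists_proj {P K : Subgroup G} [P.Normal] (hi : P ⊓ K = ⊥) (hs : K ⊔ P = ⊤) :
    ∃ π : G →* K, (∀ k : K, π k = k) ∧ ∀ g, π g = 1 ↔ g ∈ P :=
  ⟨(complementEquivQuotient hi hs).symm.toMonoidHom.comp (QuotientGroup.mk' P),
    fun k => (complementEquivQuotient hi hs).symm_apply_apply k, fun g => by simp⟩

theorem card_reg_eq {P K : Subgroup G} [P.Normal] (hP : IsPGroup p P) (hK : ¬ p ∣ Nat.card K)
    (hi : P ⊓ K = ⊥) (hs : K ⊔ P = ⊤) :
    Nat.card {c : ConjClasses G // ∃ g : G, ConjClasses.mk g = c ∧ ¬ p ∣ orderOf g} =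
      Nat.card (ConjClasses K) := by
  obtain ⟨π, hπ, -⟩ := exists_proj hi hs
  obtain ⟨n, hn⟩ := hP.exists_card_eq
  have hc : ∀ {m : ℕ}, ¬ p ∣ m → (Nat.card P).Coprime m := fun h =>
    hn ▸ ((Nat.Prime.coprime_iff_not_dvd hp.out).mpr h).pow_left n
  refine (Nat.card_eq_of_bijective (fun c : ConjClasses K => ⟨ConjClasses.map K.subtype c, by
    obtain ⟨k, rfl⟩ := ConjClasses.exists_rep c
    exact ⟨k, rfl, fun h => hK (h.trans (orderOf_dvd_natCard _ k.2))⟩⟩) ⟨fun c d h => ?_, ?_⟩).symm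
  · obtain ⟨k, rfl⟩ := ConjClasses.exists_rep c
    obtain ⟨l, rfl⟩ := ConjClasses.exists_rep d
    have h1 := π.map_isConj (ConjClasses.mk_eq_mk_iff_isConj.mp (congrArg Subtype.val h))
    rw [coe_subtype, hπ, hπ] at h1
    exact ConjClasses.mk_eq_mk_iff_isConj.mpr h1
  · rintro ⟨_, g, rfl, hg⟩
    obtain ⟨x, -, hx⟩ := exists_map_conj_le_of_coprime (N := P) (H := K) (K := zpowers g) (hc hK)
      (hc (by rwa [Nat.card_zpowers])) (hs ▸ le_top) (Or.inl (isSolvable_of_isPGroup hP))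
    exact ⟨ConjClasses.mk ⟨_, hx ⟨g, mem_zpowers g, rfl⟩⟩, Subtype.ext
      (ConjClasses.mk_eq_mk_iff_isConj.mpr (isConj_iff.mpr ⟨x, rfl⟩).symm)⟩

omit hp in
theorem card_ne_one : Nat.card {y : G // y ≠ 1} = Nat.card G - 1 := by
  classical
  have := Fintype.ofFinite G
  simp [Nat.card_eq_fintype_card]

omit hp in
theorem three_le_card_conjClasses (h : 3 ≤ Nat.card G) : 3 ≤ Nat.card (ConjClasses G) := by
  have := Fintype.ofFinite (ConjClasses G)
  have : Nontrivial G := Finite.one_lt_card_iff_nontrivial.mp (by omega)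
  obtain ⟨x, hx⟩ := exists_ne (1 : G)
  by_contra h1
  have h2 : ∀ y, IsConj x y ↔ y ≠ 1 := fun y => ⟨fun h e => hx (by simpa [e] using h), fun hy => by
    by_contra h2
    exact h1 (Nat.card_eq_fintype_card (α := ConjClasses G) ▸ Fintype.two_lt_card_iff.mpr
      ⟨ConjClasses.mk x, ConjClasses.mk y, ConjClasses.mk 1,
        by simpa only [Ne, ConjClasses.mk_eq_mk_iff_isConj, isConj_one_left] using
          ⟨h2, hx, hy⟩⟩)⟩
  have h3 := index_dvd_card (centralizer ({x} : Set G))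
  rw [← card_isConj_eq_index_centralizer, Nat.card_congr (Equiv.subtypeEquivRight h2),
    card_ne_one] at h3
  have h4 := (Nat.dvd_sub_iff_right (Nat.sub_le _ 1) h3).mpr dvd_rfl
  rw [Nat.sub_sub_self (by omega), Nat.dvd_one] at h4
  omega

theorem nonempty_equiv_affine {P K : Subgroup G} [P.Normal] (hi : P ⊓ K = ⊥) (hs : K ⊔ P = ⊤)
    (hC : centralizer (P : Set G) = P) (e : P ≃ (Fin 1 → ZMod p))
    (R : G →* Matrix (Fin 1) (Fin 1) (ZMod p)) (he : ∀ x y, e (x * y) = e x + e y)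
    (hR : ∀ g (x : P), e (MulAut.conjNormal g x) = R g *ᵥ e x)
    (htr : ∀ v w : Fin 1 → ZMod p, v ≠ 0 → w ≠ 0 → ∃ h : K, R h *ᵥ v = w) :
    Nonempty (G ≃* affineGroup (ZMod p)) := by
  obtain ⟨π, hπ, hk⟩ := exists_proj hi hs
  let e' : P ≃ ZMod p := e.trans (Equiv.funUnique _ _)
  have hm : ∀ (g : G) (x : P), g * x * (π g : G)⁻¹ ∈ P := fun g x => by
    rw [← hk, map_mul, map_mul, map_inv, hπ, (hk x).mpr x.2]; simp
  letI : MulAction G P :=
    { smul := fun g x => ⟨_, hm g x⟩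
      one_smul := fun x => Subtype.ext (show 1 * (x : G) * (π 1 : G)⁻¹ = x by simp)
      mul_smul := fun g h x => Subtype.ext (show g * h * (x : G) * (π (g * h) : G)⁻¹ =
        g * (h * (x : G) * (π h : G)⁻¹) * (π g : G)⁻¹ by simp [mul_assoc]) }
  have hsm : ∀ (g : G) (x : P), ((g • x : P) : G) = g * x * (π g : G)⁻¹ := fun _ _ => rfl
  let θ : G →* Equiv.Perm (ZMod p) := e'.permCongrHom.toMonoidHom.comp (MulAction.toPermHom G P)
  have hθ : ∀ g x, θ g x = R g 0 0 * x + e' (g • 1) := fun g x => by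
    obtain ⟨x, rfl⟩ := e'.surjective x
    have h1 : g • x = MulAut.conjNormal g x * g • (1 : P) :=
      Subtype.ext (by simp [hsm, mul_assoc])
    have h2 : θ g (e' x) = e' (g • x) := by simp [θ]
    rw [h2, h1]
    simp [e', he, hR, Matrix.mulVec, dotProduct]
  have hu : ∀ g, R g 0 0 * R g⁻¹ 0 0 = 1 := fun g => by
    have := congrFun (congrFun ((map_mul R g g⁻¹).symm.trans (by rw [mul_inv_cancel, map_one])) 0) 0
    simpa [Matrix.mul_apply] using this
  refine ⟨MulEquiv.ofBijective (θ.codRestrict (affineGroup (ZMod p)) fun g =>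
    ⟨Units.mkOfMulEqOne _ _ (hu g), _, hθ g⟩) ⟨(injective_iff_map_eq_one _).mpr fun g hg => ?_, ?_⟩⟩
  · have h1 : ∀ x : P, g * x * (π g : G)⁻¹ = x := fun x => by
      have h2 : θ g (e' x) = e' x := by rw [show θ g = 1 from congrArg Subtype.val hg]; rfl
      simp only [θ, MonoidHom.comp_apply, MulEquiv.coe_toMonoidHom, Equiv.permCongrHom_coe,
        Equiv.permCongr_apply, Equiv.symm_apply_apply, EmbeddingLike.apply_eq_iff_eq] at h2
      exact congrArg Subtype.val h2
    have h2 : g = π g := by simpa [mul_inv_eq_one] using h1 1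
    have h3 : g ∈ P := hC.le (mem_centralizer_iff.mpr fun x hx => by
      have := h1 ⟨x, hx⟩
      rw [← h2, mul_inv_eq_iff_eq_mul] at this
      exact this.symm)
    rw [h2, (hk g).mpr h3, OneMemClass.coe_one]
  · rintro ⟨σ, a, b, hσ⟩
    obtain ⟨k, hk'⟩ := htr (fun _ => 1) (fun _ => a) (fun h => one_ne_zero (congrFun h 0))
      fun h => a.ne_zero (congrFun h 0)
    have h1 : R k 0 0 = a := by simpa [Matrix.mulVec, dotProduct] using congrFun hk' 0
    have h2 : R (e'.symm b) 0 0 = 1 := by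
      have h3 := hR (e'.symm b) (e.symm fun _ => 1)
      rw [show MulAut.conjNormal ((e'.symm b : P) : G) (e.symm fun _ => 1) = e.symm fun _ => 1 from
        Subtype.ext (by
          rw [MulAut.conjNormal_apply, ← mem_centralizer_iff.mp (hC.ge (e'.symm b).2) _
            (e.symm fun _ => 1).2, mul_inv_cancel_right])] at h3
      simpa [Matrix.mulVec, dotProduct] using (congrFun h3 0).symm
    refine ⟨e'.symm b * k, Subtype.ext (Equiv.ext fun x => ?_)⟩
    have h3 : ((e'.symm b : P) * k : G) • (1 : P) = e'.symm b :=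
      Subtype.ext (by rw [hsm, map_mul, hπ, (hk _).mpr (e'.symm b).2]; simp)
    rw [hσ]
    refine (hθ _ x).trans ?_
    rw [h3, map_mul, Matrix.mul_apply]
    simp [h1, h2]

/-- The case `O_{p'}(G) = 1`. -/
theorem core (hsolv : IsPSolvable p G) (h0 : pPrimeCore p G = ⊥) (hdiv : p ∣ Nat.card G)
    (hconj : ∀ x y : G, x ≠ 1 → y ≠ 1 → IsPElt p x → IsPElt p y → IsConj x y) :
    p ≤ Nat.card {c : ConjClasses G // ∃ g : G, ConjClasses.mk g = c ∧ ¬ p ∣ orderOf g} ∨
    (Nat.card {c : ConjClasses G // ∃ g : G, ConjClasses.mk g = c ∧ ¬ p ∣ orderOf g} = p - 1 ∧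
      Nonempty (G ≃* affineGroup (ZMod p))) ∨
    (p = 11 ∧ Nat.card {c : ConjClasses G // ∃ g : G, ConjClasses.mk g = c ∧ ¬ p ∣ orderOf g} = 9 ∧
      (Nat.card G = 121 * 120 ∧ ∃ H : Subgroup G, IsFrobeniusComplement H ∧
        Nonempty (H ≃* SL(2, ZMod 5))) ∧
      (∃ x : G, orderOf x = 4 ∧ ¬ 8 ∣ Nat.card (centralizer ({x} : Set G))) ∧
      ∃ y ∈ commutator G, orderOf y = 3) := by
  have hC := hsolv.centralizer_pCore_le h0
  have hP := isPGroup_pCore p G
  set P := pCore p G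
  have hP0 : P ≠ ⊥ := fun h => by
    rw [h, coe_bot, centralizer_eq_top_iff_subset.mpr (by simp), top_le_iff, eq_comm,
      ← card_eq_one, card_top] at hC
    exact hp.out.one_lt.ne' (Nat.dvd_one.mp (hC ▸ hdiv))
  obtain ⟨z, hz⟩ := exists_prime_orderOf_dvd_card' p (dvd_card_of_isPGroup_of_ne_bot
    (hP.to_subgroup _) (inf_center_ne_bot_of_isPGroup hP (N := ⊤) (by
      rwa [Ne, ← card_eq_one, card_top, card_eq_one])))
  have hz1 : orderOf (z.1 : G) = p := by rw [orderOf_coe, orderOf_coe, hz]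
  have hall : ∀ x : G, IsPElt p x → x ^ p = 1 ∧ x ∈ centralizer (P : Set G) := fun x hx => by
    by_cases h : x = 1
    · simp [h]
    obtain ⟨g, rfl⟩ := isConj_iff.mp (hconj z.1 x (fun h => hp.out.one_lt.ne (by simp [← hz1, h]))
      h ⟨1, by simp [hz1]⟩ hx)
    refine ⟨by rw [conj_pow, ← hz1, pow_orderOf_eq_one]; simp, Normal.conj_mem inferInstance _
      (mem_centralizer_iff.mpr fun y hy => ?_) g⟩
    exact congrArg Subtype.val (mem_center_iff.mp z.2.2 ⟨y, hy⟩)
  have hCP : centralizer (P : Set G) = P :=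
    le_antisymm hC fun x hx => (hall x (isPElt_of_mem hP hx)).2
  have : IsMulCommutative P := le_centralizer_iff_isMulCommutative.mp hCP.ge
  have hidx : ¬ p ∣ P.index := fun h => by
    obtain ⟨y, hy⟩ := exists_prime_orderOf_dvd_card' (G := G ⧸ P) p h
    obtain ⟨x, hx, rfl⟩ := IsPElt.exists_lift (QuotientGroup.mk'_surjective P)
      (show IsPElt p y from ⟨1, by simp [hy]⟩)
    rw [QuotientGroup.mk'_apply, (QuotientGroup.eq_one_iff _).mpr (hC (hall x hx).2)] at hy
    exact hp.out.one_lt.ne (by simp [← hy])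
  obtain ⟨a, ha⟩ := hP.exists_card_eq
  obtain ⟨K, hi, hs, hK⟩ := exists_complement_of_coprime (N := P)
    (ha ▸ ((Nat.Prime.coprime_iff_not_dvd hp.out).mpr hidx).pow_left a)
  rw [← hK] at hidx
  rw [card_reg_eq hP hidx hi hs]
  obtain ⟨π, hπ, hk⟩ := exists_proj hi hs
  obtain ⟨n, e, R, he, hR⟩ := exists_coords (p := p) P fun x hx => (hall x (isPElt_of_mem hP hx)).1
  have he1 : e 1 = 0 := by simpa using he 1 1
  have he0 : ∀ x : P, e x = 0 ↔ x = 1 := fun x => by rw [← he1, e.apply_eq_iff_eq]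
  have hRi : Function.Injective (R.comp K.subtype) :=
    (injective_iff_map_eq_one _).mpr fun k hk => Subtype.ext (hi.le ⟨hC
      (mem_centralizer_iff.mpr fun x hx => by
        have h1 := hR k ⟨x, hx⟩
        rw [show R k = 1 from hk, Matrix.one_mulVec, e.apply_eq_iff_eq] at h1
        exact (mul_inv_eq_iff_eq_mul.mp (congrArg Subtype.val h1)).symm), k.2⟩)
  have htr : ∀ v w : Fin n → ZMod p, v ≠ 0 → w ≠ 0 → ∃ h : K, R.comp K.subtype h *ᵥ v = w :=
    fun v w hv hw => by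
      obtain ⟨x, rfl⟩ := e.surjective v
      obtain ⟨y, rfl⟩ := e.surjective w
      obtain ⟨g, hg⟩ := isConj_iff.mp (hconj x y (fun h => hv ((he0 x).mpr (Subtype.ext h)))
        (fun h => hw ((he0 y).mpr (Subtype.ext h))) (isPElt_of_mem hP x.2) (isPElt_of_mem hP y.2))
      refine ⟨π g, (hR _ x).symm.trans (congrArg e (Subtype.ext ?_))⟩
      have h1 := mem_centralizer_iff.mp (hCP.ge ((hk ((π g : G)⁻¹ * g)).mp (by simp [hπ]))) x x.2
      rw [← hg, MulAut.conjNormal_apply, coe_subtype]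
      calc _ = (π g : G) * (x * ((π g : G)⁻¹ * g)) * g⁻¹ := by group
        _ = _ := by rw [h1]; group
  have hcP : Nat.card P = p ^ n := by rw [Nat.card_congr e]; simp
  have hn0 : n ≠ 0 := fun h => hP0 (card_eq_one.mp (by rw [hcP, h, pow_zero]))
  have hone : (fun _ => 1 : Fin n → ZMod p) ≠ 0 := fun h =>
    one_ne_zero (congrFun h ⟨0, Nat.pos_of_ne_zero hn0⟩)
  have hp2 := hp.out.two_le
  by_cases hn1 : n = 1
  · subst hn1
    refine Or.inr (Or.inl ⟨?_, nonempty_equiv_affine hi hs hCP e R he hR htr⟩)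
    have h1 : stab (R.comp K.subtype) (fun _ => 1) = ⊥ := eq_bot_iff.mpr fun k hk => hRi (by
      ext i j
      rw [Subsingleton.elim i 0, Subsingleton.elim j 0]
      simpa [Matrix.mulVec, dotProduct] using congrFun hk 0)
    have h2 := index_stab htr hone
    rw [h1, index_bot, pow_one] at h2
    rw [← h2]
    refine (Nat.card_eq_of_bijective ConjClasses.mk ⟨fun k l h => ?_, ConjClasses.mk_surjective⟩).symm
    obtain ⟨c, rfl⟩ := isConj_iff.mp (ConjClasses.mk_eq_mk_iff_isConj.mp h)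
    rw [eq_mul_inv_iff_mul_eq]
    apply hRi
    ext i j
    rw [map_mul, map_mul, Subsingleton.elim i j]
    simp [Matrix.mul_apply, Subsingleton.elim j 0, mul_comm]
  by_cases h5 : 5 ≤ p
  swap
  · left
    have h1 := Nat.le_of_dvd Nat.card_pos (index_stab htr hone ▸ index_dvd_card _)
    have h2 := (Nat.pow_le_pow_left hp2 2).trans (Nat.pow_le_pow_right hp.out.pos
      (show 2 ≤ n by omega))
    have h3 := three_le_card_conjClasses (G := K) (by omega)
    have h4 : p ≠ 4 := fun h => absurd (h ▸ hp.out) (by norm_num)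
    omega
  by_cases hn3 : 3 ≤ n
  · exact Or.inl (le_card_conjClasses hidx h5 hn3 _ hRi fun v hv => index_stab htr hv)
  obtain rfl : n = 2 := by omega
  rcases le_or_of_two hidx h5 _ hRi htr with h | ⟨rfl, h1, h2, h3, h4, x, hx1, hx2⟩
  · exact Or.inl h
  have hfix : ∀ k ∈ K, ∀ u ∈ P, k * u = u * k → k = 1 ∨ u = 1 := fun k hk u hu h => by
    by_contra h'
    push Not at h'
    have h6 : e ⟨u, hu⟩ ≠ 0 := fun h => h'.2 (congrArg Subtype.val ((he0 _).mp h))
    have h7 := index_mul_card (stab (R.comp K.subtype) (e ⟨u, hu⟩))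
    rw [index_stab htr h6, h2] at h7
    refine h'.1 (congrArg Subtype.val ((card_eq_one.mp (by omega) :
      stab (R.comp K.subtype) (e ⟨u, hu⟩) = ⊥).le (show (⟨k, hk⟩ : K) ∈ _ from ?_)))
    exact (hR k _).symm.trans (congrArg e (Subtype.ext (mul_inv_eq_iff_eq_mul.mpr h)))
  refine Or.inr (Or.inr ⟨rfl, h1, ⟨by rw [← card_mul_index P, hcP, ← hK, h2]; norm_num, K,
    ⟨fun h => by simp [h] at h2, fun h => hP0 (by simpa [h] using hi), fun g hg => ?_⟩, h4⟩,
    ⟨x, by rw [orderOf_coe, hx1], fun h => ?_⟩, ?_⟩)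
  · rw [eq_bot_iff]
    rintro y ⟨hy, l, hl, rfl⟩
    have hy' : g * l * g⁻¹ ∈ K := hy
    have h6 : g * (π g : G)⁻¹ ∈ P := (hk _).mp (by simp [hπ])
    have h7 := congrArg Subtype.val (hπ ⟨_, hy'⟩)
    rw [map_mul, map_mul, map_inv, hπ ⟨l, hl⟩] at h7
    rcases hfix _ hy' _ h6 (by
      simp only [Subgroup.coe_mul, Subgroup.coe_inv] at h7
      conv_rhs => rw [← h7]
      group) with h | h
    · exact h
    · exact absurd (mul_inv_eq_one.mp h ▸ (π g).2) hg
  · rw [← card_map_mul_card_inf_ker π] at h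
    have h6 : Nat.card ((centralizer ({(x : G)} : Set G)).map π) ∣ 4 :=
      hx2 ▸ card_dvd_of_le (by
        rintro _ ⟨g, hg, rfl⟩
        have := congrArg π (mem_centralizer_singleton_iff.mp hg)
        rw [map_mul, map_mul, hπ] at this
        exact mem_centralizer_singleton_iff.mpr this)
    have h7 : Nat.card (π.ker ⊓ centralizer ({(x : G)} : Set G) : Subgroup G) ∣ 11 ^ 2 :=
      hcP ▸ card_dvd_of_le fun g hg => (hk g).mp hg.1
    have := h.trans (mul_dvd_mul h6 h7)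
    omega
  · obtain ⟨y, hy⟩ := exists_prime_orderOf_dvd_card' (G := K) 3 (by omega)
    refine ⟨y, ?_, by rw [orderOf_coe, hy]⟩
    have h6 : (commutator K).map K.subtype ≤ commutator G := by
      rw [map_subtype_commutator]; exact commutator_mono le_top le_top
    exact h6 ⟨y, h3 ▸ mem_top y, rfl⟩

theorem not_dvd_orderOf {N : Subgroup G} [N.Normal] (hN : ¬ p ∣ Nat.card N) {x : G}
    (hx : ¬ p ∣ orderOf (x : G ⧸ N)) : ¬ p ∣ orderOf x := fun h => by
  have h1 : x ^ orderOf (x : G ⧸ N) ∈ N := by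
    rw [← QuotientGroup.eq_one_iff, QuotientGroup.mk_pow, pow_orderOf_eq_one]
  have h2 : orderOf x ∣ orderOf (x : G ⧸ N) * Nat.card N := by
    rw [orderOf_dvd_iff_pow_eq_one, pow_mul]
    exact orderOf_dvd_iff_pow_eq_one.mp (orderOf_dvd_natCard _ h1)
  exact (hp.out.dvd_mul.mp (h.trans h2)).elim hx hN

theorem card_reg_lift {N : Subgroup G} [N.Normal] (hN : ¬ p ∣ Nat.card N) (hN1 : N ≠ ⊥) :
    Nat.card {c : ConjClasses (G ⧸ N) // ∃ g, ConjClasses.mk g = c ∧ ¬ p ∣ orderOf g} + 1 ≤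
      Nat.card {c : ConjClasses G // ∃ g : G, ConjClasses.mk g = c ∧ ¬ p ∣ orderOf g} ∧
    (Nat.card {c : ConjClasses G // ∃ g : G, ConjClasses.mk g = c ∧ ¬ p ∣ orderOf g} ≤
      Nat.card {c : ConjClasses (G ⧸ N) // ∃ g, ConjClasses.mk g = c ∧ ¬ p ∣ orderOf g} + 1 →
      ∀ x y : G, x ≠ 1 → y ≠ 1 → ¬ p ∣ orderOf (x : G ⧸ N) → IsConj (x : G ⧸ N) y → IsConj x y) := by
  classical
  set A := {c : ConjClasses G // ∃ g : G, ConjClasses.mk g = c ∧ ¬ p ∣ orderOf g}
  set B := {c : ConjClasses (G ⧸ N) // ∃ g, ConjClasses.mk g = c ∧ ¬ p ∣ orderOf g}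
  let o : A := ⟨ConjClasses.mk 1, 1, rfl, by simpa using hp.out.one_lt.ne'⟩
  let φ : {c : A // c ≠ o} → B := fun c => ⟨ConjClasses.map (QuotientGroup.mk' N) c.1.1, by
    obtain ⟨g, h1, h2⟩ := c.1.2
    exact ⟨g, h1 ▸ rfl, fun h => h2 (h.trans (orderOf_map_dvd (QuotientGroup.mk' N) g))⟩⟩
  let ι : ∀ x : G, x ≠ 1 → ¬ p ∣ orderOf (x : G ⧸ N) → {c : A // c ≠ o} := fun x h1 h2 =>
    ⟨⟨ConjClasses.mk x, x, rfl, not_dvd_orderOf hN h2⟩, fun h => h1 (isConj_one_left.mp
      (ConjClasses.mk_eq_mk_iff_isConj.mp (congrArg Subtype.val h)))⟩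
  have hφ : Function.Surjective φ := by
    rintro ⟨_, g, rfl, hg⟩
    obtain ⟨x, rfl, hx⟩ : ∃ x : G, (x : G ⧸ N) = g ∧ x ≠ 1 := by
      by_cases h : g = 1
      · obtain ⟨x, hx⟩ := ne_bot_iff_exists_ne_one.mp hN1
        exact ⟨x, h ▸ (QuotientGroup.eq_one_iff _).mpr x.2, fun e => hx (Subtype.ext e)⟩
      · obtain ⟨x, rfl⟩ := QuotientGroup.mk_surjective g
        exact ⟨x, rfl, fun e => h (e ▸ rfl)⟩
    exact ⟨ι x hx hg, rfl⟩
  have h1 : Nat.card {c : A // c ≠ o} + 1 = Nat.card A := by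
    have := Fintype.ofFinite A
    have h2 : 0 < Fintype.card A := Fintype.card_pos_iff.mpr ⟨o⟩
    simp only [Nat.card_eq_fintype_card, Fintype.card_subtype_compl, Fintype.card_subtype_eq]
    omega
  have h2 := Nat.card_le_card_of_surjective φ hφ
  refine ⟨by omega, fun h x y hx hy hx' hxy => ?_⟩
  have hy' : ¬ p ∣ orderOf (y : G ⧸ N) := by
    obtain ⟨c, hc⟩ := isConj_iff.mp hxy
    rwa [← hc, ← MulAut.conj_apply, MulEquiv.orderOf_eq]
  have h3 := (hφ.bijective_of_nat_card_le (by omega)).1 (a₁ := ι x hx hx') (a₂ := ι y hy hy')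
    (Subtype.ext (ConjClasses.mk_eq_mk_iff_isConj.mpr hxy))
  exact ConjClasses.mk_eq_mk_iff_isConj.mp (congrArg (fun c => c.1.1) h3)

omit hp in
theorem false_of_lift {N : Subgroup G} [N.Normal] (hN : ¬ 11 ∣ Nat.card N) (hN1 : N ≠ ⊥)
    (hG : Nat.card (G ⧸ N) = 121 * 120)
    (h4 : ∃ x : G ⧸ N, orderOf x = 4 ∧ ¬ 8 ∣ Nat.card (centralizer ({x} : Set (G ⧸ N))))
    (h3 : ∃ y ∈ commutator (G ⧸ N), orderOf y = 3)
    (h : ∀ x y : G, x ≠ 1 → y ≠ 1 → ¬ 11 ∣ orderOf (x : G ⧸ N) → IsConj (x : G ⧸ N) y →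
      IsConj x y) : False := by
  have hcG := card_mul_index N
  have hNpos : 0 < Nat.card N := Nat.card_pos
  have hcent : ∀ x : G, (x : G ⧸ N) ≠ 1 → ¬ 11 ∣ orderOf (x : G ⧸ N) →
      Nat.card (centralizer ({x} : Set G)) =
        Nat.card (centralizer ({(x : G ⧸ N)} : Set (G ⧸ N))) := fun x h1 h2 => by
    have e1 : (centralizer ({x} : Set G)).index =
        Nat.card N * (centralizer ({(x : G ⧸ N)} : Set (G ⧸ N))).index := by
      rw [← card_isConj_eq_index_centralizer, ← card_isConj_eq_index_centralizer]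
      refine (Nat.card_congr (Equiv.subtypeEquivRight fun y => ?_)).trans
        (QuotientGroup.card_preimage_mk N {y | IsConj (x : G ⧸ N) y})
      exact ⟨(QuotientGroup.mk' N).map_isConj, fun hy => h x y (fun e => h1 (e ▸ rfl))
        (fun e => h1 (isConj_one_left.mp (by subst e; exact hy))) h2 hy⟩
    have e2 := card_mul_index (centralizer ({x} : Set G))
    rw [e1, ← hcG, index, index, ← card_mul_index (centralizer ({(x : G ⧸ N)} : Set (G ⧸ N))),
      mul_left_comm] at e2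
    exact Nat.eq_of_mul_eq_mul_right (index_pos _) (Nat.eq_of_mul_eq_mul_left hNpos e2)
  obtain ⟨q, hq, hqN⟩ := Nat.exists_prime_and_dvd (mt card_eq_one.mp hN1)
  have := Fact.mk hq
  obtain ⟨n₀, hn₀⟩ := exists_prime_orderOf_dvd_card' q hqN
  have hcj : ∀ a ∈ N, ∀ b ∈ N, a ≠ 1 → b ≠ 1 → IsConj a b := fun a ha b hb ha1 hb1 => by
    have e1 := (QuotientGroup.eq_one_iff _).mpr ha
    exact h a b ha1 hb1 (by simp [e1]) (by rw [e1, (QuotientGroup.eq_one_iff _).mpr hb])
  have hord : ∀ a ∈ N, a ≠ 1 → orderOf a = q := fun a ha ha1 => by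
    obtain ⟨c, rfl⟩ := isConj_iff.mp (hcj _ n₀.2 a ha (fun e => hq.one_lt.ne (by
      rw [← hn₀, ← orderOf_coe, e, orderOf_one])) ha1)
    rw [← MulAut.conj_apply, MulEquiv.orderOf_eq, orderOf_coe, hn₀]
  have hNq : IsPGroup q N := fun a => ⟨1, by
    by_cases ha : a = 1
    · simp [ha]
    · rw [pow_one, ← hord a a.2 fun e => ha (Subtype.ext e), orderOf_coe, pow_orderOf_eq_one]⟩
  have hfix : ∀ T : Subgroup G, IsPGroup q T → ∃ a ∈ N, a ≠ 1 ∧ a ∈ centralizer (T : Set G) :=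
    fun T hT => by
      have e1 := card_modEq_card_inf_centralizer (S := N) hT (le_normalizer_of_normal)
      obtain ⟨a, ha⟩ := ne_bot_iff_exists_ne_one.mp
        (show N ⊓ centralizer (T : Set G) ≠ ⊥ from fun e => by
          rw [e, card_bot] at e1
          exact hq.one_lt.ne' (Nat.dvd_one.mp ((e1.dvd_iff dvd_rfl).mp hqN)))
      exact ⟨a, a.2.1, fun e => ha (Subtype.ext e), a.2.2⟩
  have key : ∀ x : G, ∀ a ∈ N, a ≠ 1 → a * x = x * a → (x : G ⧸ N) ≠ 1 →
      ¬ 11 ∣ orderOf (x : G ⧸ N) →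
      orderOf (x : G ⧸ N) * q ∣ Nat.card (centralizer ({(x : G ⧸ N)} : Set (G ⧸ N))) :=
    fun x a ha ha1 hc h1 h2 => by
      rw [← hcent x h1 h2, ← card_map_mul_card_inf_ker (QuotientGroup.mk' N), ← hord a ha ha1]
      exact mul_dvd_mul (orderOf_dvd_natCard _ ⟨x, mem_centralizer_singleton_iff.mpr rfl, rfl⟩)
        (orderOf_dvd_natCard _ ⟨(QuotientGroup.eq_one_iff _).mpr ha,
          mem_centralizer_singleton_iff.mpr hc⟩)
  have hq11 : q ≠ 11 := fun e => hN (e ▸ hqN)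
  have key2 : ∀ y : G ⧸ N, y ≠ 1 → IsPElt q y →
      orderOf y * q ∣ Nat.card (centralizer ({y} : Set (G ⧸ N))) := fun y hy hy' => by
    obtain ⟨x, hx, rfl⟩ := hy'.exists_lift (QuotientGroup.mk'_surjective N)
    obtain ⟨a, ha, ha1, hc⟩ := hfix _ (isPElt_iff_isPGroup_zpowers.mp hx)
    obtain ⟨k, hk⟩ := hy'
    exact key x a ha ha1 (mem_centralizer_iff.mp hc x (mem_zpowers x)).symm hy fun e =>
      hq11 ((Nat.prime_dvd_prime_iff_eq (by norm_num) hq).mp
        (Nat.Prime.dvd_of_dvd_pow (by norm_num) (hk ▸ e))).symm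
  have hqG : ¬ q ∣ 121 * 120 := fun hd => by
    by_cases h2 : q = 2
    · subst h2
      obtain ⟨x, hx, hx'⟩ := h4
      exact hx' (by simpa [hx] using key2 x (fun e => by simp [e] at hx) ⟨2, hx⟩)
    obtain ⟨y, hy⟩ := exists_prime_orderOf_dvd_card' (G := G ⧸ N) q (hG ▸ hd)
    have e1 := (key2 y (fun e => hq.one_lt.ne (by simp [← hy, e])) ⟨1, by simp [hy]⟩).trans
      (card_subgroup_dvd_card _)
    rw [hy, hG] at e1
    have e2 : q ≤ 120 := Nat.le_sqrt.mpr (Nat.le_of_dvd (by norm_num) e1) |>.trans (by norm_num)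
    have := hq.two_le
    interval_cases q <;> omega
  obtain ⟨a, ha, ha1, hc⟩ := hfix N hNq
  have hNC : N ≤ centralizer {a} := fun b hb =>
    mem_centralizer_singleton_iff.mpr (mem_centralizer_iff.mp hc b hb)
  have h11 : ∀ x ∈ centralizer ({a} : Set G), ¬ 11 ∣ orderOf (x : G ⧸ N) → (x : G ⧸ N) = 1 :=
    fun x hx h2 => by
      by_contra h1
      exact hqG ((Dvd.intro_left _ rfl).trans (hG ▸ (key x a ha ha1
        (mem_centralizer_singleton_iff.mp hx).symm h1 h2).trans (card_subgroup_dvd_card _)))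
  have : Fact (Nat.Prime 11) := ⟨by norm_num⟩
  obtain ⟨k, hk⟩ : ∃ k, N.relIndex (centralizer {a}) = 11 ^ k := by
    rw [← card_map_mk'_eq_relIndex]
    refine IsPGroup.exists_card_eq (IsPGroup.iff_orderOf.mpr ?_)
    rintro ⟨_, x, hx, rfl⟩
    rw [← orderOf_coe]
    have e1 := h11 (pPrimePart 11 x) (zpowers_le.mpr hx (pPrimePart_mem_zpowers 11 x)) fun e =>
      isPRegular_pPrimePart 11 x (e.trans (orderOf_map_dvd (QuotientGroup.mk' N) _))
    have e2 := (isPElt_pPart 11 x).map (QuotientGroup.mk' N)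
    rwa [← mul_one (QuotientGroup.mk' N (pPart 11 x)), ← e1, ← QuotientGroup.mk'_apply, ← map_mul,
      pPart_mul_pPrimePart] at e2
  have e1 := relIndex_mul_index hNC
  have e2 : (centralizer ({a} : Set G)).index = Nat.card N - 1 := by
    rw [← card_isConj_eq_index_centralizer, ← card_ne_one]
    exact Nat.card_congr
      { toFun := fun y => by
          refine ⟨⟨y, ?_⟩, fun e => ha1 (isConj_one_left.mp
            ((show y.1 = 1 from congrArg Subtype.val e) ▸ y.2))⟩
          obtain ⟨c, hc⟩ := isConj_iff.mp y.2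
          exact hc ▸ Normal.conj_mem inferInstance a ha c
        invFun := fun y => ⟨y.1, hcj a ha _ y.1.2 ha1 fun e => y.2 (Subtype.ext e)⟩
        left_inv := fun _ => rfl
        right_inv := fun _ => rfl }
  rw [hk, e2, index, hG] at e1
  have hk2 : k < 3 := by
    by_contra e
    have := (pow_dvd_pow 11 (not_lt.mp e)).trans (Dvd.intro _ e1)
    omega
  obtain ⟨m, hm⟩ := hNq.exists_card_eq
  have hdq : ∀ r : ℕ, r.Prime → r ∣ Nat.card N → r = q := fun r hr e =>
    (Nat.prime_dvd_prime_iff_eq hr hq).mp (hr.dvd_of_dvd_pow (hm ▸ e))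
  interval_cases k
  · have := hdq 13 (by norm_num) (by omega)
    have := hdq 1117 (by norm_num) (by omega)
    omega
  · have : Fact (Nat.card N).Prime := ⟨by rw [show Nat.card N = 1321 by omega]; norm_num⟩
    have := isCyclic_of_prime_card (α := N) rfl
    obtain ⟨y, hy, hy3⟩ := h3
    rw [_root_.commutator_def, ← QuotientGroup.range_mk', ← map_commutator_eq] at hy
    obtain ⟨x, hx, rfl⟩ := hy
    have e3 := commutator_normalizer_le_centralizer N
    rw [normalizer_eq_top] at e3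
    have e4 := h11 x (mem_centralizer_singleton_iff.mpr (mem_centralizer_iff.mp (e3 hx) a ha).symm)
      (by rw [← QuotientGroup.mk'_apply, hy3]; norm_num)
    rw [QuotientGroup.mk'_apply, e4] at hy3
    simp at hy3
  · omega

end Cfsg.OnePClass
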