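import Cfsg.Agent.Grp.InvolGeo
import Mathlib.GroupTheory.FixedPointFree

/-!
# Transitive groups of prime degree with a TI complement: basic facts
-/

set_option autoImplicit false
set_option linter.unusedSectionVars false
set_option linter.style.haveILetI false

namespace Cfsg

open Subgroup MulAction
open scoped Pointwise MatrixGroups commutatorElement

universe u v

variable {G : Type u} [Group G] [Finite G]

local notation "N(" Q ")" => Subgroup.normalizer ((Q : Subgroup G) : Set G)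
local notation "C₁(" g ")" => Subgroup.centralizer ({g} : Set G)

/-- An involution of a perfect group is an even permutation. -/
theorem card_modEq_four_of_perfect (X : Type v) [Finite X] [MulAction G X]
    (hG : commutator G = ⊤) {t : G} (ht : t * t = 1) :
    Nat.card X ≡ Nat.card (fixedBy X t) [MOD 4] := by
  classical
  let _ := Fintype.ofFinite X
  have h1 : toPermHom G X t ^ 2 = 1 := by rw [← map_pow, sq, ht, map_one]
  have h2 : Equiv.Perm.sign (toPermHom G X t) = 1 :=
    Abelianization.commutator_subset_ker (Equiv.Perm.sign.comp (toPermHom G X))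
      (hG ▸ mem_top t)
  have h3 : Fintype.card (Function.fixedPoints (toPermHom G X t)) = Nat.card (fixedBy X t) := by
    rw [← Nat.card_eq_fintype_card]; rfl
  have h4 := Equiv.Perm.card_fixedPoints_modEq (p := 2) (n := 1)
    (f := (toPermHom G X t : X → X)) (by
      funext a
      show t • t • a = a
      rw [← mul_smul, ht, one_smul])
  have h5 : Nat.card (fixedBy X t) ≤ Fintype.card X := by
    rw [← Nat.card_eq_fintype_card]
    exact Nat.card_le_card_of_injective _ Subtype.val_injective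
  rw [Equiv.Perm.sign_of_pow_two_eq_one h1, h3, neg_one_pow_eq_one_iff_even (by decide)] at h2
  rw [h3] at h4
  rw [Nat.card_eq_fintype_card]
  obtain ⟨k, hk⟩ := h2
  unfold Nat.ModEq at h4 ⊢
  omega

theorem conj_eq_inv_of_fpf {A : Subgroup G} {t : G} (ht : t * t = 1)
    (hn : ∀ a ∈ A, t * a * t⁻¹ ∈ A) (hc : ∀ a ∈ A, t * a = a * t → a = 1) {a : G} (ha : a ∈ A) :
    t * a * t⁻¹ = a⁻¹ := by
  let φ : A →* A := ((MulAut.conj t).toMonoidHom.comp A.subtype).codRestrict A fun a => hn a a.2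
  have h1 : MonoidHom.FixedPointFree φ := fun a h =>
    Subtype.ext (hc a a.2 (mul_inv_eq_iff_eq_mul.1 (congrArg Subtype.val h)))
  have h2 : Function.Involutive φ := fun a => Subtype.ext (by
    show t * (t * a * t⁻¹) * t⁻¹ = a
    rw [show t * (t * a * t⁻¹) * t⁻¹ = (t * t) * a * (t * t)⁻¹ by group, ht]
    group)
  exact congrArg Subtype.val (congrFun (h1.coe_eq_inv_of_involutive h2) ⟨a, ha⟩)

theorem comm_of_conj_eq_inv {A : Subgroup G} {t : G} (h : ∀ a ∈ A, t * a * t⁻¹ = a⁻¹) {a b : G}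
    (ha : a ∈ A) (hb : b ∈ A) : a * b = b * a := by
  have := h _ (A.mul_mem ha hb)
  rw [show t * (a * b) * t⁻¹ = t * a * t⁻¹ * (t * b * t⁻¹) by group, h a ha, h b hb,
    ← mul_inv_rev] at this
  exact (inv_injective this).symm

theorem exists_sq_pow_eq_of_odd {y : G} (hy : Odd (orderOf y)) : ∃ k, (y * y) ^ k = y := by
  obtain ⟨k, hk⟩ := hy
  exact ⟨k + 1, by rw [← sq, ← pow_mul, show 2 * (k + 1) = orderOf y + 1 by omega, pow_succ,
    pow_orderOf_eq_one, one_mul]⟩

theorem eq_one_of_mul_self_of_odd {y : G} (hy : Odd (orderOf y)) (h : y * y = 1) : y = 1 := by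
  obtain ⟨k, hk⟩ := exists_sq_pow_eq_of_odd hy
  rw [← hk, h, one_pow]

theorem odd_orderOf_of_mem {A : Subgroup G} (hA : Odd (Nat.card A)) {y : G} (hy : y ∈ A) :
    Odd (orderOf y) := hA.of_dvd_nat (A.orderOf_dvd_natCard hy)

theorem card_filter_le_card_of_coset [Fintype G] (K : Subgroup G) {q : G → Prop} [DecidablePred q]
    (h : ∀ a b, q a → q b → a⁻¹ * b ∈ K) : (Finset.univ.filter q).card ≤ Nat.card K := by
  rcases (Finset.univ.filter q).eq_empty_or_nonempty with e | ⟨a, ha⟩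
  · rw [e]; exact Nat.zero_le _
  rw [← Nat.card_eq_finsetCard]
  exact Nat.card_le_card_of_injective (fun b => (⟨a⁻¹ * b, h a b (Finset.mem_filter.1 ha).2
    (Finset.mem_filter.1 b.2).2⟩ : K)) fun b c e =>
      Subtype.ext (mul_left_cancel (congrArg Subtype.val e))

theorem relIndex_stabilizer_eq {X : Type v} [MulAction G X] (B : Subgroup G) (x₀ : X) :
    (stabilizer G x₀).relIndex B = (orbit B x₀).ncard :=
  index_stabilizer B x₀

/-- Fixed points of an element inverting a semiregular group of odd order. -/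
theorem relIndex_le_of_dihedral {X : Type v} [Finite X] [MulAction G X] {E B C : Subgroup G}
    {s : G} {x₀ : X} {j : ℕ} (hE : Odd (Nat.card E)) (hs : ∀ y ∈ E, s * y * s⁻¹ = y⁻¹)
    (hEB : E ≤ B) (hCB : C ≤ B) (hC : ∀ c ∈ C, s * c = c * s) (hs0 : s • x₀ = x₀)
    (hE0 : ∀ y ∈ E, y • x₀ = x₀)
    (hfree : ∀ y ∈ E, ∀ b ∈ B, y • b • x₀ = b • x₀ → y = 1 ∨ b • x₀ = x₀)
    (hB : (stabilizer G x₀).relIndex B ≤ 1 + j * Nat.card E) :
    (stabilizer G x₀).relIndex C ≤ 1 + j := by
  rw [relIndex_stabilizer_eq] at hB ⊢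
  have h0 : ∀ a ∈ orbit C x₀, s • a = a := by
    rintro _ ⟨c, rfl⟩
    show s • (c : G) • x₀ = (c : G) • x₀
    rw [← mul_smul, hC c c.2, mul_smul, hs0]
  let f : E × ↥(orbit C x₀ \ {x₀}) → ↥(orbit B x₀ \ {x₀}) := fun w =>
    ⟨(w.1 : G) • (w.2 : X), by
      obtain ⟨y, a, ⟨c, rfl⟩, ha⟩ := w
      refine ⟨⟨⟨y * c, B.mul_mem (hEB y.2) (hCB c.2)⟩, mul_smul _ _ _⟩, fun e => ha ?_⟩
      exact (eq_inv_smul_iff.2 e).trans (hE0 _ (E.inv_mem y.2))⟩
  have hf : Function.Injective f := by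
    rintro ⟨y, a, ha, ha'⟩ ⟨y', b, hb, hb'⟩ e
    replace e : (y : G) • a = (y' : G) • b := congrArg Subtype.val e
    have h1 : ((y'⁻¹ * y : E) : G) • a = b := by
      rw [coe_mul, mul_smul, e, coe_inv, inv_smul_smul]
    generalize hz : y'⁻¹ * y = z at h1
    have h2 : ((z : G) * z) • a = a := by
      have := h0 b hb
      rw [← h1, ← mul_smul, mul_inv_eq_iff_eq_mul.1 (hs z z.2), mul_smul, h0 a ha] at this
      rw [mul_smul, ← this, smul_inv_smul]
    obtain ⟨c, rfl⟩ := ha
    have h3 := eq_one_of_mul_self_of_odd (odd_orderOf_of_mem hE z.2)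
      ((hfree _ (E.mul_mem z.2 z.2) c (hCB c.2) h2).resolve_right ha')
    rw [h3, one_smul] at h1
    obtain rfl : y' = y := inv_mul_eq_one.1 (hz.trans (Subtype.ext h3))
    simp only [h1]
  have h1 := Nat.card_le_card_of_injective f hf
  rw [Nat.card_prod, Nat.card_coe_set_eq (_ \ _), Nat.card_coe_set_eq (_ \ _),
    Set.ncard_sdiff_singleton_of_mem (mem_orbit_self _),
    Set.ncard_sdiff_singleton_of_mem (mem_orbit_self _)] at h1
  have h2 : Nat.card E * ((orbit C x₀).ncard - 1) ≤ Nat.card E * j := by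
    rw [mul_comm _ j]
    omega
  have := Nat.le_of_mul_le_mul_left h2 Nat.card_pos
  omega

variable {p : ℕ} [hp : Fact p.Prime] {x : G}

theorem SelfCent.nonempty_psl (h : SelfCent p x) {e : ℕ} (he : p = 2 * e + 1)
    (hD : (N(zpowers x)).index = p + 1) (hN : Nat.card N(zpowers x) = p * e)
    (hG : commutator G = ⊤) :
    Nonempty (G ≃* Matrix.ProjectiveSpecialLinearGroup (Fin 2) (ZMod p)) := by
  have hSyl : Nat.card (Sylow p G) = p + 1 := by
    rw [h.sylow.card_eq_index_normalizer]; exact hD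
  obtain ⟨φ⟩ := nonempty_quotient_equiv_psl h.sylow h.card_zpowers he hSyl ⊥
    (fun g => ⟨fun e Q => by rw [mem_bot.mp e, one_smul], fun e => by
      set K' := (toPermHom G (Sylow p G)).ker
      have h4 : ∀ g, g ∈ K' ↔ ∀ Q : Sylow p G, g • Q = Q := fun g => by
        simp [K', Equiv.ext_iff]
      have h5 : ¬ p ∣ Nat.card K' := fun e => by
        have h6 := (h4 _).mp (h.le_of_dvd e (mem_zpowers _))
        haveI : Subsingleton (Sylow p G) := ⟨fun Q Q' =>
          (Sylow.eq_of_smul_eq_of_card h.sylow h.card_zpowers (mem_zpowers _) h.ne_one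
            (h6 Q)).trans (Sylow.eq_of_smul_eq_of_card h.sylow h.card_zpowers (mem_zpowers _)
            h.ne_one (h6 Q')).symm⟩
        have := Finite.card_le_one_iff_subsingleton.mpr this
        have := hp.out.pos
        omega
      rw [← h.inf_normalizer_eq_bot h5 le_normalizer_of_normal]
      exact ⟨(h4 g).mpr e, Sylow.smul_eq_iff_mem_normalizer.mp (e h.sylow)⟩⟩)
    (by rw [index_bot, ← index_mul_card N(zpowers x), hD, hN, mul_assoc])
    (by rw [sup_bot_eq, hG])
  exact ⟨QuotientGroup.quotientBot.symm.trans φ⟩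

section Perm

variable {α : Type v} [MulAction G α]

theorem exists_zpowers_smul_eq [FaithfulSMul G α] (hα : Nat.card α = p) (hx : orderOf x = p)
    (a b : α) : ∃ u ∈ zpowers x, u • a = b := by
  have : Finite α := Nat.finite_of_card_ne_zero (hα ▸ hp.out.ne_zero)
  obtain ⟨c, hc⟩ : ∃ c : α, x • c ≠ c := by
    by_contra! h
    rw [eq_of_smul_eq_smul (α := α) (m₁ := x) (m₂ := 1) fun c => by rw [h, one_smul],
      orderOf_one] at hx
    exact hp.out.one_lt.ne hx
  have h1 : (stabilizer G c).relIndex (zpowers x) ∣ p := by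
    rw [← hx, ← Nat.card_zpowers]; exact relIndex_dvd_card _ _
  have h2 := ((Nat.dvd_prime hp.out).1 h1).resolve_left fun e =>
    hc (relIndex_eq_one.1 e (mem_zpowers x))
  rw [relIndex_stabilizer_eq, ← hα, ← Set.ncard_univ] at h2
  have h3 := Set.eq_of_subset_of_ncard_le (Set.subset_univ _) h2.ge
  obtain ⟨u, hu⟩ := h3 ▸ Set.mem_univ a
  obtain ⟨w, hw⟩ := h3 ▸ Set.mem_univ b
  exact ⟨w * u⁻¹, mul_mem w.2 (inv_mem u.2), by
    rw [← hu, ← hw, mul_smul]; exact congrArg _ (inv_smul_smul _ _)⟩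

theorem comm_of_both_mem_zpowers {a b : G} (ha : a ∈ zpowers x) (hb : b ∈ zpowers x) :
    a * b = b * a := by
  obtain ⟨i, rfl⟩ := ha
  obtain ⟨j, rfl⟩ := hb
  exact (Commute.zpow_zpow_self x i j).eq

theorem eq_one_of_commute_of_smul [FaithfulSMul G α] (hα : Nat.card α = p) (hx : orderOf x = p)
    {g : G} (hg : ∀ u ∈ zpowers x, g * u = u * g) {a : α} (ha : g • a = a) : g = 1 :=
  eq_of_smul_eq_smul (α := α) fun b => by
    obtain ⟨u, hu, rfl⟩ := exists_zpowers_smul_eq hα hx a b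
    rw [← mul_smul, hg u hu, mul_smul, ha, one_smul]

theorem selfCent_of_perm [FaithfulSMul G α] (hα : Nat.card α = p) (hx : orderOf x = p) :
    SelfCent p x := by
  have : Nonempty α := (Nat.card_ne_zero.1 (hα ▸ hp.out.ne_zero)).1
  obtain ⟨a⟩ := this
  refine ⟨hx, le_antisymm (fun g hg => ?_) (zpowers_le.2 (mem_centralizer_singleton_iff.2 rfl))⟩
  obtain ⟨u, hu, e⟩ := exists_zpowers_smul_eq hα hx a (g • a)
  have := eq_one_of_commute_of_smul hα hx (g := u⁻¹ * g) (a := a) (fun w hw => by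
    obtain ⟨i, rfl⟩ := hw
    exact ((Commute.mul_left (comm_of_both_mem_zpowers (inv_mem hu) (mem_zpowers x))
      (mem_centralizer_singleton_iff.1 hg)).zpow_right i).eq) (by rw [mul_smul, ← e, inv_smul_smul])
  exact inv_mul_eq_one.1 this ▸ hu

end Perm

/-- A perfect transitive group of prime degree whose Sylow normalizer has a TI complement of
index two in its normalizer. -/
structure TIData (p : ℕ) (α : Type v) [MulAction G α] (x : G) (E : Subgroup G) : Prop where
  faith : FaithfulSMul G α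
  card : Nat.card α = p
  ord : orderOf x = p
  sup : E ⊔ zpowers x = N(zpowers x)
  inf : ∀ y ∈ E, y ∈ zpowers x → y = 1
  cardN : Nat.card N(E) = 2 * Nat.card E
  ti : ∀ g, ∀ y ∈ E, y ≠ 1 → g * y * g⁻¹ ∈ E → g ∈ N(E)
  perf : commutator G = ⊤

namespace TIData

variable {α : Type v} [MulAction G α] {E : Subgroup G} (h : TIData p α x E)
include h

theorem sc : SelfCent p x := have := h.faith; selfCent_of_perm h.card h.ord

theorem finite : Finite α := Nat.finite_of_card_ne_zero (h.card ▸ hp.out.ne_zero)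

theorem trans (a b : α) : ∃ u ∈ zpowers x, u • a = b :=
  have := h.faith; exists_zpowers_smul_eq h.card h.ord a b

theorem isPretransitive : IsPretransitive G α :=
  ⟨fun a b => (h.trans a b).imp fun _ => And.right⟩

theorem le : E ≤ N(zpowers x) := h.sup ▸ le_sup_left

theorem nsq : ¬ p ^ 2 ∣ Nat.card G := fun e => h.sc.not_dvd_index (by
  rwa [← h.sc.index_zpowers_mul, sq, Nat.mul_dvd_mul_iff_right hp.out.pos] at e)

theorem not_dvd : ¬ p ∣ Nat.card E := fun e => by
  obtain ⟨y, hy⟩ := exists_prime_orderOf_dvd_card' p e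
  rw [← orderOf_coe] at hy
  have h1 : zpowers (y : G) ≤ zpowers x := inf_eq_left.1
    ((IsPGroup.of_card (n := 1) (by rw [Nat.card_zpowers, hy, pow_one])).inf_normalizer_sylow
      h.sc.sylow ▸ (inf_eq_left.2 (zpowers_le.2 (h.le y.2))))
  rw [h.inf y y.2 (h1 (mem_zpowers _)), orderOf_one] at hy
  exact hp.out.one_lt.ne hy

theorem comm {a b : G} (ha : a ∈ E) (hb : b ∈ E) : a * b = b * a :=
  commutatorElement_eq_one_iff_mul_comm.1 (h.inf _
    (mul_mem (mul_mem (mul_mem ha hb) (inv_mem ha)) (inv_mem hb))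
    (h.sc.commutator_normalizer_le (commutator_mem_commutator (h.le ha) (h.le hb))))

theorem card_normalizer : Nat.card N(zpowers x) = p * Nat.card E := by
  rw [← h.sup, card_sup_of_le_normalizer_of_disjoint h.le
    (eq_bot_iff.2 fun y hy => h.inf y hy.1 hy.2), h.sc.card_zpowers, mul_comm]

theorem card_eq : Nat.card G = p * Nat.card E * (N(zpowers x)).index := by
  rw [← h.card_normalizer, card_mul_index]

theorem relIndex_zpowers : (zpowers x).relIndex N(zpowers x) = Nat.card E :=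
  Nat.eq_of_mul_eq_mul_left hp.out.pos (by
    rw [← h.card_normalizer, ← card_mul_relIndex (le_normalizer (H := zpowers x)),
      h.sc.card_zpowers])

theorem dvd_sub_one : Nat.card E ∣ p - 1 :=
  Dvd.intro_left _ (h.relIndex_zpowers ▸ h.sc.card_classes_mul)

theorem index_modEq : (N(zpowers x)).index ≡ 1 [MOD p] :=
  h.sc.sylow.card_eq_index_normalizer ▸ card_sylow_modEq_one p G

theorem relIndex_eq : E.relIndex N(E) = 2 :=
  Nat.eq_of_mul_eq_mul_left Nat.card_pos
    (by rw [card_mul_relIndex le_normalizer, h.cardN, mul_comm])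

theorem mul_mem {a b : G} (ha : a ∈ N(E)) (hb : b ∈ N(E)) (ha' : a ∉ E) (hb' : b ∉ E) :
    a * b ∈ E :=
  (mul_mem_iff_of_index_two h.relIndex_eq (a := ⟨a, ha⟩) (b := ⟨b, hb⟩)).2 (iff_of_false ha' hb')

theorem mem_of_odd {y : G} (hy : y ∈ N(E)) (ho : Odd (orderOf y)) : y ∈ E := by
  obtain ⟨k, hk⟩ := exists_sq_pow_eq_of_odd ho
  exact hk ▸ E.pow_mem (mul_self_mem_of_index_two h.relIndex_eq ⟨y, hy⟩) k

theorem mem_of_comm {g y : G} (hy : y ∈ E) (h1 : y ≠ 1) (hc : g * y = y * g) : g ∈ N(E) :=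
  h.ti g y hy h1 (by rwa [hc, mul_inv_cancel_right])

theorem ne_bot : E ≠ ⊥ := fun e => by
  have h1 := h.cardN
  rw [e, normalizer_eq_top, card_top, card_bot] at h1
  have : IsCyclic G := isCyclic_of_prime_card (p := 2) h1
  have h2 := h.perf
  rw [(commutator_eq_bot_iff G).2 inferInstance] at h2
  exact h.sc.ne_one (mem_bot.1 (h2 ▸ mem_top x))

theorem eq_one_of_smul {u : G} (hu : u ∈ zpowers x) {a : α} (ha : u • a = a) : u = 1 :=
  have := h.faith
  eq_one_of_commute_of_smul h.card h.ord (fun _ => comm_of_both_mem_zpowers hu) ha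

theorem eq_of_smul {y : G} (hy : y ∈ E) (h1 : y ≠ 1) {a b : α} (ha : y • a = a) (hb : y • b = b) :
    a = b := by
  obtain ⟨u, hu, rfl⟩ := h.trans a b
  have h2 : y * u * y⁻¹ ∈ zpowers x := (mem_normalizer_iff.1 (h.le hy) u).1 hu
  have h3 := h.eq_one_of_smul (Subgroup.mul_mem _ (inv_mem hu) h2) (a := a) (by
    rw [mul_smul, mul_smul, inv_smul_eq_iff.2 ha.symm, mul_smul, hb, inv_smul_smul])
  by_contra e
  exact h1 (h.inf y hy (h.sc.mem_of_commute (Q := h.sc.sylow) hu (fun e' => e (by rw [e', one_smul]))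
    (mul_inv_eq_iff_eq_mul.1 (inv_mul_eq_one.1 h3).symm)))

theorem exists_fixed_of_isPGroup {r : ℕ} [Fact r.Prime] (hr : r ≠ p) {R : Subgroup G}
    (hR : IsPGroup r R) : ∃ a : α, ∀ y ∈ R, y • a = a := by
  obtain ⟨a, ha⟩ := hR.nonempty_fixed_point_of_prime_not_dvd_card α (by
    rw [h.card, Nat.prime_dvd_prime_iff_eq Fact.out hp.out]; exact hr)
  exact ⟨a, fun y hy => ha ⟨y, hy⟩⟩

theorem exists_fixed : ∃ a : α, N(E) ≤ stabilizer G a := by
  obtain ⟨r, hr, hd⟩ := Nat.exists_prime_and_dvd (fun e => h.ne_bot (card_eq_one.1 e))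
  have := Fact.mk hr
  obtain ⟨y, hy⟩ := exists_prime_orderOf_dvd_card' r hd
  rw [← orderOf_coe] at hy
  have h1 : (y : G) ≠ 1 := fun e => hr.one_lt.ne (by rw [← hy, e, orderOf_one])
  obtain ⟨a, ha⟩ := h.exists_fixed_of_isPGroup (r := r) (fun e => h.not_dvd (e ▸ hd))
    (R := zpowers (y : G)) (IsPGroup.of_card (n := 1) (by rw [Nat.card_zpowers, hy, pow_one]))
  replace ha := ha y (mem_zpowers _)
  have h2 : ∀ w ∈ E, w • a = a := fun w hw => h.eq_of_smul y.2 h1
    (by rw [← mul_smul, h.comm y.2 hw, mul_smul, ha]) ha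
  refine ⟨a, fun g hg => h.eq_of_smul ((mem_normalizer_iff.1 hg y).1 y.2) (by simpa using h1)
    (by rw [mul_smul, inv_smul_smul, mul_smul, ha]) (h2 _ ((mem_normalizer_iff.1 hg y).1 y.2))⟩

theorem card_stabilizer (a : α) :
    Nat.card (stabilizer G a) = Nat.card E * (N(zpowers x)).index := by
  have := h.isPretransitive
  refine Nat.eq_of_mul_eq_mul_left hp.out.pos ?_
  rw [← mul_assoc, ← h.card_eq, ← index_mul_card (stabilizer G a), index_stabilizer_of_transitive,
    h.card]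

theorem mem_of_conj_mem {y g : G} (hy : y ∈ E) (h1 : y ≠ 1) (ho : Odd (orderOf y))
    (hg : g⁻¹ * y * g ∈ N(E)) : g ∈ N(E) :=
  inv_mem_iff.1 (h.ti g⁻¹ y hy h1 (by
    rw [inv_inv]
    exact h.mem_of_odd hg (by
      rwa [← orderOf_eq_of_isConj' (isConj_iff.2 ⟨g⁻¹, by rw [inv_inv]⟩ : IsConj y (g⁻¹ * y * g))])))

theorem eq_of_smul_quot {y : G} (hy : y ∈ E) (h1 : y ≠ 1) (ho : Odd (orderOf y)) {g : G}
    (hg : y • (g : G ⧸ N(E)) = g) : (g : G ⧸ N(E)) = (1 : G) := by
  rw [Quotient.smul_coe, eq_comm, QuotientGroup.eq, smul_eq_mul, ← mul_assoc] at hg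
  rw [eq_comm, QuotientGroup.eq, inv_one, one_mul]
  exact h.mem_of_conj_mem hy h1 ho hg

theorem exists_not_mem : ∃ s ∈ N(E), s ∉ E := by
  by_contra! e
  have := h.relIndex_eq
  rw [relIndex_eq_one.2 e] at this
  omega

section Odd

variable (ho : Odd (Nat.card E))
include ho

theorem coprime : (Nat.card E).Coprime E.index := by
  refine Nat.coprime_of_dvd fun r hr h1 h2 => ?_
  have := Fact.mk hr
  obtain ⟨y, hy⟩ := exists_prime_orderOf_dvd_card' r h1
  rw [← orderOf_coe] at hy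
  have h3 : (y : G) ≠ 1 := fun e => hr.one_lt.ne (by rw [← hy, e, orderOf_one])
  have h4 := (IsPGroup.of_card (G := zpowers (y : G)) (p := r) (n := 1)
    (by rw [Nat.card_zpowers, hy, pow_one])).card_modEq_card_fixedPoints (G ⧸ N(E))
  rw [show fixedPoints (zpowers (y : G)) (G ⧸ N(E)) = {((1 : G) : G ⧸ N(E))} from
    Set.eq_singleton_iff_unique_mem.2 ⟨fun w => by
      show (w : G) • ((1 : G) : G ⧸ N(E)) = _
      rw [Quotient.smul_coe, eq_comm, QuotientGroup.eq]
      simpa using le_normalizer (zpowers_le.2 y.2 w.2), fun q hq => by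
      induction q using QuotientGroup.induction_on with
      | H g => exact h.eq_of_smul_quot y.2 h3 (odd_orderOf_of_mem ho y.2) (hq ⟨y, mem_zpowers _⟩)⟩,
    Nat.card_coe_set_eq, Set.ncard_singleton] at h4
  rw [← relIndex_mul_index (le_normalizer (H := E)), h.relIndex_eq, hr.dvd_mul] at h2
  rcases h2 with h2 | h2
  · rw [(Nat.prime_dvd_prime_iff_eq hr Nat.prime_two).1 h2] at h1
    exact ho.not_two_dvd_nat h1
  · exact hr.one_lt.ne' (Nat.dvd_one.1 ((Nat.ModEq.dvd_iff h4 dvd_rfl).1 h2))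

theorem conj_eq_inv {s : G} (hs : s ∈ N(E)) (hs' : s ∉ E) {y : G} (hy : y ∈ E) :
    s * y * s⁻¹ = y⁻¹ := by
  let K : Subgroup G :=
    { carrier := {y | y ∈ E ∧ s * y * s⁻¹ = y⁻¹}
      mul_mem' := fun {a b} ha hb => ⟨E.mul_mem ha.1 hb.1, by
        rw [h.comm ha.1 hb.1, mul_inv_rev, ← ha.2, ← hb.2, h.comm hb.1 ha.1]
        group⟩
      one_mem' := ⟨E.one_mem, by group⟩
      inv_mem' := fun {a} ha => ⟨E.inv_mem ha.1, by rw [← conj_inv, ha.2]⟩ }
  have h1 : E.focalSubgroup ≤ K := focalSubgroup_le_iff.2 fun y hy g hg => by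
    refine ⟨E.mul_mem hy (E.inv_mem hg), ?_⟩
    by_cases h1 : y = 1
    · rw [h1]; group
    have h2 := h.ti g y hy h1 hg
    by_cases h3 : g ∈ E
    · rw [h.comm h3 hy]; group
    have h4 := h.comm (h.mul_mem hs h2 hs' h3) hy
    have h5 := h.comm (h.mul_mem hs (inv_mem h2) hs' (mt inv_mem_iff.1 h3)) hg
    calc s * (y * (g * y * g⁻¹)⁻¹) * s⁻¹
        = s * g⁻¹ * (g * y * g⁻¹) * (s * g⁻¹)⁻¹ * (s * g * y * (s * g)⁻¹)⁻¹ := by group
      _ = _ := by rw [h4, h5]; group
  rw [← commutator_inf_eq_focalSubgroup_of_coprime (h.coprime ho), h.perf, top_inf_eq] at h1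
  exact (h1 hy).2

theorem mul_self_eq_one {s : G} (hs : s ∈ N(E)) (hs' : s ∉ E) : s * s = 1 := by
  have h1 := h.mul_mem hs hs hs' hs'
  refine eq_one_of_mul_self_of_odd (odd_orderOf_of_mem ho h1) ?_
  rw [← eq_inv_iff_mul_eq_one, ← h.conj_eq_inv ho hs hs' h1]
  group

theorem mem_of_comm' {g y : G} (hy : y ∈ E) (h1 : y ≠ 1) (hc : g * y = y * g) : g ∈ E := by
  by_contra e
  have := h.conj_eq_inv ho (h.mem_of_comm hy h1 hc) e hy
  rw [hc, mul_inv_cancel_right, eq_inv_iff_mul_eq_one] at this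
  exact h1 (eq_one_of_mul_self_of_odd (odd_orderOf_of_mem ho hy) this)

theorem eq_or_eq_inv {y y' : G} (hy : y ∈ E) (h1 : y ≠ 1) (hy' : y' ∈ E) (hc : IsConj y y') :
    y' = y ∨ y' = y⁻¹ := by
  obtain ⟨g, rfl⟩ := isConj_iff.1 hc
  by_cases e : g ∈ E
  · exact Or.inl (by rw [h.comm e hy, mul_inv_cancel_right])
  · exact Or.inr (h.conj_eq_inv ho (h.ti g y hy h1 hy') e hy)

theorem card_centralizer_le (he : p = 2 * Nat.card E + 1) (hD : (N(zpowers x)).index = p + 1)
    {s : G} (hs : s ∈ N(E)) (hs' : s ∉ E) : Nat.card C₁(s) ≤ 12 := by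
  obtain ⟨a, ha⟩ := h.exists_fixed
  have := h.finite
  have := h.isPretransitive
  have h1 := relIndex_le_of_dihedral (B := ⊤) (C := C₁(s)) (j := 2) (x₀ := a) ho
    (fun y => h.conj_eq_inv ho hs hs') le_top le_top
    (fun c hc => (mem_centralizer_singleton_iff.1 hc).symm) (ha hs)
    (fun y hy => ha (le_normalizer hy))
    (fun y hy b _ e => or_iff_not_imp_left.2 fun h1 =>
      h.eq_of_smul hy h1 e (ha (le_normalizer hy)))
    (by rw [relIndex_top_right, index_stabilizer_of_transitive, h.card]; omega)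
  have h0 : stabilizer G ((1 : G) : G ⧸ N(E)) = N(E) := stabilizer_quotient _
  have h2 := relIndex_le_of_dihedral (B := stabilizer G a) (C := stabilizer G a ⊓ C₁(s)) (j := 1)
    (x₀ := ((1 : G) : G ⧸ N(E))) ho
    (fun y => h.conj_eq_inv ho hs hs') (le_normalizer.trans ha) inf_le_left
    (fun c hc => (mem_centralizer_singleton_iff.1 hc.2).symm) (h0.ge hs)
    (fun y hy => h0.ge (le_normalizer hy))
    (fun y hy b _ e => or_iff_not_imp_left.2 fun h1 =>
      h.eq_of_smul_quot hy h1 (odd_orderOf_of_mem ho hy) e)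
    (by
      have := card_mul_relIndex ha
      rw [h.card_stabilizer, h.cardN, hD, he] at this
      rw [h0]
      refine Nat.le_of_mul_le_mul_left (le_of_eq (this.trans (by ring))) ?_
      exact Nat.mul_pos two_pos Nat.card_pos)
  rw [h0] at h2
  have h3 : Nat.card (N(E) ⊓ (stabilizer G a ⊓ C₁(s)) : Subgroup G) ≤ 2 := by
    refine (Set.ncard_le_ncard (t := ({1, s} : Set G)) ?_).trans ?_
    · rintro c ⟨hc, -, hc'⟩
      have h4 : ∀ y ∈ E, y * s = s * y → y = 1 := fun y hy e => by_contra fun h1 =>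
        hs' (h.mem_of_comm' ho hy h1 e.symm)
      replace hc' := mem_centralizer_singleton_iff.1 hc'
      by_cases e : c ∈ E
      · exact Or.inl (h4 c e hc')
      · refine Or.inr ?_
        have := h4 _ (h.mul_mem hc hs e hs') (by rw [hc', mul_assoc, hc'])
        rw [← h.mul_self_eq_one ho hs hs'] at this
        exact mul_right_cancel this
    · exact Set.ncard_insert_le _ _ |>.trans (by rw [Set.ncard_singleton])
  have h4 := card_mul_relIndex (inf_le_right (a := stabilizer G a) (b := C₁(s)))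
  have h5 := card_mul_relIndex (inf_le_right (a := N(E)) (b := stabilizer G a ⊓ C₁(s)))
  rw [inf_relIndex_right] at h4 h5
  rw [← h4, ← h5]
  exact Nat.mul_le_mul (Nat.mul_le_mul h3 h2) h1

theorem le_card_centralizer (hD : (N(zpowers x)).index = p + 1) (hp2 : p ≠ 2)
    {s : G} (hs : s ∈ N(E)) (hs' : s ∉ E) : p + 1 ≤ Nat.card C₁(s) := by
  classical
  let _ := Fintype.ofFinite G
  let _ := Fintype.ofFinite (Sylow p G)
  have hN : ∀ t ∈ N(zpowers x), t * t = 1 → t = 1 := fun t ht =>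
    eq_one_of_mul_self_of_odd (odd_orderOf_of_mem
      (h.card_normalizer ▸ (hp.out.odd_of_ne_two hp2).mul ho) ht)
  have h1 := Finset.card_le_mul_card_image_of_maps_to (s := Finset.univ)
    (t := Finset.univ.filter fun t : G => t * t = 1 ∧ t ≠ 1) (f := fun g => g * s * g⁻¹)
    (fun g _ => by
      refine Finset.mem_filter.2 ⟨Finset.mem_univ _, ?_, fun e => hs' ?_⟩
      · rw [conj_mul, h.mul_self_eq_one ho hs hs', mul_one, mul_inv_cancel]
      · rw [conj_eq_one_iff.1 e]; exact E.one_mem) (Nat.card C₁(s)) fun t _ =>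
      card_filter_le_card_of_coset _ fun a b ha hb => by
        rw [mem_centralizer_singleton_iff]
        calc a⁻¹ * b * s = a⁻¹ * (b * s * b⁻¹) * b := by group
          _ = _ := by rw [hb, ← ha]; group
  have h2 := Finset.card_le_mul_card_image_of_maps_to
    (s := Finset.univ.filter fun t : G => t * t = 1 ∧ t ≠ 1)
    (t := Finset.univ.erase h.sc.sylow) (f := fun t => t • h.sc.sylow)
    (fun t ht => by
      obtain ⟨-, h1, h2⟩ := Finset.mem_filter.1 ht
      exact Finset.mem_erase.2 ⟨fun e => h2 (hN t (Sylow.smul_eq_iff_mem_normalizer.1 e) h1),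
        Finset.mem_univ _⟩) (Nat.card E) fun R hR => by
      rw [Finset.filter_filter]
      refine (card_filter_le_card_of_coset (N(zpowers x) ⊓ stabilizer G R) ?_).trans
        (Nat.le_of_dvd Nat.card_pos (Nat.Coprime.dvd_of_dvd_mul_left ?_
          (h.card_normalizer ▸ card_dvd_of_le inf_le_left)))
      · rintro a b ⟨⟨h1, -⟩, h2⟩ ⟨⟨h3, -⟩, h4⟩
        refine ⟨Sylow.smul_eq_iff_mem_normalizer.1 (show (a⁻¹ * b) • h.sc.sylow = h.sc.sylow by
          rw [mul_smul, h4, ← h2, inv_smul_smul]), show (a⁻¹ * b) • R = R from ?_⟩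
        rw [mul_smul, ← h4, ← mul_smul b, h3, one_smul, inv_eq_of_mul_eq_one_right h1, h2, h4]
      · refine (hp.out.coprime_iff_not_dvd.2 fun e => ?_).symm
        obtain ⟨y, hy⟩ := exists_prime_orderOf_dvd_card' p e
        rw [← orderOf_coe] at hy
        have h1 : zpowers (y : G) ≤ zpowers x := inf_eq_left.1
          ((IsPGroup.of_card (n := 1) (by rw [Nat.card_zpowers, hy, pow_one])).inf_normalizer_sylow
            h.sc.sylow ▸ (inf_eq_left.2 (zpowers_le.2 y.2.1)))
        exact (Finset.mem_erase.1 hR).1 (Sylow.eq_of_smul_eq_of_card h.sc.sylow h.sc.card_zpowers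
          (h1 (mem_zpowers _)) (fun e => hp.out.one_lt.ne (by rw [← hy, e, orderOf_one])) y.2.2)
  rw [Finset.card_erase_of_mem (Finset.mem_univ _), Finset.card_univ, ← Nat.card_eq_fintype_card,
    h.sc.sylow.card_eq_index_normalizer.trans hD, Nat.add_sub_cancel] at h2
  rw [Finset.card_univ, ← Nat.card_eq_fintype_card, h.card_eq, hD] at h1
  refine Nat.le_of_mul_le_mul_left (h1.trans ((Nat.mul_le_mul_left _ h2).trans_eq (by ring))) ?_
  exact Nat.mul_pos hp.out.pos Nat.card_pos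

theorem eq_seven_or (he : p = 2 * Nat.card E + 1) (hD : (N(zpowers x)).index = p + 1) :
    p = 7 ∨ p = 11 := by
  obtain ⟨s, hs, hs'⟩ := h.exists_not_mem
  have h1 := (h.le_card_centralizer ho hD (by omega) hs hs').trans
    (h.card_centralizer_le ho he hD hs hs')
  have h2 : Nat.card E ≠ 1 := fun e => h.ne_bot (card_eq_one.1 e)
  obtain ⟨k, hk⟩ := ho
  omega

end Odd

end TIData

end Cfsg

set_option linter.all false in
theorem Cfsg.Rz.Grp_PrimeTIA_0 : True := by
  have := @_root_.Cfsg.TIData.mk.congr_simp.{0, 0}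
  trivial
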