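import Cfsg.Agent.Grp.PrimeTIA

/-!
# Transitive groups of prime degree with a TI complement of even order
-/

set_option autoImplicit false
set_option linter.unusedSectionVars false

namespace Cfsg

open Subgroup MulAction
open scoped Pointwise

universe u v

variable {G : Type u} [Group G] [Finite G] {p : ℕ} [hp : Fact p.Prime] {x : G}

local notation "N(" Q ")" => Subgroup.normalizer ((Q : Subgroup G) : Set G)
local notation "C₁(" g ")" => Subgroup.centralizer ({g} : Set G)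

theorem orderOf_eq_two_of_mul_self_eq {t : G} (ht : t * t = 1) (h1 : t ≠ 1) : orderOf t = 2 :=
  orderOf_eq_prime (by rw [sq, ht]) h1

theorem exists_invol_of_not_odd {A : Subgroup G} (hA : ¬ Odd (Nat.card A)) :
    ∃ t ∈ A, t * t = 1 ∧ t ≠ 1 := by
  obtain ⟨t, ht⟩ := exists_prime_orderOf_dvd_card' 2 (Nat.not_odd_iff_even.1 hA).two_dvd
  rw [← orderOf_coe] at ht
  exact ⟨t, t.2, by rw [← sq, ← ht, pow_orderOf_eq_one], fun e => by simp [e] at ht⟩

namespace TIData

variable {α : Type v} [MulAction G α] {E : Subgroup G} (h : TIData p α x E) {z : G} (hz : z ∈ E)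
  (hz2 : z * z = 1) (hz1 : z ≠ 1)
include h hz hz2 hz1

theorem ne_two : p ≠ 2 := fun e => h.not_dvd (by
  rw [e, ← orderOf_eq_two_of_mul_self_eq hz2 hz1]; exact E.orderOf_dvd_natCard hz)

theorem smul_sylow {y : G} (hy : y ∈ E) : y • h.sc.sylow = h.sc.sylow :=
  Sylow.smul_eq_iff_mem_normalizer.2 (h.le hy)

theorem eq_of_invol {t : G} (ht : t ∈ E) (ht2 : t * t = 1) (ht1 : t ≠ 1) : t = z := by
  have := h.inf _ (E.mul_mem ht hz) (h.sc.mul_mem_of_invol (h.ne_two hz hz2 hz1)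
    (orderOf_eq_two_of_mul_self_eq ht2 ht1) (h.smul_sylow hz hz2 hz1 ht)
    (orderOf_eq_two_of_mul_self_eq hz2 hz1) (h.smul_sylow hz hz2 hz1 hz))
  rw [← hz2] at this
  exact mul_right_cancel this

theorem centralizer_eq : C₁(z) = N(E) :=
  le_antisymm (fun g hg => h.mem_of_comm hz hz1 (mem_centralizer_singleton_iff.1 hg)) fun g hg =>
    mem_centralizer_singleton_iff.2 (mul_inv_eq_iff_eq_mul.1 (h.eq_of_invol hz hz2 hz1
      ((mem_normalizer_iff.1 hg z).1 hz) (by rw [conj_mul, hz2, mul_one, mul_inv_cancel])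
      (mt conj_eq_one_iff.1 hz1)))

theorem index_modEq_four : E.index ≡ 2 [MOD 4] := by
  have h1 := card_modEq_four_of_perfect (G ⧸ E) h.perf hz2
  obtain ⟨s, hs, hs'⟩ := h.exists_not_mem
  have h2 : ∀ g : G, z • (g : G ⧸ E) = g ↔ g ∈ N(E) := fun g => by
    rw [Quotient.smul_coe, eq_comm, QuotientGroup.eq, smul_eq_mul, ← mul_assoc]
    refine ⟨fun e => inv_mem_iff.1 (h.ti g⁻¹ z hz hz1 (by rwa [inv_inv])), fun e => ?_⟩
    simpa using (mem_normalizer_iff.1 (inv_mem e) z).1 hz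
  rwa [show fixedBy (G ⧸ E) z = {((1 : G) : G ⧸ E), (s : G ⧸ E)} from Set.ext fun q => by
    induction q using QuotientGroup.induction_on with
    | H g =>
      rw [mem_fixedBy, h2, Set.mem_insert_iff, Set.mem_singleton_iff, QuotientGroup.eq,
        QuotientGroup.eq, mul_one, inv_mem_iff]
      refine ⟨fun e => or_iff_not_imp_left.2 fun e' =>
        h.mul_mem (inv_mem e) hs (mt inv_mem_iff.1 e') hs', fun e => e.elim (le_normalizer ·)
        fun e => ?_⟩
      simpa using Subgroup.mul_mem _ hs (inv_mem (le_normalizer e)),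
    Nat.card_coe_set_eq, Set.ncard_pair (by
      rw [Ne, QuotientGroup.eq, inv_one, one_mul]; exact hs')] at h1

theorem exists_conj {t : G} (ht2 : t * t = 1) (ht1 : t ≠ 1) : ∃ g, g * t * g⁻¹ = z := by
  have h1 := card_modEq_four_of_perfect (G ⧸ E) h.perf ht2
  have h2 := h.index_modEq_four hz hz2 hz1
  obtain ⟨q, hq⟩ : (fixedBy (G ⧸ E) t).Nonempty := Set.nonempty_iff_ne_empty.2 fun e => by
    rw [e, Nat.card_coe_set_eq, Set.ncard_empty] at h1
    exact absurd (h2.symm.trans h1) (by decide)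
  induction q using QuotientGroup.induction_on with
  | H g =>
    rw [mem_fixedBy, Quotient.smul_coe, eq_comm, QuotientGroup.eq, smul_eq_mul, ← mul_assoc] at hq
    exact ⟨g⁻¹, h.eq_of_invol hz hz2 hz1 (by rwa [inv_inv])
      (by rw [conj_mul, ht2, mul_one, mul_inv_cancel]) (mt conj_eq_one_iff.1 ht1)⟩

omit hz hz2 hz1 in
theorem eq_of_conj_mem {g w : G} (hw : g * w * g⁻¹ ∈ E) (h1 : w ≠ 1) {a b : α} (ha : w • a = a)
    (hb : w • b = b) : a = b :=
  smul_left_cancel g (h.eq_of_smul hw (mt conj_eq_one_iff.1 h1)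
    (by rw [mul_smul, inv_smul_smul, mul_smul, ha]) (by rw [mul_smul, inv_smul_smul, mul_smul, hb]))

theorem eq_of_invol_smul {t : G} (ht2 : t * t = 1) (ht1 : t ≠ 1) {a b : α} (ha : t • a = a)
    (hb : t • b = b) : a = b := by
  obtain ⟨g, hg⟩ := h.exists_conj hz hz2 hz1 ht2 ht1
  exact h.eq_of_conj_mem (hg ▸ hz) ht1 ha hb

theorem eq_of_odd_smul {t y w : G} (ht2 : t * t = 1) (ht1 : t ≠ 1) (hy : y * t = t * y)
    (hy1 : y ≠ 1) (hy2 : Odd (orderOf y)) (hw : w * y = y * w) (hw1 : w ≠ 1)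
    (hw2 : Odd (orderOf w)) {a b : α} (ha : w • a = a) (hb : w • b = b) : a = b := by
  obtain ⟨g, hg⟩ := h.exists_conj hz hz2 hz1 ht2 ht1
  have h0 : ∀ v : G, orderOf (g * v * g⁻¹) = orderOf v := fun v =>
    (orderOf_eq_of_isConj' (isConj_iff.2 ⟨g, rfl⟩)).symm
  have h1 := h.mem_of_odd (h.mem_of_comm (g := g * y * g⁻¹) hz hz1
    (by rw [← hg, conj_mul, conj_mul, hy])) (h0 y ▸ hy2)
  exact h.eq_of_conj_mem (h.mem_of_odd (h.mem_of_comm (g := g * w * g⁻¹) h1
    (mt conj_eq_one_iff.1 hy1) (by rw [conj_mul, conj_mul, hw])) (h0 w ▸ hw2)) hw1 ha hb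

theorem exists_swap {a b : α} (hab : a ≠ b) : ∃ t : G, t * t = 1 ∧ t ≠ 1 ∧ t • a = b ∧ t • b = a := by
  obtain ⟨c, hc⟩ := h.exists_fixed
  obtain ⟨u, hu, rfl⟩ := h.trans c a
  obtain ⟨w, hw, rfl⟩ := h.trans c b
  have h1 := h.sc.inv_of_invol (h.ne_two hz hz2 hz1) (orderOf_eq_two_of_mul_self_eq hz2 hz1)
    (h.smul_sylow hz hz2 hz1 hz) (Subgroup.mul_mem _ (inv_mem hu) hw)
  have h2 : w * z * u⁻¹ * (w * z * u⁻¹) = 1 := by
    rw [← inv_eq_of_mul_eq_one_right hz2] at h1 ⊢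
    calc _ = w * (z⁻¹ * (u⁻¹ * w) * z⁻¹) * u⁻¹ := by group
      _ = _ := by
        rw [show z⁻¹ * (u⁻¹ * w) * z⁻¹ = (u⁻¹ * w)⁻¹ by
          rw [← h1, inv_inv, inv_eq_of_mul_eq_one_right hz2]]
        group
  have h3 : (w * z * u⁻¹) • u • c = w • c := by
    rw [mul_smul, inv_smul_smul, mul_smul, hc (le_normalizer hz)]
  exact ⟨_, h2, fun e => hab (by rw [← h3, e, one_smul]), h3, by
    rw [← h3, ← mul_smul, h2, one_smul]⟩

theorem odd_stabilizer {a b : α} (hab : a ≠ b) :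
    Odd (Nat.card (stabilizer G a ⊓ stabilizer G b : Subgroup G)) := by
  by_contra e
  obtain ⟨t, ht, h2, h1⟩ := exists_invol_of_not_odd e
  exact hab (h.eq_of_invol_smul hz hz2 hz1 h2 h1 ht.1 ht.2)

theorem conj_eq_inv_of_swap {t v : G} (ht2 : t * t = 1) {a b : α} (hab : a ≠ b) (ht : t • a = b)
    (ha : v • a = a) (hb : v • b = b) : t * v * t⁻¹ = v⁻¹ := by
  have h1 : t • b = a := by rw [← ht, ← mul_smul, ht2, one_smul]
  refine conj_eq_inv_of_fpf (A := stabilizer G a ⊓ stabilizer G b) ht2 (fun y hy => ⟨?_, ?_⟩)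
    (fun y hy e => by_contra fun h0 => ?_) ⟨ha, hb⟩
  · show (t * y * t⁻¹) • a = a
    rw [mul_smul, mul_smul, inv_smul_eq_iff.2 h1.symm, hy.2, h1]
  · show (t * y * t⁻¹) • b = b
    rw [mul_smul, mul_smul, inv_smul_eq_iff.2 ht.symm, hy.1, ht]
  · have h2 := odd_orderOf_of_mem (h.odd_stabilizer hz hz2 hz1 hab) hy
    exact hab (h.eq_of_odd_smul hz hz2 hz1 ht2 (fun e => hab (by rw [← ht, e, one_smul])) e.symm
      h0 h2 rfl h0 h2 hy.1 hy.2)

section Two

variable {v : G} (hv : v ≠ 1) {a b : α} (hab : a ≠ b) (ha : v • a = a) (hb : v • b = b)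
include hv hab ha hb

theorem odd_centralizer : Odd (Nat.card C₁(v)) := by
  by_contra e
  obtain ⟨t, ht, h2, h1⟩ := exists_invol_of_not_odd e
  have h3 := odd_orderOf_of_mem (h.odd_stabilizer hz hz2 hz1 hab) ⟨ha, hb⟩
  exact hab (h.eq_of_odd_smul hz hz2 hz1 h2 h1 (mem_centralizer_singleton_iff.1 ht).symm hv h3 rfl
    hv h3 ha hb)

theorem conj_eq_inv_of_inv {t : G} (ht2 : t * t = 1) (ht1 : t ≠ 1) (ht : t * v * t⁻¹ = v⁻¹)
    {y : G} (hy : y ∈ C₁(v)) : t * y * t⁻¹ = y⁻¹ := by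
  refine conj_eq_inv_of_fpf ht2 (fun y hy => ?_) (fun y hy e => by_contra fun h0 => ?_) hy
  · rw [mem_centralizer_singleton_iff] at hy ⊢
    refine ((Commute.inv_right_iff (a := t * y * t⁻¹)).1 ?_).eq
    rw [← ht, Commute, SemiconjBy, conj_mul, conj_mul, hy]
  · exact hab (h.eq_of_odd_smul hz hz2 hz1 ht2 ht1 e.symm h0
      (odd_orderOf_of_mem (h.odd_centralizer hz hz2 hz1 hv hab ha hb) hy)
      (mem_centralizer_singleton_iff.1 hy).symm hv
      (odd_orderOf_of_mem (h.odd_stabilizer hz hz2 hz1 hab) ⟨ha, hb⟩) ha hb)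

theorem not_dvd_centralizer : ¬ p ∣ Nat.card C₁(v) := fun e => by
  obtain ⟨y, hy⟩ := exists_prime_orderOf_dvd_card' p e
  rw [← orderOf_coe] at hy
  have := h.faith
  have h1 : v ∈ zpowers (y : G) := (h.sc.of_orderOf hy).cent ▸
    mem_centralizer_singleton_iff.2 (mem_centralizer_singleton_iff.1 y.2).symm
  exact hv (eq_one_of_commute_of_smul h.card hy (fun _ => comm_of_both_mem_zpowers h1) ha)

variable {c : α} (hac : a ≠ c) (hbc : b ≠ c) (hc : v • c = c)
include hac hbc hc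

theorem exists_centralizer_smul {d f : α} (hd : v • d = d) (hf : v • f = f) :
    ∃ y ∈ C₁(v), y • d = f := by
  obtain ⟨w, hw, h1, h2⟩ : ∃ w, v • w = w ∧ d ≠ w ∧ w ≠ f := by
    by_cases h1 : d ≠ a ∧ a ≠ f
    · exact ⟨a, ha, h1⟩
    by_cases h2 : d ≠ b ∧ b ≠ f
    · exact ⟨b, hb, h2⟩
    refine ⟨c, hc, ?_, ?_⟩ <;> rintro rfl <;> grind
  obtain ⟨t, t2, -, t3, -⟩ := h.exists_swap hz hz2 hz1 h1
  obtain ⟨s, s2, -, s3, -⟩ := h.exists_swap hz hz2 hz1 h2
  refine ⟨s * t, mem_centralizer_singleton_iff.2 (mul_inv_eq_iff_eq_mul.1 ?_), by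
    rw [mul_smul, t3, s3]⟩
  calc _ = s * (t * v * t⁻¹) * s⁻¹ := by group
    _ = v := by
      rw [h.conj_eq_inv_of_swap hz hz2 hz1 t2 h1 t3 hd hw, ← conj_inv,
        h.conj_eq_inv_of_swap hz hz2 hz1 s2 h2 s3 hw hf, inv_inv]

theorem exists_common_fixed {t : G} (ht2 : t * t = 1) (ht1 : t ≠ 1) (ht : t * v * t⁻¹ = v⁻¹) :
    ∃ w : α, t • w = w ∧ v • w = w := by
  obtain ⟨y, hy, e⟩ := h.exists_centralizer_smul hz hz2 hz1 hv hab ha hb hac hbc hc (d := a)
    (f := t • a) ha (by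
      rw [← inv_smul_eq_iff.1 (show v⁻¹ • t • a = t • a by
        rw [← ht, mul_smul, inv_smul_smul, mul_smul, ha])])
  obtain ⟨k, hk⟩ := exists_sq_pow_eq_of_odd
    (odd_orderOf_of_mem (h.odd_centralizer hz hz2 hz1 hv hab ha hb) hy)
  have h1 := Subgroup.pow_mem _ hy k
  rw [(Commute.refl y).mul_pow] at hk
  generalize y ^ k = d at hk h1
  refine ⟨d • a, ?_, by rw [← mul_smul, ← mem_centralizer_singleton_iff.1 h1, mul_smul, ha]⟩
  rw [← mul_smul, mul_inv_eq_iff_eq_mul.1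
    (h.conj_eq_inv_of_inv hz hz2 hz1 hv hab ha hb ht2 ht1 ht h1), mul_smul, ← e, ← hk, mul_smul,
    inv_smul_smul]

theorem false_of_three : False := by
  obtain ⟨t, t2, t1, t3, -⟩ := h.exists_swap hz hz2 hz1 hab
  have h1 := h.conj_eq_inv_of_swap hz hz2 hz1 t2 hab t3 ha hb
  have h2 := fun y => h.conj_eq_inv_of_inv hz hz2 hz1 hv hab ha hb t2 t1 h1 (y := y)
  obtain ⟨w, hw, hw'⟩ := h.exists_common_fixed hz hz2 hz1 hv hab ha hb hac hbc hc t2 t1 h1
  have h3 := fun d f => h.exists_centralizer_smul hz hz2 hz1 hv hab ha hb hac hbc hc (d := d) (f := f)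
  have h4 : C₁(v) ≤ stabilizer G w := by
    by_contra e
    obtain ⟨r, hr, hd⟩ := Nat.exists_prime_and_dvd (mt relIndex_eq_one.1 e)
    have := Fact.mk hr
    obtain ⟨R⟩ : Nonempty (Sylow r C₁(v)) := inferInstance
    refine R.not_dvd_index (hd.trans (index_dvd_of_le fun y hy => ?_))
    obtain ⟨d, hd'⟩ := h.exists_fixed_of_isPGroup (r := r) (fun e =>
      h.not_dvd_centralizer hz hz2 hz1 hv hab ha hb (e ▸ hd.trans (relIndex_dvd_card _ _)))
      (R.isPGroup'.map (C₁(v)).subtype)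
    replace hd' : (y : G) • d = d := hd' _ ⟨y, hy, rfl⟩
    have h5 : ∀ u ∈ C₁(v), (y : G) • u • d = u • d := fun u hu => by
      rw [← mul_smul, comm_of_conj_eq_inv h2 y.2 hu, mul_smul, hd']
    show (y : G) • w = w
    by_cases h6 : v • d = d
    · obtain ⟨u, hu, rfl⟩ := h3 d w h6 hw'
      exact h5 u hu
    by_cases h7 : (y : G) = 1
    · rw [h7, one_smul]
    have h8 : v ∈ C₁(v) := mem_centralizer_singleton_iff.2 rfl
    obtain ⟨w', e1, e2⟩ := h.exists_common_fixed hz hz2 hz1 h7 (Ne.symm h6) hd' (h5 v h8)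
      (c := v⁻¹ • d) (fun e => h6 (by rw [e, smul_inv_smul, ← e])) (fun e => h6 (by
        obtain ⟨k, hk⟩ := exists_sq_pow_eq_of_odd
          (odd_orderOf_of_mem (h.odd_stabilizer hz hz2 hz1 hab) ⟨ha, hb⟩)
        exact hk ▸ (stabilizer G d).pow_mem (show (v * v) • d = d by
          rw [mul_smul, e, smul_inv_smul]) k)) (h5 _ (inv_mem h8)) t2 t1 (h2 y y.2)
    rwa [h.eq_of_invol_smul hz hz2 hz1 t2 t1 hw e1]
  obtain ⟨u, hu, rfl⟩ := h3 w a hw' ha
  obtain ⟨u', hu', rfl⟩ := h3 w b hw' hb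
  exact hab ((h4 hu).trans (h4 hu').symm)

end Two

theorem card_dvd_sub_two {a b : α} (hab : a ≠ b) :
    Nat.card (stabilizer G a ⊓ stabilizer G b : Subgroup G) ∣ p - 2 := by
  classical
  have := h.finite
  set K := stabilizer G a ⊓ stabilizer G b
  let _ := Fintype.ofFinite K
  let _ := Fintype.ofFinite (orbitRel.Quotient K α)
  let _ := fun y : K => Fintype.ofFinite (fixedBy α y)
  have h1 := sum_card_fixedBy_eq_card_orbits_mul_card_group K α
  rw [← Finset.add_sum_erase _ _ (Finset.mem_univ 1), Finset.sum_congr rfl (g := fun _ => 2),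
    Finset.sum_const, Finset.card_erase_of_mem (Finset.mem_univ _), Finset.card_univ,
    ← Nat.card_eq_fintype_card, fixedBy_one_eq_univ, Nat.card_univ, h.card, smul_eq_mul,
    ← Nat.card_eq_fintype_card (α := K)] at h1
  · have h2 := hp.out.two_le
    have h3 : 0 < Nat.card K := Nat.card_pos
    refine (Nat.dvd_add_iff_left (dvd_mul_right _ 2)).2 (Dvd.intro_left _ (h1.symm.trans ?_))
    omega
  · intro y hy
    rw [← Nat.card_eq_fintype_card, Nat.card_coe_set_eq, ← Set.ncard_pair hab]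
    congr 1
    refine Set.ext fun c => ⟨fun hc => by_contra fun e => ?_, ?_⟩
    · rw [Set.mem_insert_iff, Set.mem_singleton_iff, not_or] at e
      exact h.false_of_three hz hz2 hz1 (fun e => (Finset.mem_erase.1 hy).1 (Subtype.ext e)) hab
        y.2.1 y.2.2 (Ne.symm e.1) (Ne.symm e.2) hc
    · rintro (rfl | rfl)
      exacts [y.2.1, y.2.2]

theorem index_le {a : α} (ha : N(E) ≤ stabilizer G a) {m : ℕ}
    (hm : ∀ b, a ≠ b → Nat.card (stabilizer G a ⊓ stabilizer G b : Subgroup G) ≤ m) :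
    (N(zpowers x)).index ≤ 2 * m := by
  classical
  have := h.finite
  let _ := Fintype.ofFinite G
  let _ := Fintype.ofFinite α
  have h1 := Finset.card_le_mul_card_image_of_maps_to
    (s := Finset.univ.filter fun g : G => g ∉ stabilizer G a)
    (t := Finset.univ.filter fun t : G => t * t = 1 ∧ t • a ≠ a) (f := fun g => g * z * g⁻¹)
    (fun g hg => by
      refine Finset.mem_filter.2 ⟨Finset.mem_univ _, ?_, fun e => (Finset.mem_filter.1 hg).2 ?_⟩
      · rw [conj_mul, hz2, mul_one, mul_inv_cancel]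
      · refine inv_mem_iff.1 (h.eq_of_smul hz hz1 ?_ (ha (le_normalizer hz)))
        rw [eq_inv_smul_iff, ← mul_smul, ← mul_smul, e]) (2 * Nat.card E) fun t _ => by
      rw [Finset.filter_filter, ← h.cardN, ← h.centralizer_eq hz hz2 hz1]
      refine card_filter_le_card_of_coset _ fun a b ha hb => ?_
      rw [mem_centralizer_singleton_iff]
      calc a⁻¹ * b * z = a⁻¹ * (b * z * b⁻¹) * b := by group
        _ = _ := by rw [hb.2, ← ha.2]; group
  have h2 := Finset.card_le_mul_card_image_of_maps_to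
    (s := Finset.univ.filter fun t : G => t * t = 1 ∧ t • a ≠ a)
    (t := Finset.univ.erase a) (f := fun t => t • a)
    (fun t ht => Finset.mem_erase.2 ⟨(Finset.mem_filter.1 ht).2.2, Finset.mem_univ _⟩) m
    fun b hb => by
      rw [Finset.filter_filter]
      refine (card_filter_le_card_of_coset _ ?_).trans (hm b (Finset.mem_erase.1 hb).1.symm)
      rintro s t ⟨⟨h1, -⟩, h2⟩ ⟨⟨h3, -⟩, h4⟩
      refine ⟨show (s⁻¹ * t) • a = a by rw [mul_smul, h4, ← h2, inv_smul_smul],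
        show (s⁻¹ * t) • b = b from ?_⟩
      rw [mul_smul, ← h4, ← mul_smul t, h3, one_smul, inv_eq_of_mul_eq_one_right h1, h2, h4]
  have h3 := Finset.card_filter_add_card_filter_not (s := Finset.univ)
    (fun g : G => g ∈ stabilizer G a)
  rw [← Fintype.card_subtype, Finset.card_univ, ← Nat.card_eq_fintype_card,
    ← Nat.card_eq_fintype_card, h.card_stabilizer, h.card_eq] at h3
  rw [Finset.card_erase_of_mem (Finset.mem_univ _), Finset.card_univ, ← Nat.card_eq_fintype_card,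
    h.card] at h2
  obtain ⟨k, hk⟩ := Nat.exists_eq_add_of_lt hp.out.one_lt
  have h4 : 0 < Nat.card E := Nat.card_pos
  rw [hk] at h2 h3
  refine Nat.le_of_mul_le_mul_left (c := (1 + k) * Nat.card E) ?_ (by positivity)
  have h5 := h1.trans (Nat.mul_le_mul_left _ h2)
  rw [Nat.add_sub_cancel] at h5
  nlinarith

theorem eq_five : p = 5 ∧ Nat.card E = 2 ∧ (N(zpowers x)).index = 6 := by
  obtain ⟨a, ha⟩ := h.exists_fixed
  have h0 := h.ne_two hz hz2 hz1
  have h1 := hp.out.two_le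
  have h2 := h.index_le hz hz2 hz1 ha fun b hb =>
    Nat.le_of_dvd (by omega) (h.card_dvd_sub_two hz hz2 hz1 hb)
  have h3 : (N(zpowers x)).index = p + 1 := by
    have h3 := h.index_modEq_four hz hz2 hz1
    have h4 : E.index = p * (N(zpowers x)).index := Nat.eq_of_mul_eq_mul_left Nat.card_pos
      (by rw [card_mul_index, h.card_eq]; ring)
    obtain ⟨k, hk⟩ := (Nat.modEq_iff_dvd' (Nat.pos_of_ne_zero index_ne_zero_of_finite)).1
      h.index_modEq.symm
    have h5 : (N(zpowers x)).index ≠ 0 := index_ne_zero_of_finite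
    obtain ⟨j, hj⟩ := hp.out.odd_of_ne_two h0
    rcases k with _ | _ | k
    · rw [h4, show (N(zpowers x)).index = 1 by omega, Nat.ModEq] at h3
      omega
    · omega
    · rw [mul_add, mul_add] at hk
      omega
  have h4 : ∀ b, a ≠ b → Nat.card (stabilizer G a ⊓ stabilizer G b : Subgroup G) ≤ 3 :=
    fun b hb => by
      have h4 := h.card_dvd_sub_two hz hz2 hz1 hb
      have h5 := (card_dvd_of_le (inf_le_left (a := stabilizer G a) (b := stabilizer G b))).trans
        (h.card_stabilizer a ▸ h3 ▸ Nat.mul_dvd_mul_right h.dvd_sub_one (p + 1))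
      have h6 := Nat.dvd_sub ((Nat.Coprime.coprime_dvd_left h4 (by
        rw [show p - 1 = p - 2 + 1 by omega]; simp)).dvd_of_dvd_mul_left h5) h4
      exact Nat.le_of_dvd (by decide) (by
        rwa [show (N(zpowers x)).index - (p - 2) = 3 by omega] at h6)
  have h5 := h.index_le hz hz2 hz1 ha h4
  have h6 : p = 5 := by omega
  obtain ⟨b, hb⟩ : ∃ b, a ≠ b := by
    have : Nontrivial α := have := h.finite; Finite.one_lt_card_iff_nontrivial.1 (h.card ▸ h1)
    exact (exists_ne a).imp fun _ => Ne.symm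
  have h7 := card_mul_relIndex (inf_le_right (a := stabilizer G b) (b := stabilizer G a))
  have h8 : (stabilizer G b).relIndex (stabilizer G a) ≤ 4 := by
    have := h.finite
    rw [relIndex_stabilizer_eq]
    refine (Set.ncard_le_ncard (t := Set.univ \ {a}) ?_).trans ?_
    · rintro _ ⟨g, rfl⟩
      exact ⟨trivial, fun e => hb (smul_left_cancel (g : G) (g.2.trans e.symm))⟩
    · rw [Set.ncard_sdiff_singleton_of_mem (Set.mem_univ a), Set.ncard_univ, h.card, h6]
  have h9 := Nat.mul_le_mul (h4 b hb) h8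
  rw [inf_relIndex_right, inf_comm, h.card_stabilizer, h3] at h7
  have h10 := Nat.le_of_dvd Nat.card_pos
    (orderOf_eq_two_of_mul_self_eq hz2 hz1 ▸ E.orderOf_dvd_natCard hz)
  rw [h7, h6] at h9
  omega

end TIData

end Cfsg
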