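import Cfsg.Agent.Grp.FpfEnd
import Mathlib.RingTheory.LittleWedderburn

/-!
# Modules in which every vector is centralized by a unique Sylow subgroup

`SylCent ρ u`: `ρ` is a faithful action on `V`, `u` divides the group order and, for every nonzero
vector `v`, the `u`-elements fixing `v` form a Sylow `u`-subgroup.
-/

set_option autoImplicit false
set_option linter.unusedSectionVars false

namespace Cfsg

open Subgroup
open scoped commutatorElement

universe u v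

variable {H : Type u} [Group H] {V : Type v} [AddCommGroup V]

/-- The `u`-elements fixing a nonzero vector form a Sylow `u`-subgroup. -/
structure SylCent (ρ : H →* AddMonoid.End V) (u : ℕ) : Prop where
  inj : Function.Injective ρ
  dvd : u ∣ Nat.card H
  ex : ∀ v : V, v ≠ 0 → ∃ U : Sylow u H, ∀ y, y ∈ (U : Subgroup H) ↔ ρ y v = v ∧ IsPElt u y

/-- The centralizer of all `u`-elements. -/
def peltCent (u : ℕ) (H : Type u) [Group H] : Subgroup H := centralizer {y | IsPElt u y}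

theorem mem_peltCent {u : ℕ} {c : H} : c ∈ peltCent u H ↔ ∀ y, IsPElt u y → Commute y c :=
  Iff.rfl

instance peltCent_normal (u : ℕ) (H : Type u) [Group H] : (peltCent u H).Normal where
  conj_mem c hc g := mem_peltCent.2 fun y hy => by
    have h1 : IsPElt u (g⁻¹ * y * g⁻¹⁻¹) := isPElt_conj_iff.2 hy
    have h2 := (mem_peltCent.1 hc _ h1).eq
    rw [inv_inv] at h2
    calc y * (g * c * g⁻¹) = g * (g⁻¹ * y * g * c) * g⁻¹ := by group
      _ = g * c * g⁻¹ * y := by rw [h2]; group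

/-- A normal subgroup centralized by one Sylow subgroup is centralized by all `u`-elements. -/
theorem le_peltCent_of_sylow [Finite H] {u : ℕ} [Fact u.Prime] {K : Subgroup H} [hK : K.Normal]
    (U : Sylow u H) (h : ∀ y ∈ (U : Subgroup H), ∀ a ∈ K, Commute y a) : K ≤ peltCent u H := by
  intro a ha
  refine mem_peltCent.2 fun y hy => ?_
  obtain ⟨x, hx⟩ := hy.exists_conj_mem U
  have := (h _ hx _ (hK.conj_mem a ha x)).eq
  calc y * a = x⁻¹ * (x * y * x⁻¹ * (x * a * x⁻¹)) * x := by group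
    _ = a * y := by rw [this]; group

/-- The stabilizer of a vector. -/
def endStab (ρ : H →* AddMonoid.End V) (v : V) : Subgroup H where
  carrier := {g | ρ g v = v}
  one_mem' := FpfEnd.rho_one v
  mul_mem' {a b} ha hb := by
    change ρ (a * b) v = v
    rw [FpfEnd.rho_mul, show ρ b v = v from hb, show ρ a v = v from ha]
  inv_mem' {a} ha := by
    change ρ a⁻¹ v = v
    conv_lhs => rw [← show ρ a v = v from ha]
    rw [← FpfEnd.rho_mul, inv_mul_cancel, FpfEnd.rho_one]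

theorem mem_endStab {ρ : H →* AddMonoid.End V} {v : V} {g : H} : g ∈ endStab ρ v ↔ ρ g v = v :=
  Iff.rfl

theorem rho_eq_zero_iff {ρ : H →* AddMonoid.End V} {g : H} {v : V} : ρ g v = 0 ↔ v = 0 := by
  refine ⟨fun h => ?_, fun h => by rw [h, map_zero]⟩
  have := congrArg (ρ g⁻¹) h
  rwa [← FpfEnd.rho_mul, inv_mul_cancel, FpfEnd.rho_one, map_zero] at this

theorem mem_endStab_rho {ρ : H →* AddMonoid.End V} {v : V} {g x : H} :
    x ∈ endStab ρ (ρ g v) ↔ g⁻¹ * x * g ∈ endStab ρ v := by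
  rw [mem_endStab, mem_endStab, FpfEnd.rho_mul, FpfEnd.rho_mul]
  refine ⟨fun h => by rw [h, ← FpfEnd.rho_mul, inv_mul_cancel, FpfEnd.rho_one], fun h => ?_⟩
  have := congrArg (ρ g) h
  rwa [← FpfEnd.rho_mul, mul_inv_cancel, FpfEnd.rho_one] at this

/-- If `g` and a fixed point free `z` commute and have order `t` prime to `|V|`, some `g z ^ j`
has a nonzero fixed point in any nonzero invariant fixed space. -/
theorem exists_fix_mul_pow [Finite V] {ρ : H →* AddMonoid.End V} {t : ℕ} (ht : t.Prime)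
    (htV : ¬ t ∣ Nat.card V) {B : Subgroup H} {w : V} (hw : w ≠ 0) (hwB : B ≤ endStab ρ w)
    {g z : H} (hg : g ∈ normalizer (B : Set H)) (hz : z ∈ normalizer (B : Set H))
    (hc : Commute g z) (hgt : g ^ t = 1) (hzt : z ^ t = 1) (hf : ∀ v, ρ z v = v → v = 0) :
    ∃ (j : ℕ) (w' : V), w' ≠ 0 ∧ B ≤ endStab ρ w' ∧ g * z ^ j ∈ endStab ρ w' := by
  by_contra hn
  push Not at hn
  let σ := FpfEnd.restr ρ (normalizer (B : Set H)) (FpfEnd.fix ρ B)
    fun h hh v hv => FpfEnd.rho_mem_fix hh hv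
  have hcs : Commute (⟨g, hg⟩ : normalizer (B : Set H)) ⟨z, hz⟩ := Subtype.ext hc.eq
  have := FpfEnd.fix_of_fpf_pair ht (hcs.map σ)
    (by rw [← map_pow, show (⟨g, hg⟩ : normalizer (B : Set H)) ^ t = 1 from Subtype.ext hgt,
      map_one])
    (by rw [← map_pow, show (⟨z, hz⟩ : normalizer (B : Set H)) ^ t = 1 from Subtype.ext hzt,
      map_one])
    (fun j v hv => by
      by_contra h0
      rw [← map_pow, ← map_mul] at hv
      exact hn j v (fun h => h0 (Subtype.ext h)) (fun b hb => v.2 b hb)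
        (congrArg Subtype.val hv))
    ⟨w, fun b hb => hwB hb⟩
  have h1 : ρ z (t • w) = t • w := by
    rw [map_nsmul]; exact congrArg Subtype.val this
  exact hw (FpfEnd.eq_zero_of_smul_of_coprime (ht.coprime_iff_not_dvd.2 htV) (hf _ h1)
    (card_nsmul_eq_zero'))

namespace SylCent

variable [Finite H] [Finite V] {ρ : H →* AddMonoid.End V} {u : ℕ} [hu : Fact u.Prime]

theorem mem_iff (h : SylCent ρ u) {v : V} (hv : v ≠ 0) {U : Sylow u H}
    (hU : ∀ y ∈ (U : Subgroup H), ρ y v = v) (y : H) :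
    y ∈ (U : Subgroup H) ↔ ρ y v = v ∧ IsPElt u y := by
  obtain ⟨U', hU'⟩ := h.ex v hv
  have : U' = U := Sylow.ext (U.is_maximal' U'.isPGroup' fun y hy =>
    (hU' y).2 ⟨hU y hy, isPElt_of_mem U.isPGroup' hy⟩)
  exact this ▸ hU' y

/-- Symmetry of "every `u`-element fixing `v` fixes `w`". -/
theorem symm (h : SylCent ρ u) {v w : V} (hv : v ≠ 0) (hw : w ≠ 0)
    (hvw : ∀ y, IsPElt u y → ρ y v = v → ρ y w = w) :
    ∀ y, IsPElt u y → ρ y w = w → ρ y v = v := by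
  obtain ⟨U, hU⟩ := h.ex v hv
  intro y hy hyw
  exact ((hU y).1 ((h.mem_iff hw (fun x hx => hvw x ((hU x).1 hx).2 ((hU x).1 hx).1) y).2
    ⟨hyw, hy⟩)).1

theorem eq_one_of_forall (h : SylCent ρ u) {g : H} (hg : ∀ v, ρ g v = v) : g = 1 :=
  h.inj (by rw [map_one]; exact AddMonoidHom.ext hg)

theorem exists_ne_zero (h : SylCent ρ u) : ∃ v : V, v ≠ 0 := by
  by_contra h0
  push Not at h0
  obtain ⟨g, hg⟩ := exists_prime_orderOf_dvd_card' u h.dvd
  rw [h.eq_one_of_forall (g := g) fun v => by rw [h0 v, map_zero], orderOf_one] at hg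
  exact hu.out.one_lt.ne hg

theorem eq_bot_of_isPGroup (h : SylCent ρ u) {A : Subgroup H} [A.Normal] (hA : IsPGroup u A) :
    A = ⊥ := by
  refine eq_bot_iff.2 fun a ha => h.eq_one_of_forall fun v => ?_
  by_cases hv : v = 0
  · rw [hv, map_zero]
  obtain ⟨U, hU⟩ := h.ex v hv
  exact ((hU a).1 ((le_pCore hA).trans (pCore_le_sylow U) ha)).1

theorem not_normal (h : SylCent ρ u) (U : Sylow u H) : ¬ (U : Subgroup H).Normal := fun _ =>
  (sylow_ne_bot_iff U).2 h.dvd (h.eq_bot_of_isPGroup U.isPGroup')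

theorem ne_of_isPGroup (h : SylCent ρ u) {t : ℕ} {A : Subgroup H} [A.Normal] (hA : IsPGroup t A)
    (h0 : A ≠ ⊥) : t ≠ u := fun e => h0 (h.eq_bot_of_isPGroup (e ▸ hA))

theorem not_dvd_of_isPGroup (h : SylCent ρ u) {t : ℕ} [ht : Fact t.Prime] {A : Subgroup H}
    [A.Normal] (hA : IsPGroup t A) : ¬ u ∣ Nat.card A := by
  by_cases h0 : A = ⊥
  · rw [h0, card_bot]; exact hu.out.not_dvd_one
  obtain ⟨k, hk⟩ := hA.exists_card_eq
  rw [hk]
  exact fun hd => h.ne_of_isPGroup hA h0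
    ((Nat.prime_dvd_prime_iff_eq hu.out ht.out).1 (hu.out.dvd_of_dvd_pow hd)).symm

/-- An endomorphism commuting with all `u`-elements is zero or injective. -/
theorem eq_zero_or_inj (h : SylCent ρ u) {N : AddMonoid.End V}
    (hN : ∀ y, IsPElt u y → ρ y * N = N * ρ y) : N = 0 ∨ ∀ v, N v = 0 → v = 0 := by
  by_contra hn
  push Not at hn
  obtain ⟨hN0, v₀, hv₀, hv0⟩ := hn
  obtain ⟨w₀, hw₀⟩ : ∃ w, N w ≠ 0 := by
    by_contra h0
    push Not at h0
    exact hN0 (AddMonoidHom.ext h0)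
  have h1 : ∀ w y, IsPElt u y → ρ y w = w → ρ y (N w) = N w := fun w y hy hw => by
    have := DFunLike.congr_fun (hN y hy) w
    rwa [AddMonoid.End.coe_mul, AddMonoid.End.coe_mul, Function.comp_apply, Function.comp_apply,
      hw] at this
  have hne : ∀ w, N w ≠ 0 → w ≠ 0 := fun w hw h0 => hw (by rw [h0, map_zero])
  have h2 : ∀ w k, N w ≠ 0 → N k = 0 → ∀ y, IsPElt u y → ρ y w = w → ρ y k = k := by
    intro w k hw hk y hy hyw
    have e : N (w + k) = N w := by rw [map_add, hk, add_zero]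
    have := h.symm (hne _ (e ▸ hw)) (e ▸ hw) (h1 (w + k)) y hy (e ▸ h1 w y hy hyw)
    rwa [map_add, hyw, add_right_inj] at this
  obtain ⟨U, hU⟩ := h.ex v₀ hv0
  refine (sylow_ne_bot_iff U).2 h.dvd (eq_bot_iff.2 fun y hy => h.eq_one_of_forall fun v => ?_)
  obtain ⟨hy1, hy2⟩ := (hU y).1 hy
  by_cases hv : N v = 0
  · exact h2 w₀ v hw₀ hv y hy2 (h.symm (hne _ hw₀) hv0 (h2 w₀ v₀ hw₀ hv₀) y hy2 hy1)
  · exact h.symm (hne _ hv) hv0 (h2 v v₀ hv hv₀) y hy2 hy1

theorem eq_one_of_fix (h : SylCent ρ u) {c : H} (hc : c ∈ peltCent u H) {v : V} (hv : v ≠ 0)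
    (hcv : ρ c v = v) : c = 1 := by
  rcases h.eq_zero_or_inj (N := ρ c - 1) (fun y hy => by
    rw [mul_sub, sub_mul, ← map_mul, ← map_mul, (mem_peltCent.1 hc y hy).eq, mul_one, one_mul])
    with h0 | h0
  · exact h.inj (by rw [map_one]; exact sub_eq_zero.1 h0)
  · exact (hv (h0 v (sub_eq_zero.2 hcv))).elim

/-- The centralizer of the `u`-elements is abelian (Wedderburn). -/
theorem commute_of_mem (h : SylCent ρ u) {c d : H} (hc : c ∈ peltCent u H)
    (hd : d ∈ peltCent u H) : Commute c d := by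
  let R := Subring.centralizer {N : AddMonoid.End V | ∃ y, IsPElt u y ∧ ρ y = N}
  have hR : ∀ N : R, ∀ y, IsPElt u y → ρ y * N = N * ρ y := fun N y hy => N.2 _ ⟨y, hy, rfl⟩
  have : Finite (AddMonoid.End V) := DFunLike.finite (V →+ V)
  obtain ⟨v, hv⟩ := h.exists_ne_zero
  have : Nontrivial R := ⟨0, 1, fun e => hv (DFunLike.congr_fun (congrArg Subtype.val e) v).symm⟩
  have : NoZeroDivisors R := ⟨fun {a b} hab => by
    rcases h.eq_zero_or_inj (hR a) with h0 | h0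
    · exact Or.inl (Subtype.ext h0)
    · exact Or.inr (Subtype.ext (AddMonoidHom.ext fun w =>
        h0 _ (DFunLike.congr_fun (congrArg Subtype.val hab) w)))⟩
  have : IsDomain R := NoZeroDivisors.to_isDomain R
  have hm : ∀ c ∈ peltCent u H, ρ c ∈ R := by
    rintro c hc _ ⟨y, hy, rfl⟩
    rw [← map_mul, ← map_mul, (mem_peltCent.1 hc y hy).eq]
  have := (Finite.isDomain_to_isField R).mul_comm ⟨_, hm c hc⟩ ⟨_, hm d hd⟩
  exact h.inj (by rw [map_mul, map_mul]; exact congrArg Subtype.val this)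

/-- An element of a normal `u'`-subgroup fixing `v` commutes with the `u`-elements fixing `v`. -/
theorem commute_of_fix (h : SylCent ρ u) {A : Subgroup H} [hA : A.Normal]
    (hAu : ¬ u ∣ Nat.card A) {a : H} (ha : a ∈ A) {v : V} (hv : v ≠ 0) (hav : ρ a v = v) {y : H}
    (hy : IsPElt u y) (hyv : ρ y v = v) : Commute y a := by
  obtain ⟨U, hU⟩ := h.ex v hv
  have h1 : a * y * a⁻¹ ∈ (U : Subgroup H) := (hU _).2
    ⟨(endStab ρ v).mul_mem ((endStab ρ v).mul_mem hav hyv) ((endStab ρ v).inv_mem hav),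
      isPElt_conj_iff.2 hy⟩
  have h2 : a * y * a⁻¹ * y⁻¹ ∈ (U : Subgroup H) ⊓ A := mem_inf.2
    ⟨mul_mem h1 (inv_mem ((hU y).2 ⟨hyv, hy⟩)), by
      simpa only [mul_assoc] using A.mul_mem ha (hA.conj_mem _ (A.inv_mem ha) y)⟩
  rw [inf_eq_bot_of_isPGroup_of_not_dvd U.isPGroup' hAu, mem_bot, mul_inv_eq_one,
    mul_inv_eq_iff_eq_mul] at h2
  exact h2.symm

/-- A normal `u'`-subgroup with a nonzero fixed point is trivial. -/
theorem eq_bot_of_le_endStab (h : SylCent ρ u) {A : Subgroup H} [A.Normal]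
    (hAu : ¬ u ∣ Nat.card A) {v : V} (hv : v ≠ 0) (hA : A ≤ endStab ρ v) : A = ⊥ := by
  obtain ⟨U, hU⟩ := h.ex v hv
  have := le_peltCent_of_sylow U fun y hy a ha =>
    h.commute_of_fix hAu ha hv (hA ha) ((hU y).1 hy).2 ((hU y).1 hy).1
  exact eq_bot_iff.2 fun a ha => h.eq_one_of_fix (this ha) hv (hA ha)

theorem not_dvd_card (h : SylCent ρ u) {t : ℕ} [ht : Fact t.Prime] {A : Subgroup H} [A.Normal]
    (hA : IsPGroup t A) (h0 : A ≠ ⊥) : ¬ t ∣ Nat.card V := by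
  intro hd
  obtain ⟨v, hv⟩ := exists_prime_addOrderOf_dvd_card' t hd
  have hv0 : v ≠ 0 := fun e => ht.out.one_lt.ne (by rw [← hv, e, addOrderOf_zero])
  have hV : ∀ w : V, t • w = 0 := by
    rcases h.eq_zero_or_inj (N := (t : AddMonoid.End V)) (fun y _ => (Nat.cast_commute t _).eq.symm)
      with h1 | h1
    · exact fun w => by rw [← AddMonoid.End.natCast_apply, h1]; rfl
    · exact (hv0 (h1 v (by rw [AddMonoid.End.natCast_apply, ← hv, addOrderOf_nsmul_eq_zero]))).elim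
  obtain ⟨w, -, hw, hwA⟩ := FpfEnd.exists_mem_fix (ρ := ρ) hV hA (W := ⊤) (fun _ _ _ _ => trivial)
    (fun e => hv0 (AddSubgroup.mem_bot.1 (e ▸ AddSubgroup.mem_top v)))
  exact h0 (h.eq_bot_of_le_endStab (h.not_dvd_of_isPGroup hA) hw hwA)

omit hu in
theorem exists_max (hv : ∃ v : V, v ≠ 0) (A : Subgroup H) :
    ∃ w : V, w ≠ 0 ∧ ∀ v : V, v ≠ 0 →
      Nat.card (A ⊓ endStab ρ v : Subgroup H) ≤ Nat.card (A ⊓ endStab ρ w : Subgroup H) := by
  obtain ⟨w, hw, hm⟩ := Set.exists_max_image {v : V | v ≠ 0}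
    (fun v => Nat.card (A ⊓ endStab ρ v : Subgroup H)) (Set.toFinite _) hv
  exact ⟨w, hw, hm⟩

omit hu in
theorem inf_endStab_rho {A : Subgroup H} [hA : A.Normal] (g : H) (v : V) :
    A ⊓ endStab ρ (ρ g v) = (A ⊓ endStab ρ v).map (MulAut.conj g).toMonoidHom := by
  ext x
  rw [mem_map_conj, mem_inf, mem_inf, mem_endStab_rho]
  refine and_congr_left fun _ => ⟨fun h => by simpa using hA.conj_mem x h g⁻¹, fun h => ?_⟩
  simpa [mul_assoc] using hA.conj_mem _ h g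

/-- For odd `u`, an abelian normal `u'`-subgroup acts without fixed points. -/
theorem eq_one_of_comm (h : SylCent ρ u) (hu2 : u ≠ 2) {A : Subgroup H} [hA : A.Normal]
    [IsMulCommutative A] (hAu : ¬ u ∣ Nat.card A) {a : H} (ha : a ∈ A) {v : V} (hv : v ≠ 0)
    (hav : ρ a v = v) : a = 1 := by
  obtain ⟨w, hw, hm⟩ := exists_max (ρ := ρ) ⟨v, hv⟩ A
  set S : V → Subgroup H := fun x => A ⊓ endStab ρ x with hS
  have hcomm := isMulCommutative_iff_forall.1 ‹IsMulCommutative A›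
  have hcard : ∀ g x, Nat.card (S (ρ g x)) = Nat.card (S x) := fun g x => by
    rw [hS]; simp only; rw [inf_endStab_rho, card_map_conj]
  -- maximal vectors
  have hmax : ∀ x y, Nat.card (S x) = Nat.card (S w) → y ≠ 0 → S x ≤ endStab ρ y → S x = S y :=
    fun x y hx hy hxy => eq_of_le_of_card_ge (le_inf inf_le_left hxy) (hx ▸ hm y hy)
  have hsub : ∀ b ∈ A, ∀ c ∈ A, ∀ x, ρ c x = x → ρ c (ρ b x - x) = ρ b x - x := by
    intro b hb c hc x hx
    rw [map_sub, ← FpfEnd.rho_mul, hcomm c hc b hb, FpfEnd.rho_mul, hx]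
  have hstep : ∀ x, Nat.card (S x) = Nat.card (S w) → ∀ b ∈ A, b ∉ S x → ∀ y,
      S x ≤ endStab ρ y → ρ b y - y = 0 → y = 0 := by
    intro x hx b hb hbx y hy h0
    by_contra hy0
    exact hbx (hmax x y hx hy0 hy ▸ mem_inf.2 ⟨hb, sub_eq_zero.1 h0⟩)
  have hex : ∀ x y, Nat.card (S x) = Nat.card (S w) → Nat.card (S y) = Nat.card (S w) →
      S x ≠ S y → ∃ b ∈ A, b ∉ S x ∧ ρ b y = y := by
    intro x y hx hy hxy
    by_contra hn
    push Not at hn
    refine hxy (eq_of_le_of_card_ge (fun b hb => ?_) (by rw [hx, hy])).symm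
    by_contra hb'
    exact hn b hb.1 hb' hb.2
  have hkill : ∀ x x₁ x₂ x₃, Nat.card (S x) = Nat.card (S w) → Nat.card (S x₁) = Nat.card (S w) →
      Nat.card (S x₂) = Nat.card (S w) → Nat.card (S x₃) = Nat.card (S w) →
      S x ≠ S x₁ → S x ≠ S x₂ → S x ≠ S x₃ → x + x₃ = x₁ + x₂ → x = 0 := by
    intro x x₁ x₂ x₃ hx h1 h2 h3 n1 n2 n3 e
    obtain ⟨b₁, hb₁, nb₁, fb₁⟩ := hex x x₁ hx h1 n1
    obtain ⟨b₂, hb₂, nb₂, fb₂⟩ := hex x x₂ hx h2 n2
    obtain ⟨b₃, hb₃, nb₃, fb₃⟩ := hex x x₃ hx h3 n3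
    have i0 : S x ≤ endStab ρ x := inf_le_right
    have i1 : S x ≤ endStab ρ (ρ b₁ x - x) := fun c hc => hsub _ hb₁ c hc.1 _ (i0 hc)
    have i2 : S x ≤ endStab ρ (ρ b₂ (ρ b₁ x - x) - (ρ b₁ x - x)) :=
      fun c hc => hsub _ hb₂ c hc.1 _ (i1 hc)
    refine hstep x hx b₁ hb₁ nb₁ _ i0 (hstep x hx b₂ hb₂ nb₂ _ i1 (hstep x hx b₃ hb₃ nb₃ _ i2 ?_))
    have e1 : ρ b₁ x - x = (ρ b₁ x₂ - x₂) - (ρ b₁ x₃ - x₃) := by
      rw [eq_sub_of_add_eq e, map_sub, map_add, fb₁]; abel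
    have e2 : ρ b₂ (ρ b₁ x - x) - (ρ b₁ x - x) = -(ρ b₂ (ρ b₁ x₃ - x₃) - (ρ b₁ x₃ - x₃)) := by
      rw [e1, map_sub (ρ b₂) (ρ b₁ x₂ - x₂), hsub _ hb₁ _ hb₂ _ fb₂]; abel
    rw [e2, map_neg, hsub _ hb₂ _ hb₃ _ (hsub _ hb₁ _ hb₃ _ fb₃), sub_self]
  have hkey : ∀ v₁ v₂, v₁ ≠ 0 → v₂ ≠ 0 → Nat.card (S v₁) = Nat.card (S w) →
      Nat.card (S v₂) = Nat.card (S w) → S v₁ ≠ S v₂ →
      ∀ y, IsPElt u y → ρ y v₁ = v₁ → ρ y v₂ = v₂ := by
    intro v₁ v₂ n1 n2 c1 c2 hne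
    have h0 : v₁ + v₂ ≠ 0 := fun e => hne (hmax _ _ c1 n2 fun c hc => by
      rw [mem_endStab, ← neg_eq_of_add_eq_zero_right e, map_neg, show ρ c v₁ = v₁ from hc.2])
    have hy : ∀ y, IsPElt u y → ρ y (v₁ + v₂) = v₁ + v₂ → ρ y v₁ = v₁ := by
      intro y hy hyv
      rw [map_add] at hyv
      have hne' : S (ρ y v₁) ≠ S (ρ y v₂) := by
        rw [hS]; simp only; rw [inf_endStab_rho, inf_endStab_rho, Ne, map_conj_inj]; exact hne
      have d1 : S (ρ y v₁) = S v₁ ∨ S (ρ y v₁) = S v₂ := by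
        by_contra hn
        push Not at hn
        exact n1 (rho_eq_zero_iff.1 (hkill _ _ _ _ ((hcard _ _).trans c1) c1 c2
          ((hcard _ _).trans c2) hn.1 hn.2 hne' hyv))
      have d2 : S (ρ y v₂) = S v₁ ∨ S (ρ y v₂) = S v₂ := by
        by_contra hn
        push Not at hn
        exact n2 (rho_eq_zero_iff.1 (hkill _ _ _ _ ((hcard _ _).trans c2) c1 c2
          ((hcard _ _).trans c1) hn.1 hn.2 hne'.symm (by rw [add_comm, hyv])))
      have e1 : S (ρ y v₁) = S v₁ := by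
        refine d1.resolve_right fun e => hne (e ▸ ?_)
        have e' := d2.resolve_right fun e' => hne' (e.trans e'.symm)
        have : y ^ 2 ∈ normalizer (S v₁ : Set H) := by
          rw [← map_conj_eq_iff, pow_two, ← map_conj_map_conj]
          rw [hS] at e e' ⊢
          simp only at e e' ⊢
          rw [← inf_endStab_rho, e, ← inf_endStab_rho, e']
        obtain ⟨k, hk⟩ := hy
        obtain ⟨m, hm⟩ := exists_pow_eq_self_of_coprime (x := y) (n := 2) (by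
          rw [hk]; exact ((Nat.coprime_primes Nat.prime_two hu.out).2 hu2.symm).pow_right _)
        have : y ∈ normalizer (S v₁ : Set H) := hm ▸ pow_mem this m
        rw [hS]; simp only; rw [inf_endStab_rho, map_conj_eq_iff.2 this]
      have e2 : S (ρ y v₂) = S v₂ := d2.resolve_left fun e => hne' (e1.trans e.symm)
      obtain ⟨b, hb, nb, fb⟩ := hex _ _ c1 c2 hne
      refine sub_eq_zero.1 (hstep _ c1 b hb nb _ (fun c hc => ?_) ?_)
      · rw [mem_endStab, map_sub, show ρ c v₁ = v₁ from hc.2,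
          show ρ c (ρ y v₁) = ρ y v₁ from (e1.ge hc).2]
      · have : ρ y v₁ - v₁ = v₂ - ρ y v₂ := by rw [sub_eq_sub_iff_add_eq_add, hyv, add_comm]
        rw [this, map_sub, fb, show ρ b (ρ y v₂) = ρ y v₂ from (e2.ge (mem_inf.2 ⟨hb, fb⟩)).2,
          sub_self]
    intro y hy1 hy2
    have := h.symm h0 n1 hy y hy1 hy2
    rwa [map_add, hy2, add_right_inj] at this
  by_cases hn : (S w).Normal
  · have h0 : S w = ⊥ := h.eq_bot_of_le_endStab
      (fun hd => hAu (hd.trans (card_dvd_of_le inf_le_left))) hw inf_le_right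
    have := hm v hv
    rw [show A ⊓ endStab ρ w = ⊥ from h0, card_bot, card_le_one_iff_eq_bot] at this
    exact mem_bot.1 (this ▸ mem_inf.2 ⟨ha, hav⟩)
  obtain ⟨g, hg⟩ : ∃ g, S w ≠ S (ρ g w) := by
    by_contra hn'
    push Not at hn'
    exact hn ⟨fun x hx g => by
      rw [hn' g, hS]; simp only; rw [inf_endStab_rho]; exact conj_mem_map_conj.2 hx⟩
  obtain ⟨U, hU⟩ := h.ex w hw
  have hne : ∀ g, ρ g w ≠ 0 := fun g => mt rho_eq_zero_iff.1 hw
  refine (h.not_normal U ⟨fun y hy x => (hU _).2 ⟨?_, isPElt_conj_iff.2 ((hU y).1 hy).2⟩⟩).elim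
  obtain ⟨hy1, hy2⟩ := (hU y).1 hy
  have : y ∈ endStab ρ (ρ x⁻¹ w) := by
    by_cases e : S w = S (ρ x⁻¹ w)
    · exact hkey _ _ (hne g) (hne _) (hcard _ _) (hcard _ _) (e ▸ hg.symm) y hy2
        (hkey _ _ hw (hne g) rfl (hcard _ _) hg y hy2 hy1)
    · exact hkey _ _ hw (hne _) rfl (hcard _ _) e y hy2 hy1
  exact mem_endStab.1 (by simpa only [inv_inv] using mem_endStab_rho.1 this)

end SylCent

end Cfsg

set_option linter.all false in
theorem Cfsg.Rz.Grp_SylCent_0 : True := by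
  have := @_root_.Cfsg.peltCent.eq_def.{0}
  have := @_root_.Cfsg.peltCent.eq_1.{0}
  have := @_root_.Cfsg.peltCent.fun_cases
  have := @_root_.Cfsg.endStab.eq_def.{0, 0}
  have := @_root_.Cfsg.endStab.eq_1.{0, 0}
  have := @_root_.Cfsg.endStab.fun_cases
  have := @_root_.Cfsg.SylCent.mk.congr_simp.{0, 0}
  trivial
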