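import Cfsg.Agent.Char.RegElt
import Cfsg.Agent.Char.BrauerDeg
import Cfsg.Agent.Grp.JordanP
import Cfsg.Agent.Alg.CycloBig
import Mathlib.NumberTheory.LegendreSymbol.Basic

/-!
# Class numbers of transitive linear `p'`-groups in dimension at least three
-/

set_option autoImplicit false
set_option linter.unusedSectionVars false

namespace Cfsg.TransLin

open scoped Matrix
open Subgroup

universe u

variable {H : Type u} [Group H] [Finite H] {p : ℕ} [hp : Fact p.Prime] {n : ℕ}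

/-- The stabilizer of a vector. -/
def stab (R : H →* Matrix (Fin n) (Fin n) (ZMod p)) (v : Fin n → ZMod p) : Subgroup H where
  carrier := {h | R h *ᵥ v = v}
  one_mem' := by simp
  mul_mem' := fun {a b} ha hb => by
    simp only [Set.mem_ofPred_eq] at ha hb ⊢
    rw [map_mul, ← Matrix.mulVec_mulVec, hb, ha]
  inv_mem' := fun {a} ha => by
    simp only [Set.mem_ofPred_eq] at ha ⊢
    conv_lhs => rw [← ha, Matrix.mulVec_mulVec, ← map_mul, inv_mul_cancel, map_one,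
      Matrix.one_mulVec]

theorem mem_stab {R : H →* Matrix (Fin n) (Fin n) (ZMod p)} {v : Fin n → ZMod p} {h : H} :
    h ∈ stab R v ↔ R h *ᵥ v = v := Iff.rfl

theorem exists_weight' (hH : ¬ p ∣ Nat.card H) (hn : 0 < n)
    (R : H →* Matrix (Fin n) (Fin n) (ZMod p)) (B : Subgroup H) [IsMulCommutative B] :
    ∃ v ≠ 0, ∀ T : Finset (ConjClasses H), (∀ b ∈ B, b ≠ 1 → ConjClasses.mk b ∈ T) →
      (stab R v).relIndex B ≤ n * T.card + 1 := by
  classical
  let k := AlgebraicClosure (ZMod p)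
  let f : ZMod p →+* k := algebraMap _ _
  let ρ := matRep (matMap R f)
  have : Nonempty (Fin n) := ⟨⟨0, hn⟩⟩
  obtain ⟨e, he⟩ := Jordan.exists_weight ρ (le_centralizer B)
  obtain ⟨w, hw, hw0⟩ := (Submodule.ne_bot_iff _).mp he
  have hw' : ∀ b : B, ρ b w = e b • w := fun b =>
    Module.End.mem_eigenspace_iff.mp ((Submodule.mem_iInf _).mp hw b)
  let e' : B →* k :=
    { toFun := e
      map_one' := smul_left_injective k hw0 (by simp [← hw'])
      map_mul' := fun a b => smul_left_injective k hw0 (by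
        simp only [← hw', Subgroup.coe_mul, map_mul, Module.End.mul_apply]
        rw [hw' b, map_smul, hw' a, smul_smul, mul_comm]) }
  let K := e'.toHomUnits.ker
  have hK : ∀ b : K, e b = 1 := fun b => congrArg Units.val (MonoidHom.mem_ker.mp b.2)
  have := Fintype.ofFinite K
  obtain ⟨v, hv0, hv⟩ : ∃ v ≠ 0, ∀ b : K, R b *ᵥ v = v := by
    let E := ∑ b : K, R b
    have hE : E ≠ 0 := fun h => by
      have h1 : ∑ b : K, ρ b w = 0 := by
        have h2 := congrArg (fun M => (f.mapMatrix M) *ᵥ w) h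
        simpa [E, map_sum, Matrix.sum_mulVec, ρ, matRep_apply, matMap_apply] using h2
      simp only [hw', hK, one_smul, Finset.sum_const, Finset.card_univ] at h1
      rw [← Nat.cast_smul_eq_nsmul k, smul_eq_zero, CharP.cast_eq_zero_iff k p,
        ← Nat.card_eq_fintype_card] at h1
      exact h1.elim (fun h => hH (h.trans ((card_subgroup_dvd_card K).trans
        (card_subgroup_dvd_card B)))) hw0
    obtain ⟨u, hu⟩ : ∃ u, E *ᵥ u ≠ 0 := by
      by_contra h
      push Not at h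
      exact hE (Matrix.toLin'.injective (LinearMap.ext fun u => by simpa using h u))
    refine ⟨_, hu, fun b => ?_⟩
    rw [Matrix.mulVec_mulVec]
    congr 1
    simp only [E, Finset.mul_sum, ← map_mul]
    exact Fintype.sum_equiv (Equiv.mulLeft b) _ _ fun c => rfl
  refine ⟨v, hv0, fun T hT => ?_⟩
  have h1 : (stab R v).relIndex B ≤ Nat.card e'.toHomUnits.range := by
    rw [← index_ker]
    exact Nat.le_of_dvd (index_pos _) (index_dvd_of_le fun b hb => hv ⟨b, hb⟩)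
  let rts : ConjClasses H → Finset k := fun c => ((R c.out).charpoly.map f).roots.toFinset
  have h2 : ∀ c, (rts c).card ≤ n := fun c => (Multiset.toFinset_card_le _).trans
    ((Polynomial.card_roots' _).trans (by
      rw [(Matrix.charpoly_monic _).natDegree_map, Matrix.charpoly_natDegree_eq_dim,
        Fintype.card_fin]))
  have h3 : ∀ b : B, e b ∈ rts (ConjClasses.mk (b : H)) := fun b => by
    obtain ⟨c, hc⟩ := isConj_iff.mp (ConjClasses.mk_eq_mk_iff_isConj.mp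
      (Quotient.out_eq (ConjClasses.mk (b : H))).symm)
    have h4 : (R (ConjClasses.mk (b : H)).out).charpoly = (R b).charpoly := by
      erw [← hc]
      rw [map_mul, Matrix.charpoly_mul_comm, ← map_mul, inv_mul_cancel_left]
    simp only [rts]
    rw [h4, Multiset.mem_toFinset, Polynomial.mem_roots ((Matrix.charpoly_monic _).map f).ne_zero,
      ← Matrix.charpoly_map, ← Matrix.charpoly_toLin', ← Module.End.hasEigenvalue_iff_isRoot_charpoly]
    exact Module.End.hasEigenvalue_of_hasEigenvector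
      ⟨Module.End.mem_eigenspace_iff.mpr (hw' b), hw0⟩
  have h4 : Nat.card e'.toHomUnits.range ≤ (insert 1 (T.biUnion rts)).card := by
    rw [← Nat.card_eq_finsetCard]
    refine Nat.card_le_card_of_injective (fun x => ⟨((x : kˣ) : k), ?_⟩) fun x y hxy =>
      Subtype.ext (Units.ext (congrArg Subtype.val hxy))
    obtain ⟨x, b, rfl⟩ := x
    by_cases hb : (b : H) = 1
    · obtain rfl : b = 1 := Subtype.ext hb
      simp
    · exact Finset.mem_insert_of_mem (Finset.mem_biUnion.mpr ⟨_, hT b b.2 hb, h3 b⟩)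
  refine h1.trans (h4.trans ((Finset.card_insert_le _ _).trans ?_))
  exact Nat.add_le_add_right ((Finset.card_biUnion_le_card_mul T rts n fun c _ => h2 c).trans
    (mul_comm _ _).le) 1

omit hp in
theorem index_dvd_mul (S B : Subgroup H) : S.index ∣ S.relIndex B * B.index := by
  rw [← inf_relIndex_right, relIndex_mul_index inf_le_right]
  exact index_dvd_of_le inf_le_left

theorem le_of_good (hH : ¬ p ∣ Nat.card H) (h5 : 5 ≤ p) (hn : 3 ≤ n)
    (R : H →* Matrix (Fin n) (Fin n) (ZMod p)) (hR : Function.Injective R)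
    (hidx : ∀ v ≠ 0, (stab R v).index = p ^ n - 1) {m : ℕ} (hm : CycBig.Good p n m) :
    p ≤ Nat.card (ConjClasses H) := by
  classical
  obtain ⟨χ, hχ, hdeg, hf, -⟩ := exists_lift_zmod hH R hR
  obtain ⟨σ, B, hσ, hB, hc, h2⟩ : ∃ (σ : Set ℕ) (B : Subgroup H), IsPiNumber σ m ∧ IsPiHall σ B ∧
      IsMulCommutative B ∧ 2 ∉ σ := by
    rcases hm.2.2 with h | h
    · obtain ⟨A, hA, hA'⟩ := hχ.exists_abelian_isPiHall hf
      rw [hdeg] at hA'
      exact ⟨_, A, h, hA', isMulCommutative_iff_forall.mpr hA, by simp; omega⟩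
    · obtain ⟨q, hq, hqm⟩ := Nat.exists_prime_and_dvd (show m ≠ 1 by have := hm.2.1; omega)
      obtain rfl : q = n + 1 := h q hq hqm
      have : Fact (n + 1).Prime := ⟨hq⟩
      obtain ⟨P⟩ : Nonempty (Sylow (n + 1) H) := inferInstance
      exact ⟨_, P, h, isPiHall_sylow P, isMulCommutative_iff_forall.mpr
        (hχ.comm_of_isPGroup hf (by omega) P.isPGroup'), by simp; omega⟩
  obtain ⟨v, hv, hT⟩ := exists_weight' hH (by omega) R B
  have h1 : m ∣ (stab R v).relIndex B :=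
    (hσ.coprime hB.isPiNumber_index).dvd_of_dvd_mul_right
      (hm.1.trans (hidx v hv ▸ index_dvd_mul _ B))
  have hodd : Odd p := hp.out.odd_of_ne_two (by omega)
  have h3 : 2 ∣ Nat.card H := by
    refine Dvd.dvd.trans ?_ (index_dvd_card (stab R v))
    rw [hidx v hv]
    exact even_iff_two_dvd.mp (Nat.Odd.sub_odd hodd.pow odd_one)
  obtain ⟨t, ht⟩ := exists_prime_orderOf_dvd_card' 2 h3
  have := Fintype.ofFinite (ConjClasses H)
  have hne : ConjClasses.mk (1 : H) ≠ ConjClasses.mk t := fun h => by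
    rw [ConjClasses.mk_eq_mk_iff_isConj, isConj_one_right] at h
    simp [h] at ht
  have h4 := hT (Finset.univ \ {ConjClasses.mk 1, ConjClasses.mk t}) fun b hb hb1 => by
    simp only [Finset.mem_sdiff, Finset.mem_univ, Finset.mem_insert, Finset.mem_singleton,
      true_and, ConjClasses.mk_eq_mk_iff_isConj, isConj_one_left, not_or]
    refine ⟨hb1, fun h => h2 (hB.isPiGroup 2 Nat.prime_two ?_)⟩
    obtain ⟨c, rfl⟩ := isConj_iff.mp h
    rw [← ht, ← MulAut.conj_apply, MulEquiv.orderOf_eq]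
    exact orderOf_dvd_natCard _ hb
  rw [Finset.card_univ_sdiff, Finset.card_pair hne, ← Nat.card_eq_fintype_card] at h4
  have h6 := hm.2.1.trans_le ((Nat.le_of_dvd (relIndex_pos _ _) h1).trans h4)
  have h7 := Nat.lt_of_mul_lt_mul_left (Nat.lt_of_add_lt_add_right h6)
  omega

/-- Frobenius orbits of eigenvalues in dimension four. -/
theorem frob_eigen {χ : H → ℂ} (hF : ∀ g, χ (g ^ p) = χ g) {s : ℕ} (hs : s.Prime) (hs2 : s ≠ 2)
    (hsp : s ∣ p ^ 2 + 1) {y : H} {ι : Type*} [Fintype ι] (hι : Fintype.card ι = 4) {ε : ι → ℂ}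
    (hε : ∀ i, ε i ^ orderOf y = 1) (hχε : ∀ k : ℕ, χ (y ^ k) = ∑ i, ε i ^ k) {i₀ : ι}
    (h0 : s ∣ orderOf (ε i₀)) :
    (Function.Injective fun a : Fin 4 => ε i₀ ^ p ^ (a : ℕ)) ∧
      (∀ k : ℕ, χ (y ^ k) = ∑ a : Fin 4, (ε i₀ ^ p ^ (a : ℕ)) ^ k) ∧ ε i₀ ^ p ^ 4 = ε i₀ := by
  have : Fact s.Prime := ⟨hs⟩
  have h1 : ∀ i, ∃ j, ε j = ε i ^ p := fun i => by
    have e := roots_card_eq_of_power_sums (orderOf_pos y).ne' hε (δ := fun i => ε i ^ p)
      (fun i => by rw [← pow_mul, mul_comm, pow_mul, hε, one_pow]) fun k => by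
        rw [← hχε, ← hF, ← pow_mul, hχε]
        exact Finset.sum_congr rfl fun i _ => by rw [← pow_mul, mul_comm]
    have : ε i ^ p ∈ (Finset.univ.val.map ε : Multiset ℂ) := by
      rw [e]; exact Multiset.mem_map_of_mem _ (Finset.mem_univ_val i)
    obtain ⟨j, -, hj⟩ := Multiset.mem_map.1 this
    exact ⟨j, hj⟩
  have h2 : ∀ a : ℕ, ∃ j, ε j = ε i₀ ^ p ^ a := fun a => by
    induction a with
    | zero => exact ⟨i₀, by simp⟩
    | succ a ih =>
      obtain ⟨j, hj⟩ := ih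
      obtain ⟨j', hj'⟩ := h1 j
      exact ⟨j', by rw [hj', hj, ← pow_mul, ← pow_succ]⟩
  have hsq : (p : ZMod s) ^ 2 = -1 := by
    have := (ZMod.natCast_eq_zero_iff _ _).mpr hsp
    push_cast at this
    linear_combination this
  have h2' : (2 : ZMod s) ≠ 0 := fun h => hs2 ((Nat.prime_dvd_prime_iff_eq hs Nat.prime_two).mp
    ((ZMod.natCast_eq_zero_iff 2 s).mp h))
  have h3 : ∀ a b : ℕ, ε i₀ ^ p ^ a = ε i₀ ^ p ^ b → (p : ZMod s) ^ a = (p : ZMod s) ^ b :=
    fun a b h => by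
      have hfin : IsOfFinOrder (ε i₀) :=
        isOfFinOrder_iff_pow_eq_one.mpr ⟨_, orderOf_pos y, hε i₀⟩
      have := (hfin.pow_eq_pow_iff_modEq.mp h).of_dvd h0
      exact_mod_cast (ZMod.natCast_eq_natCast_iff _ _ _).mpr this
  have h4 : ∀ a b : ℕ, a < b → b ≤ a + 3 → (p : ZMod s) ^ a ≠ (p : ZMod s) ^ b :=
    fun a b hab hb h => by
      have hp0 : (p : ZMod s) ≠ 0 := fun h0 => by simp [h0] at hsq
      obtain ⟨c, rfl⟩ := Nat.exists_eq_add_of_lt hab
      rw [add_assoc, pow_add] at h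
      have h5 : (p : ZMod s) ^ (c + 1) = 1 :=
        (mul_left_cancel₀ (pow_ne_zero a hp0) (by rw [← h, mul_one])).symm
      have hc : c = 0 ∨ c = 1 ∨ c = 2 := by omega
      apply h2'
      rcases hc with rfl | rfl | rfl
      · linear_combination hsq - (p + 1 : ZMod s) * h5
      · linear_combination hsq - h5
      · linear_combination (1 - p ^ 2 + p : ZMod s) * hsq + (p - 1 : ZMod s) * h5
  have hinj : Function.Injective fun a : Fin 4 => ε i₀ ^ p ^ (a : ℕ) := fun a b hab => by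
    by_contra hne
    rcases lt_or_gt_of_ne (fun h => hne (Fin.ext h)) with h | h
    · exact h4 a b h (by omega) (h3 _ _ hab)
    · exact h4 b a h (by omega) (h3 _ _ hab.symm)
  choose σ hσ using h2
  have hσb : Function.Bijective fun a : Fin 4 => σ a := by
    rw [Fintype.bijective_iff_injective_and_card]
    exact ⟨fun a b hab => hinj (by simp only at hab ⊢; rw [← hσ, ← hσ, hab]), by simp [hι]⟩
  refine ⟨hinj, fun k => ?_, ?_⟩
  · rw [hχε, ← hσb.sum_comp]
    exact Finset.sum_congr rfl fun a _ => by rw [hσ]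
  · obtain ⟨a, ha⟩ := hσb.2 (σ 4)
    have h5 : ε i₀ ^ p ^ (a : ℕ) = ε i₀ ^ p ^ 4 := by simp only at ha; rw [← hσ, ← hσ, ha]
    by_cases h6 : (a : ℕ) = 0
    · rw [← h5, h6]; simp
    · exact absurd (h3 _ _ h5) (h4 a 4 a.2 (by omega))

omit hp in
theorem thue (s p : ℕ) (hs : 0 < s) : ∃ u v : ℤ, |u| ≤ s ∧ |v| ≤ s ∧ (u ≠ 0 ∨ v ≠ 0) ∧
    ((s ^ 2 : ℕ) : ℤ) ∣ u - p * v := by
  have : NeZero (s ^ 2) := ⟨by positivity⟩
  obtain ⟨x, y, hxy, h⟩ := Fintype.exists_ne_map_eq_of_card_lt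
    (fun x : Fin (s + 1) × Fin (s + 1) => (((x.1 : ℕ) : ℤ) - p * (x.2 : ℕ) : ℤ) : _ → ZMod (s ^ 2))
    (by simp; nlinarith)
  refine ⟨(x.1 : ℕ) - (y.1 : ℕ), (x.2 : ℕ) - (y.2 : ℕ), ?_, ?_, ?_, ?_⟩
  · have := x.1.2; have := y.1.2; rw [abs_le]; omega
  · have := x.2.2; have := y.2.2; rw [abs_le]; omega
  · by_contra hc
    push Not at hc
    exact hxy (Prod.ext (Fin.ext (by omega)) (Fin.ext (by omega)))
  · have := (ZMod.intCast_eq_intCast_iff_dvd_sub _ _ _).mp h.symm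
    convert this using 1
    ring

omit hp in
theorem norm_sub_lt {s : ℕ} (hs : 13 ≤ s) {a b : ℤ} (ha : |a| ≤ s) (hb : |b| ≤ s) :
    ‖Complex.exp (2 * Real.pi * Complex.I / (s ^ 2 : ℕ)) ^ a -
      Complex.exp (2 * Real.pi * Complex.I / (s ^ 2 : ℕ)) ^ b‖ < 1 := by
  have hs' : (13 : ℝ) ≤ s := by exact_mod_cast hs
  have e : ∀ c : ℤ, Complex.exp (2 * Real.pi * Complex.I / (s ^ 2 : ℕ)) ^ c =
      Complex.exp (Complex.I * ((c * (2 * Real.pi) / s ^ 2 : ℝ) : ℂ)) := fun c => by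
    rw [← Complex.exp_int_mul]; congr 1; push_cast; ring
  have h1 : Complex.exp (2 * Real.pi * Complex.I / (s ^ 2 : ℕ)) ^ a =
      Complex.exp (2 * Real.pi * Complex.I / (s ^ 2 : ℕ)) ^ b *
      Complex.exp (2 * Real.pi * Complex.I / (s ^ 2 : ℕ)) ^ (a - b) := by
    rw [← zpow_add₀ (Complex.exp_ne_zero _), add_sub_cancel]
  rw [h1, ← mul_sub_one, norm_mul, e, e, Complex.norm_exp_I_mul_ofReal, one_mul]
  refine (Real.norm_exp_I_mul_ofReal_sub_one_le).trans_lt ?_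
  have h2 : |((a - b : ℤ) : ℝ)| ≤ 2 * s := by
    have : |a - b| ≤ 2 * s := (abs_sub a b).trans (by omega)
    exact_mod_cast this
  have h3 : (0 : ℝ) < (s : ℝ) ^ 2 := by positivity
  rw [Real.norm_eq_abs, abs_div, abs_mul, abs_of_pos Real.two_pi_pos, abs_of_pos h3,
    div_lt_one h3]
  have := Real.pi_lt_d2
  have := Real.pi_pos
  nlinarith [abs_nonneg ((a - b : ℤ) : ℝ)]

/-- In dimension four, a primitive prime divisor `s ≥ 13` yields a regular element commuting with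
its conjugates. -/
theorem exists_regular {χ : H → ℂ} (hχ : IsCharacter H χ) (hdeg : charDegree χ = 4)
    (hf : ∀ g, χ g = χ 1 → g = 1) (hF : ∀ g, χ (g ^ p) = χ g) {s : ℕ} (hs : s.Prime)
    (h13 : 13 ≤ s) (hsp : s ∣ p ^ 2 + 1) (hsH : s ∣ Nat.card H) :
    ∃ (y : H) (δ : Fin 4 → ℂ), (∀ i, δ i ^ orderOf y = 1) ∧
      (∀ k : ℕ, χ (y ^ k) = ∑ i, δ i ^ k) ∧ Function.Injective δ ∧
      ∀ g : H, g * y * g⁻¹ ∈ centralizer ({y} : Set H) := by
  have : Fact s.Prime := ⟨hs⟩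
  have hι : Fintype.card (Fin (charDegree χ)) = 4 := by simp [hdeg]
  have hne : ∀ {y : H} {ε : Fin (charDegree χ) → ℂ}, y ≠ 1 → orderOf y = s →
      (∀ i, ε i ^ orderOf y = 1) → (∀ k : ℕ, χ (y ^ k) = ∑ i, ε i ^ k) →
      ∃ i, orderOf (ε i) = s := fun {y ε} hy ho hε hχε => by
    by_contra h
    push Not at h
    have h1 : ∀ i, ε i = 1 := fun i => orderOf_eq_one_iff.mp
      (((Nat.dvd_prime hs).mp (ho ▸ orderOf_dvd_of_pow_eq_one (hε i))).resolve_right (h i))
    exact hy (hf y (by simpa [h1] using (hχε 1).trans ((Finset.sum_congr rfl fun i _ => by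
      rw [h1, one_pow, one_pow]).trans (hχε 0).symm)))
  by_cases hsq : s ^ 2 ∣ Nat.card H
  swap
  · obtain ⟨x, hx⟩ := exists_prime_orderOf_dvd_card' s hsH
    have hn : (zpowers x).Normal := by
      by_contra hn
      have := hχ.le_two_mul_charDegree_add_one hf hx hsq hn
      omega
    obtain ⟨ε, hε, hχε, -⟩ := hχ.exists_roots x
    obtain ⟨i, hi⟩ := hne (fun h => hs.one_lt.ne (by simp [← hx, h])) hx hε hχε
    obtain ⟨h1, h2, -⟩ := frob_eigen hF hs (by omega) hsp hι hε hχε hi.symm.dvd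
    refine ⟨x, _, fun a => by rw [← pow_mul, mul_comm, pow_mul, hε, one_pow], h2, h1, fun g => ?_⟩
    obtain ⟨k, hk⟩ := hn.conj_mem x (mem_zpowers x) g
    rw [mem_centralizer_singleton_iff, ← hk]
    exact (Commute.refl x).zpow_left k
  obtain ⟨T⟩ : Nonempty (Sylow s H) := inferInstance
  have : IsMulCommutative (T : Subgroup H) := isMulCommutative_iff_forall.mpr
    (hχ.comm_of_isPGroup hf (by omega) T.isPGroup')
  obtain ⟨f, hf1, -⟩ := (hχ.comp (T : Subgroup H).subtype).exists_eq_sum_monoidHom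
  have hι' : Fintype.card (Fin (charDegree (χ ∘ (T : Subgroup H).subtype))) = 4 := by
    rw [Fintype.card_fin, ← hdeg]; simp [charDegree]
  have hε : ∀ (y : (T : Subgroup H)) i, (f i y : ℂ) ^ orderOf (y : H) = 1 := fun y i => by
    rw [← Units.val_pow_eq_pow_val, ← map_pow, orderOf_coe, pow_orderOf_eq_one, map_one,
      Units.val_one]
  have hχε : ∀ (y : (T : Subgroup H)) (k : ℕ), χ ((y : H) ^ k) = ∑ i, (f i y : ℂ) ^ k :=
    fun y k => (hf1 (y ^ k)).trans (Finset.sum_congr rfl fun i _ => by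
      rw [map_pow, Units.val_pow_eq_pow_val])
  obtain ⟨i₀⟩ : Nonempty (Fin (charDegree (χ ∘ (T : Subgroup H).subtype))) :=
    Fintype.card_pos_iff.mp (by omega)
  have hinj : Function.Injective (f i₀) := by
    rw [← MonoidHom.ker_eq_bot_iff]
    by_contra hk
    obtain ⟨y, hy, ho⟩ := exists_mem_orderOf_eq_prime
      (dvd_card_of_isPGroup_of_ne_bot (T.isPGroup'.to_subgroup _) hk)
    have ho' : orderOf (y : H) = s := by rw [orderOf_coe, ho]
    obtain ⟨ε, h1, h2, -⟩ := hχ.exists_roots (y : H)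
    obtain ⟨i, hi⟩ := hne (fun h => hs.one_lt.ne (by simp [← ho', h])) ho' h1 h2
    obtain ⟨-, h4, -⟩ := frob_eigen hF hs (by omega) hsp hι h1 h2 hi.symm.dvd
    have e := roots_card_eq_of_power_sums (orderOf_pos (y : H)).ne' (hε y)
      (δ := fun a : Fin 4 => ε i ^ p ^ (a : ℕ))
      (fun a => by rw [← pow_mul, mul_comm, pow_mul, h1, one_pow]) fun k => by rw [← hχε, h4]
    have : (f i₀ y : ℂ) ∈ (Finset.univ.val.map fun a : Fin 4 => ε i ^ p ^ (a : ℕ)) := by
      rw [← e]; exact Multiset.mem_map_of_mem (fun i => (f i y : ℂ)) (Finset.mem_univ_val i₀)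
    obtain ⟨a, -, ha⟩ := Multiset.mem_map.1 this
    rw [MonoidHom.mem_ker.mp hy, Units.val_one] at ha
    have h5 := hs.dvd_of_dvd_pow (hi ▸ orderOf_dvd_of_pow_eq_one ha)
    exact hs.one_lt.ne' (Nat.dvd_one.mp ((Nat.dvd_add_right (h5.trans (dvd_pow_self p
      two_ne_zero))).mp hsp))
  have : IsCyclic (T : Subgroup H) := isCyclic_of_injective_ringHom
    ((Units.coeHom ℂ).comp (f i₀)) (Units.val_injective.comp hinj)
  obtain ⟨g₀, hg₀⟩ := IsCyclic.exists_ofOrder_eq_natCard (α := (T : Subgroup H))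
  have hT : s ^ 2 ∣ Nat.card (T : Subgroup H) := by
    rw [T.card_eq_multiplicity]
    exact pow_dvd_pow s ((hs.pow_dvd_iff_le_factorization Nat.card_pos.ne').mp hsq)
  have hs0 : s ^ 2 ≠ 0 := by positivity
  have hζ := Complex.isPrimitiveRoot_exp (s ^ 2) hs0
  set ζ := Complex.exp (2 * Real.pi * Complex.I / (s ^ 2 : ℕ)) with hζdef
  have hprim : IsPrimitiveRoot (f i₀ g₀ : ℂ) (Nat.card (T : Subgroup H)) := by
    rw [← hg₀, ← orderOf_injective _ hinj, ← orderOf_units]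
    exact IsPrimitiveRoot.orderOf _
  have : NeZero (Nat.card (T : Subgroup H)) := ⟨Nat.card_pos.ne'⟩
  obtain ⟨w, -, hw⟩ := hprim.eq_pow_of_pow_eq_one (ξ := ζ) ((hζ.pow_eq_one_iff_dvd _).mpr hT)
  have h0 : (f i₀ (g₀ ^ w) : ℂ) = ζ := by rw [map_pow, Units.val_pow_eq_pow_val, hw]
  obtain ⟨-, -, h1⟩ := frob_eigen hF hs (by omega) hsp hι' (hε (g₀ ^ w)) (hχε _) (i₀ := i₀)
    (by rw [h0, ← hζ.eq_orderOf]; exact dvd_pow_self s two_ne_zero)
  rw [h0] at h1
  have hζ0 : ζ ≠ 0 := hζ.ne_zero hs0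
  have h2 : ((s ^ 2 : ℕ) : ℤ) ∣ (p : ℤ) ^ 2 + 1 := by
    have h3 : ((s ^ 2 : ℕ) : ℤ) ∣ ((p : ℤ) ^ 2 + 1) * ((p : ℤ) ^ 2 + 1 - 2) := by
      rw [← hζ.zpow_eq_one_iff_dvd, show ((p : ℤ) ^ 2 + 1) * ((p : ℤ) ^ 2 + 1 - 2) =
        ((p ^ 4 : ℕ) : ℤ) - 1 by push_cast; ring, zpow_sub_one₀ hζ0, zpow_natCast, h1,
        mul_inv_cancel₀ hζ0]
    rw [Nat.cast_pow] at h3 ⊢
    refine (Nat.prime_iff_prime_int.mp hs).pow_dvd_of_dvd_mul_right 2 (fun h => ?_) h3
    have h4 := dvd_sub (show (s : ℤ) ∣ (p : ℤ) ^ 2 + 1 by exact_mod_cast hsp) h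
    rw [sub_sub_cancel] at h4
    have := Int.le_of_dvd two_pos h4
    omega
  obtain ⟨u, v, hu, hv, huv, hd⟩ := thue s p hs.pos
  have h3 : (f i₀ ((g₀ ^ w) ^ v) : ℂ) = ζ ^ v := by rw [map_zpow, Units.val_zpow_eq_zpow_val, h0]
  have hsmall : ∀ a : ℤ, |a| ≤ s → ((s ^ 2 : ℕ) : ℤ) ∣ a → a = 0 := fun a ha h =>
    Int.eq_zero_of_abs_lt_dvd h (by push_cast; nlinarith)
  have h4 : s ∣ orderOf (ζ ^ v) := by
    have h5 : orderOf (ζ ^ v) ∣ s ^ 2 := orderOf_dvd_of_pow_eq_one (by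
      rw [← zpow_natCast, ← zpow_mul, mul_comm, zpow_mul, zpow_natCast, hζ.pow_eq_one, one_zpow])
    obtain ⟨k, -, hk⟩ := (Nat.dvd_prime_pow hs).mp h5
    rcases k with _ | k
    · rw [pow_zero, orderOf_eq_one_iff, hζ.zpow_eq_one_iff_dvd] at hk
      obtain rfl := hsmall v hv hk
      exact absurd (hsmall u hu (by simpa using hd)) (by simpa using huv)
    · exact hk ▸ dvd_pow_self s k.succ_ne_zero
  obtain ⟨h5, h6, -⟩ := frob_eigen hF hs (by omega) hsp hι' (hε ((g₀ ^ w) ^ v)) (hχε _) (i₀ := i₀)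
    (by rwa [h3])
  have h7 : ∀ a : Fin 4, ((f i₀ ((g₀ ^ w) ^ v) : ℂ) ^ p ^ (a : ℕ)) ^
      orderOf (((g₀ ^ w) ^ v : (T : Subgroup H)) : H) = 1 := fun a => by
    rw [← pow_mul, mul_comm, pow_mul, hε, one_pow]
  refine ⟨_, _, h7, h6, h5, fun g => ?_⟩
  have h8 : ∀ a : Fin 4, ∃ c : ℤ, |c| ≤ s ∧
      (f i₀ ((g₀ ^ w) ^ v) : ℂ) ^ p ^ (a : ℕ) = ζ ^ c := fun a => by
    have key : ∀ c : ℤ, ((s ^ 2 : ℕ) : ℤ) ∣ v * p ^ (a : ℕ) - c →
        (f i₀ ((g₀ ^ w) ^ v) : ℂ) ^ p ^ (a : ℕ) = ζ ^ c := fun c hc => by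
      rw [← hζ.zpow_eq_one_iff_dvd, zpow_sub₀ hζ0, div_eq_one_iff_eq (zpow_ne_zero _ hζ0)] at hc
      rw [h3, ← hc, ← zpow_natCast, ← zpow_mul, Nat.cast_pow]
    fin_cases a
    · exact ⟨v, hv, key v (by simp)⟩
    · refine ⟨u, hu, key u (hd.neg_right.trans (dvd_of_eq ?_))⟩
      simp; ring
    · refine ⟨-v, by rwa [abs_neg], key (-v) ((h2.mul_left v).trans (dvd_of_eq ?_))⟩
      simp; ring
    · refine ⟨-u, by rwa [abs_neg], key (-u) ((hd.add (h2.mul_left (v * p))).trans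
        (dvd_of_eq ?_))⟩
      simp; ring
  have h9 := hχ.commute_conj_of_close hf h7 h6 (fun a b => by
    obtain ⟨c, hc, e⟩ := h8 a
    obtain ⟨d, hd, e'⟩ := h8 b
    rw [e, e']
    exact norm_sub_lt h13 hc hd) g⁻¹
  rw [inv_inv] at h9
  exact mem_centralizer_singleton_iff.mpr h9.symm

theorem le_of_four (hH : ¬ p ∣ Nat.card H) (h5 : 5 ≤ p)
    (R : H →* Matrix (Fin 4) (Fin 4) (ZMod p)) (hR : Function.Injective R)
    (hidx : ∀ v ≠ 0, (stab R v).index = p ^ 4 - 1) : p ≤ Nat.card (ConjClasses H) := by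
  classical
  have hodd : Odd p := hp.out.odd_of_ne_two (by omega)
  have hdvd : p ^ 2 + 1 ∣ p ^ 4 - 1 := by
    rw [show p ^ 4 - 1 = (p ^ 2) ^ 2 - 1 ^ 2 by ring_nf, Nat.sq_sub_sq]
    exact Dvd.intro _ rfl
  by_cases h : ∃ s, s.Prime ∧ s ≠ 2 ∧ s ≠ 5 ∧ s ∣ p ^ 2 + 1
  swap
  · refine le_of_good hH h5 (by norm_num) R hR hidx (m := natPiPart {5} (p ^ 2 + 1))
      ⟨(natPiPart_dvd _ _).trans hdvd, ?_, Or.inr (isPiNumber_natPiPart _ _)⟩
    have h1 : natPiPart {5}ᶜ (p ^ 2 + 1) ∣ 2 := by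
      rw [Nat.dvd_iff_prime_pow_dvd_dvd]
      intro l k hl hk
      have key : l ∣ natPiPart {5}ᶜ (p ^ 2 + 1) → l = 2 := fun hd => by
        by_contra h2
        exact h ⟨l, hl, h2, isPiNumber_natPiPart _ _ l hl hd, hd.trans (natPiPart_dvd _ _)⟩
      rcases k with _ | _ | k
      · simp
      · simp [key (by simpa using hk)]
      · obtain rfl := key ((dvd_pow_self l (by omega)).trans hk)
        have h2 := ((pow_dvd_pow 2 (show 2 ≤ k + 1 + 1 by omega)).trans hk).trans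
          (natPiPart_dvd _ _)
        obtain ⟨c, rfl⟩ := hodd
        rw [show (2 * c + 1) ^ 2 + 1 = 4 * (c ^ 2 + c) + 2 by ring] at h2
        omega
    have h2 := natPiPart_mul_natPiPart_compl {5} (show p ^ 2 + 1 ≠ 0 by omega)
    have h3 := Nat.mul_le_mul_left (natPiPart {5} (p ^ 2 + 1)) (Nat.le_of_dvd two_pos h1)
    obtain ⟨t, rfl⟩ : ∃ t, p = t + 5 := ⟨p - 5, by omega⟩
    rw [h2] at h3
    rw [show t + 5 - 3 = t + 2 by omega]
    nlinarith
  obtain ⟨s, hs, hs2, hs5, hsp⟩ := h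
  have h13 : 13 ≤ s := by
    have : Fact s.Prime := ⟨hs⟩
    have h1 := ZMod.mod_four_ne_three_of_sq_eq_neg_one (p := s) (y := p) (by
      have := (ZMod.natCast_eq_zero_iff _ _).mpr hsp
      push_cast at this
      linear_combination this)
    by_contra h2
    have := hs.two_le
    push Not at h2
    interval_cases s <;> first | omega | exact absurd hs (by norm_num)
  obtain ⟨χ, hχ, hdeg, hf, hF⟩ := exists_lift_zmod hH R hR
  obtain ⟨y, δ, h1, h2, h3, h4⟩ := exists_regular hχ hdeg hf hF hs h13 hsp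
    (hsp.trans (hdvd.trans (hidx (fun _ => 1) (fun h => one_ne_zero (congrFun h 0)) ▸
      index_dvd_card _)))
  have := hχ.comm_centralizer_of_injective hf h1 h2 h3
  have h6 : (centralizer ({y} : Set H)).index ≤ 24 := by
    rw [← card_isConj_eq_index_centralizer]
    refine le_trans (Nat.card_congr (Equiv.subtypeEquivRight fun z => ?_)).le
      (hχ.card_conj_le hf h1 h2 h3)
    refine ⟨fun hz => ⟨hz, ?_⟩, And.left⟩
    obtain ⟨g, rfl⟩ := isConj_iff.mp hz
    exact h4 g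
  obtain ⟨v, hv, hT⟩ := exists_weight' hH (by norm_num) R (centralizer {y})
  have := Fintype.ofFinite (ConjClasses H)
  have h7 := hT (Finset.univ.erase (ConjClasses.mk 1)) fun b _ hb => by
    simpa [ConjClasses.mk_eq_mk_iff_isConj] using hb
  rw [Finset.card_erase_of_mem (Finset.mem_univ _), Finset.card_univ,
    ← Nat.card_eq_fintype_card] at h7
  have h8 := (Nat.le_of_dvd (Nat.mul_pos (relIndex_pos _ _) (index_pos _))
    (hidx v hv ▸ index_dvd_mul (stab R v) (centralizer {y}))).trans (Nat.mul_le_mul h7 h6)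
  by_contra h9
  have h10 : 125 * p ≤ p ^ 4 := by
    rw [show p ^ 4 = p ^ 3 * p by ring]
    exact Nat.mul_le_mul_right _ (Nat.pow_le_pow_left h5 3)
  omega

/-- A `p'`-subgroup of `GL(n, p)`, `n ≥ 3`, `p ≥ 5`, transitive on nonzero vectors has at least
`p` classes. -/
theorem le_card_conjClasses (hH : ¬ p ∣ Nat.card H) (h5 : 5 ≤ p) (hn : 3 ≤ n)
    (R : H →* Matrix (Fin n) (Fin n) (ZMod p)) (hR : Function.Injective R)
    (hidx : ∀ v ≠ 0, (stab R v).index = p ^ n - 1) : p ≤ Nat.card (ConjClasses H) := by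
  by_cases h4 : n = 4
  · subst h4; exact le_of_four hH h5 R hR hidx
  · obtain ⟨m, hm⟩ := CycBig.exists_good hp.out h5 hn h4
    exact le_of_good hH h5 hn R hR hidx hm

end Cfsg.TransLin

set_option linter.all false in
theorem Cfsg.Rz.Grp_TransLin_0 : True := by
  have := @_root_.Cfsg.TransLin.stab.eq_def.{0}
  have := @_root_.Cfsg.TransLin.stab.eq_1.{0}
  have := @_root_.Cfsg.TransLin.stab.fun_cases
  trivial
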