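import Cfsg.Agent.Grp.TransLin
import Cfsg.Agent.Grp.CAClass
import Cfsg.Agent.Char.FourC

/-!
# Class numbers of transitive linear `p'`-groups in dimension two
-/

set_option autoImplicit false
set_option linter.unusedSectionVars false

namespace Cfsg.TransLin

open scoped Matrix MatrixGroups
open Subgroup

universe u

variable {H : Type u} [Group H] [Finite H] {p : ℕ} [hp : Fact p.Prime] {n : ℕ}

theorem index_stab {R : H →* Matrix (Fin n) (Fin n) (ZMod p)}
    (htr : ∀ v w : Fin n → ZMod p, v ≠ 0 → w ≠ 0 → ∃ h, R h *ᵥ v = w) {v : Fin n → ZMod p}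
    (hv : v ≠ 0) : (stab R v).index = p ^ n - 1 := by
  classical
  have h0 : ∀ h, R h *ᵥ v ≠ 0 := fun h e => hv (by
    rw [← Matrix.one_mulVec v, ← map_one R, ← inv_mul_cancel h, map_mul, ← Matrix.mulVec_mulVec, e,
      Matrix.mulVec_zero])
  have h1 : ∀ g h : H, g⁻¹ * h ∈ stab R v ↔ R g *ᵥ v = R h *ᵥ v := fun g h => by
    rw [mem_stab]
    refine ⟨fun e => ?_, fun e => ?_⟩
    · conv_lhs => rw [← e, Matrix.mulVec_mulVec, ← map_mul, mul_inv_cancel_left]
    · rw [map_mul, ← Matrix.mulVec_mulVec, ← e, Matrix.mulVec_mulVec, ← map_mul, inv_mul_cancel,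
        map_one, Matrix.one_mulVec]
  have h2 : (stab R v).index = Nat.card {w : Fin n → ZMod p // w ≠ 0} := by
    refine Nat.card_eq_of_bijective (Quotient.lift (fun g => ⟨R g *ᵥ v, h0 g⟩) fun g h e =>
      Subtype.ext ((h1 g h).mp (QuotientGroup.leftRel_apply.mp e))) ⟨?_, fun w => ?_⟩
    · rintro ⟨g⟩ ⟨h⟩ e
      exact Quotient.sound (QuotientGroup.leftRel_apply.mpr ((h1 g h).mpr (congrArg Subtype.val e)))
    · obtain ⟨h, hh⟩ := htr v w hv w.2
      exact ⟨⟦h⟧, Subtype.ext hh⟩
  rw [h2, Nat.card_eq_fintype_card, Fintype.card_subtype_compl, Fintype.card_subtype_eq]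
  simp

theorem ca_of_two (hH : ¬ p ∣ Nat.card H) (R : H →* Matrix (Fin 2) (Fin 2) (ZMod p))
    (hR : Function.Injective R) {h : H} (hh : h ∉ center H) :
    IsMulCommutative (centralizer ({h} : Set H)) ∧
      Nat.card {z // IsConj h z ∧ z ∈ centralizer ({h} : Set H)} ≤ 2 := by
  obtain ⟨χ, hχ, hdeg, hf, -⟩ := exists_lift_zmod hH R hR
  obtain ⟨ε, hε, hχε⟩ : ∃ ε : Fin 2 → ℂ, (∀ i, ε i ^ orderOf h = 1) ∧
      ∀ k : ℕ, χ (h ^ k) = ∑ i, ε i ^ k := by
    obtain ⟨ε, h1, h2, -⟩ := hχ.exists_roots h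
    revert ε
    rw [hdeg]
    exact fun ε h1 h2 => ⟨ε, h1, h2⟩
  have hinj : Function.Injective ε := by
    have h1 : ε 0 ≠ ε 1 := fun e => hh (hχ.charCenter_le_center_of_faithful
      (eq_bot_iff.mpr fun g hg => hf g (hχ.mem_charKer.mp hg)) (hχ.mem_charCenter.mpr (by
        have h2 := hχε 1
        rw [pow_one, Fin.sum_univ_two, ← e, pow_one, ← two_mul] at h2
        rw [h2, hdeg, norm_mul, Complex.norm_eq_one_of_pow_eq_one (hε 0) (orderOf_pos h).ne']
        simp)))
    intro i j e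
    fin_cases i <;> fin_cases j <;> simp_all [eq_comm]
  exact ⟨hχ.comm_centralizer_of_injective hf hε hχε hinj,
    by simpa using hχ.card_conj_le hf hε hχε hinj⟩

/-- The upper triangular subgroup. -/
theorem exists_borel (hH : ¬ p ∣ Nat.card H) (R : H →* Matrix (Fin 2) (Fin 2) (ZMod p))
    (hR : Function.Injective R)
    (htr : ∀ v w : Fin 2 → ZMod p, v ≠ 0 → w ≠ 0 → ∃ h, R h *ᵥ v = w) :
    ∃ (B : Subgroup H) (s : ℕ), B.index = p + 1 ∧ Nat.card B = (p - 1) * s ∧
      Nat.card H = (p ^ 2 - 1) * s ∧ ∀ b ∈ B, b ∉ center H → centralizer {b} = B := by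
  have hent : ∀ a b : H, ∀ i j, R (a * b) i j = R a i 0 * R b 0 j + R a i 1 * R b 1 j :=
    fun a b i j => by rw [map_mul, Matrix.mul_apply, Fin.sum_univ_two]
  have hone : ∀ a b : H, a * b = 1 → R a 0 0 * R b 0 0 + R a 0 1 * R b 1 0 = 1 ∧
      R a 1 0 * R b 0 0 + R a 1 1 * R b 1 0 = 0 ∧ R a 1 0 * R b 0 1 + R a 1 1 * R b 1 1 = 1 :=
    fun a b h => by simp only [← hent, h, map_one]; simp
  have hinv : ∀ a : H, R a 1 0 = 0 → R a⁻¹ 1 0 = 0 := fun a ha => by
    obtain ⟨-, h1, h2⟩ := hone a a⁻¹ (mul_inv_cancel a)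
    rw [ha] at h1 h2
    linear_combination (R a⁻¹ 1 1) * h1 - (R a⁻¹ 1 0) * h2
  let B : Subgroup H :=
    { carrier := {h | R h 1 0 = 0}
      one_mem' := by simp
      mul_mem' := fun {a b} ha hb => by
        simp only [Set.mem_ofPred_eq] at ha hb ⊢
        rw [hent, ha, hb]; simp
      inv_mem' := fun {a} ha => hinv a ha }
  have hB : ∀ {h}, h ∈ B ↔ R h 1 0 = 0 := Iff.rfl
  let v : Fin 2 → ZMod p := ![1, 0]
  have hv : v ≠ 0 := fun h => one_ne_zero (congrFun h 0)
  have hRv : ∀ h, R h *ᵥ v = ![R h 0 0, R h 1 0] := fun h => by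
    ext i; fin_cases i <;> simp [v, Matrix.mulVec, dotProduct]
  let e : B →* ZMod p :=
    { toFun := fun b => R b 0 0
      map_one' := by simp
      map_mul' := fun a b => by
        simp only [Subgroup.coe_mul]
        rw [hent, hB.mp b.2]; simp }
  have h1 : (stab R v).relIndex B = p - 1 := by
    have h2 : (stab R v).subgroupOf B = e.toHomUnits.ker := by
      ext b
      rw [mem_subgroupOf, mem_stab, hRv, hB.mp b.2, MonoidHom.mem_ker, Units.ext_iff]
      exact ⟨fun h => congrFun h 0, fun h => by rw [show R b 0 0 = 1 from h]⟩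
    have h3 : e.toHomUnits.range = ⊤ := eq_top_iff.mpr fun u _ => by
      obtain ⟨h, hh⟩ := htr v ![u, 0] hv fun h => u.ne_zero (congrFun h 0)
      rw [hRv] at hh
      exact ⟨⟨h, congrFun hh 1⟩, Units.ext (congrFun hh 0)⟩
    rw [relIndex, h2, index_ker, h3, card_top, Nat.card_eq_fintype_card, ZMod.card_units]
  have hSB : stab R v ≤ B := fun h hh => congrFun ((hRv h).symm.trans hh) 1
  have h2 := index_stab htr hv
  have hp2 := hp.out.two_le
  have hcomm : ∀ a ∈ B, ∀ b ∈ B, a * b = b * a := fun a ha b hb => by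
    rw [← mul_inv_eq_one]
    set u := a * b * (b * a)⁻¹ with hu
    have hu0 : R u 1 0 = 0 := B.mul_mem (B.mul_mem ha hb) (B.inv_mem (B.mul_mem hb ha))
    have hba := hone _ _ (mul_inv_cancel (b * a))
    have hi : R (b * a)⁻¹ 1 0 = 0 := B.inv_mem (B.mul_mem hb ha)
    have ha' := hB.mp ha
    have hb' := hB.mp hb
    simp only [hent b a, ha', hb', hi] at hba
    have hu1 : R u 0 0 = 1 := by
      rw [hu, hent, hent, hi, hb']; linear_combination hba.1
    have hu2 : R u 1 1 = 1 := by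
      rw [hu, hent, hent, hent, ha', hb']; linear_combination hba.2.2
    have h3 : (R u - 1) ^ 2 = 0 := by
      ext i j
      fin_cases i <;> fin_cases j <;>
        simp [sq, Matrix.mul_apply, Fin.sum_univ_two, hu0, hu1, hu2]
    have h4 : u ^ p = 1 := hR (by
      have h5 := sub_pow_char_of_commute (p := p) (Commute.one_right (R u))
      rw [pow_eq_zero_of_le hp2 h3, one_pow] at h5
      rw [map_pow, map_one, ← sub_eq_zero, ← h5])
    rcases (Nat.dvd_prime hp.out).mp (orderOf_dvd_of_pow_eq_one h4) with h | h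
    · exact orderOf_eq_one_iff.mp h
    · exact absurd (h ▸ orderOf_dvd_natCard u) hH
  refine ⟨B, Nat.card (stab R v), ?_, by rw [← card_mul_relIndex hSB, h1, mul_comm],
    by rw [← h2, index_mul_card], fun b hb hbZ => le_antisymm (fun g hg => ?_) fun g hg =>
      mem_centralizer_singleton_iff.mpr (hcomm g hg b hb)⟩
  · have h3 := relIndex_mul_index hSB
    rw [h1, h2, ← one_pow 2, Nat.sq_sub_sq, mul_comm] at h3
    exact Nat.eq_of_mul_eq_mul_right (by omega) h3
  · by_contra hg0
    have hb' := hB.mp hb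
    have h3 := mem_centralizer_singleton_iff.mp hg
    have h4 := (hent g b 1 0).symm.trans (h3 ▸ hent b g 1 0)
    have h5 := (hent g b 0 0).symm.trans (h3 ▸ hent b g 0 0)
    rw [hb'] at h4 h5
    have h6 : R b 1 1 = R b 0 0 := mul_left_cancel₀ hg0 (by linear_combination -h4)
    have h7 : R b 0 1 = 0 := mul_left_cancel₀ hg0 (by linear_combination -h5)
    refine hbZ (mem_center_iff.mpr fun x => hR ?_)
    ext i j
    rw [hent, hent]
    fin_cases i <;> fin_cases j <;> simp [hb', h6, h7, mul_comm]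

theorem eq_neg_one {R : H →* Matrix (Fin n) (Fin n) (ZMod p)}
    (hreg : ∀ v ≠ 0, stab R v = ⊥) {t : H} (ht : t * t = 1) (h1 : t ≠ 1) : R t = -1 := by
  refine Matrix.toLin'.injective (LinearMap.ext fun v => ?_)
  by_contra h
  have h2 : t ∈ stab R (R t *ᵥ v + v) := by
    rw [mem_stab, Matrix.mulVec_add, Matrix.mulVec_mulVec, ← map_mul, ht, map_one,
      Matrix.one_mulVec, add_comm]
  rw [hreg _ fun e => h (by simpa [Matrix.neg_mulVec] using eq_neg_of_add_eq_zero_left e)] at h2
  exact h1 h2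

omit hp in
theorem card_eq_of_fibers {I : Type u} [Fintype I] (c : {x // x ∉ center H} → I) (M : Subgroup H)
    (hZ : center H ≤ M) (h : ∀ x y, c x = c y → x.1 ∈ M → y.1 ∈ M) :
    ∃ e : I → ℕ, (∀ i, e i = 0 ∨ e i = Nat.card {x // c x = i}) ∧
      Nat.card M = Nat.card (center H) + ∑ i, e i := by
  classical
  have := Fintype.ofFinite H
  refine ⟨fun i => ∑ x : {x // c x = i}, if x.1.1 ∈ M then 1 else 0, fun i => ?_, ?_⟩
  · by_cases h1 : ∃ x : {x // c x = i}, x.1.1 ∈ M
    · obtain ⟨x, hx⟩ := h1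
      right
      simp [fun y : {x // c x = i} => h x y (x.2.trans y.2.symm) hx]
    · push Not at h1
      left
      simp [h1]
  · rw [Fintype.sum_fiberwise c fun x => if x.1 ∈ M then 1 else 0]
    have h1 := Fintype.sum_subtype_add_sum_subtype (· ∈ center H) fun x => if x ∈ M then 1 else 0
    rw [Finset.sum_congr rfl fun (x : {x // x ∈ center H}) _ => if_pos (hZ x.2)] at h1
    simp only [Finset.sum_const, Finset.card_univ, smul_eq_mul, mul_one,
      ← Nat.card_eq_fintype_card] at h1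
    erw [h1]
    simp [Finset.sum_boole, Nat.card_eq_fintype_card, Fintype.card_subtype]

omit hp in
/-- Recognition of `SL(2, 5)` from its class equation. -/
theorem equiv_sl_of_classEq (hH : Nat.card H = 120) {t : H} (ht : t ≠ 1)
    (hZ : ∀ x, x ∈ center H ↔ x = 1 ∨ x = t) (hinv : ∀ x : H, x * x = 1 → x = 1 ∨ x = t)
    {I : Type u} [Fintype I] (c : {x // x ∉ center H} → I) (hc : Function.Surjective c)
    {m : I → ℕ} (hm : ∀ x, m (c x) = (center H).relIndex (centralizer {x.1}))
    (ha : ∀ i, Nat.card {x // c x = i} * 2 * m i = 120 * (m i - 1))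
    (hcc : ∀ x y, c x = c y → ∃ g : H, g * y * g⁻¹ ∈ centralizer ({x.1} : Set H))
    {i₀ i₁ i₂ : I} (hI : ∀ i, i = i₀ ∨ i = i₁ ∨ i = i₂) (h0 : m i₀ = 5) (h1 : m i₁ = 2)
    (h2 : m i₂ = 3) : commutator H = ⊤ ∧ Nonempty (H ≃* SL(2, ZMod 5)) ∧
      ∃ x : H, orderOf x = 4 ∧ Nat.card (centralizer ({x} : Set H)) = 4 := by
  classical
  have hz : Nat.card (center H) = 2 :=
    (Nat.card_congr (Equiv.subtypeEquivRight hZ)).trans (Set.ncard_pair ht.symm)
  have hZC : ∀ x : H, center H ≤ centralizer {x} := fun x => center_le_centralizer _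
  have hC : ∀ x, Nat.card (centralizer ({x.1} : Set H)) = 2 * m (c x) := fun x => by
    rw [hm, ← hz, card_mul_relIndex (hZC _)]
  have hM : ∀ M : Subgroup H, M.Normal → center H ≤ M → M = center H ∨ M = ⊤ := fun M hM hZM => by
    obtain ⟨e, he, hMe⟩ := card_eq_of_fibers c M hZM fun x y hxy hx => by
      obtain ⟨g, hg⟩ := hcc x y hxy
      have h3 : ((center H).relIndex (centralizer {x.1})).Prime := by
        rw [← hm]
        rcases hI (c x) with h | h | h <;> rw [h] <;> simp only [h0, h1, h2] <;> norm_num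
      rcases eq_or_eq_of_prime_relIndex h3 (le_inf hZM (hZC _)) inf_le_right with h | h
      · exact absurd (h.le (mem_inf.mpr ⟨hx, mem_centralizer_singleton_iff.mpr rfl⟩)) x.2
      · simpa [mul_assoc] using hM.conj_mem _ (inf_eq_right.mp h hg) g⁻¹
    have h3 : (Finset.univ : Finset I) = {i₀, i₁, i₂} := by
      ext i; simpa using hI i
    have n01 : i₀ ≠ i₁ := fun h => by rw [h] at h0; omega
    have n02 : i₀ ≠ i₂ := fun h => by rw [h] at h0; omega
    have n12 : i₁ ≠ i₂ := fun h => by rw [h] at h1; omega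
    rw [h3, Finset.sum_insert (by simp [n01, n02]), Finset.sum_pair n12, hz] at hMe
    have a0 := ha i₀
    have a1 := ha i₁
    have a2 := ha i₂
    rw [h0] at a0
    rw [h1] at a1
    rw [h2] at a2
    have h4 := card_subgroup_dvd_card M
    rw [hH] at h4
    have h5 : Nat.card M = 2 ∨ Nat.card M = 120 := by
      rcases he i₀ with e0 | e0 <;> rcases he i₁ with e1 | e1 <;> rcases he i₂ with e2 | e2 <;>
        first
        | omega
        | (exfalso
           obtain ⟨d, hd⟩ := h4
           have : d < 4 := by nlinarith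
           interval_cases d <;> omega)
    exact h5.imp (fun h => (eq_of_le_of_card_ge hZM (by omega)).symm)
      fun h => eq_top_of_card_eq _ (by omega)
  have h60 : Nat.card (H ⧸ center H) = 60 := by
    have := card_mul_index (center H)
    rw [hz, hH] at this
    rw [← index]; omega
  have : Nontrivial (H ⧸ center H) := Finite.one_lt_card_iff_nontrivial.mp (by omega)
  have : IsSimpleGroup (H ⧸ center H) := ⟨fun N hN => by
    rcases hM (N.comap (QuotientGroup.mk' _)) inferInstance (QuotientGroup.le_comap_mk' _ N) with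
      h | h
    · left
      rw [← map_comap_eq_self_of_surjective (QuotientGroup.mk'_surjective _) N, h,
        QuotientGroup.map_mk'_self]
    · right
      rw [← map_comap_eq_self_of_surjective (QuotientGroup.mk'_surjective _) N, h,
        map_top_of_surjective _ (QuotientGroup.mk'_surjective _)]⟩
  have hp1 : commutator (H ⧸ center H) = ⊤ :=
    (IsSimpleGroup.eq_bot_or_eq_top_of_normal _ inferInstance).resolve_left fun e => by
      have := (commutator_eq_bot_iff _).1 e
      let _ : CommGroup (H ⧸ center H) :=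
        { (inferInstance : Group (H ⧸ center H)) with mul_comm := mul_comm' }
      exact absurd (h60 ▸ IsSimpleGroup.prime_card) (by norm_num)
  have hp2 : commutator H = ⊤ := by
    have h3 : (commutator H).map (QuotientGroup.mk' (center H)) = ⊤ := by
      rw [map_commutator_eq, QuotientGroup.range_mk']; exact hp1
    have h4 : 2 ∣ Nat.card (commutator H) :=
      (show 2 ∣ Nat.card (H ⧸ center H) by omega).trans (by
        rw [← card_top, ← h3]; exact card_map_dvd _ _)
    obtain ⟨x, hx⟩ := exists_prime_orderOf_dvd_card' 2 h4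
    have h5 : (x : H) = t := (hinv x (by
      rw [← Subgroup.coe_mul, ← sq, ← hx, pow_orderOf_eq_one, Subgroup.coe_one])).resolve_left
        fun h => by simp [show x = 1 from Subtype.ext h] at hx
    have h6 : center H ≤ commutator H := fun y hy => by
      rcases (hZ y).mp hy with rfl | rfl
      · exact one_mem _
      · exact h5 ▸ x.2
    have h7 := congrArg (comap (QuotientGroup.mk' (center H))) h3
    rwa [comap_map_eq, QuotientGroup.ker_mk', sup_eq_left.mpr h6, comap_top] at h7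
  have h4 : ∀ x : {x // x ∉ center H}, IsPElt 2 x.1 → orderOf x.1 = 4 := fun x ⟨k, hk⟩ => by
    have h3 : orderOf x.1 ∣ 2 * m (c x) :=
      hC x ▸ orderOf_dvd_natCard _ (mem_centralizer_singleton_iff.mpr rfl)
    have h5 : ¬ orderOf x.1 ∣ 2 := fun h =>
      x.2 ((hZ _).mpr (hinv _ (by rw [← sq]; exact orderOf_dvd_iff_pow_eq_one.mp h)))
    rw [hk] at h3 h5 ⊢
    have h6 : k < 3 := by
      by_contra h
      have := (pow_dvd_pow 2 (not_lt.mp h)).trans h3
      rcases hI (c x) with h | h | h <;> rw [h] at this <;> omega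
    interval_cases k <;> simp_all
  obtain ⟨e⟩ := Four.nonempty_equiv_psl h60 hp1
  have hk : ∀ x, (e.toMonoidHom.comp (QuotientGroup.mk' _)) x = 1 ↔ x = 1 ∨ x = t := fun x => by
    rw [← hZ]; simp
  refine ⟨hp2, Four.nonempty_equiv_sl (e.surjective.comp (QuotientGroup.mk'_surjective _)) ht hk
    (fun x hx h => ?_) hp2, ?_⟩
  · have h5 := h4 ⟨x, fun h' => h ((hk x).mpr ((hZ x).mp h'))⟩ hx
    refine (hinv _ (by rw [← pow_orderOf_eq_one x, h5]; simp [pow_succ, mul_assoc])).resolve_left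
      fun h6 => ?_
    have := orderOf_dvd_of_pow_eq_one ((sq x).trans h6)
    rw [h5] at this
    omega
  · obtain ⟨x, hx⟩ := hc i₁
    have h5 := hC x
    rw [hx, h1] at h5
    obtain ⟨k, -, hk⟩ := (Nat.dvd_prime_pow Nat.prime_two (m := 2)).mp
      (h5 ▸ orderOf_dvd_natCard _ (mem_centralizer_singleton_iff.mpr rfl))
    exact ⟨x, h4 x ⟨k, hk⟩, h5⟩

/-- A `p'`-subgroup of `GL(2, p)`, `p ≥ 5`, transitive on nonzero vectors has at least `p`
classes, or is `SL(2, 5)` for `p = 11`. -/
theorem le_or_of_two (hH : ¬ p ∣ Nat.card H) (h5 : 5 ≤ p)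
    (R : H →* Matrix (Fin 2) (Fin 2) (ZMod p)) (hR : Function.Injective R)
    (htr : ∀ v w : Fin 2 → ZMod p, v ≠ 0 → w ≠ 0 → ∃ h, R h *ᵥ v = w) :
    p ≤ Nat.card (ConjClasses H) ∨ (p = 11 ∧ Nat.card (ConjClasses H) = 9 ∧ Nat.card H = 120 ∧
      commutator H = ⊤ ∧ Nonempty (H ≃* SL(2, ZMod 5)) ∧
      ∃ x : H, orderOf x = 4 ∧ Nat.card (centralizer ({x} : Set H)) = 4) := by
  obtain ⟨I, _, c, m, f, a, hc, hm, hm2, hf, ha, hs, hk, hac, hcc⟩ := CAClass.exists_classEq
    (fun h hh => (ca_of_two hH R hR hh).1) fun h hh => (ca_of_two hH R hR hh).2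
  obtain ⟨B, s, hB1, hB2, hB3, hB4⟩ := exists_borel hH R hR htr
  have hHpos : 0 < Nat.card H := Nat.card_pos
  have hs0 : 0 < s := Nat.pos_of_ne_zero fun h => by simp [h] at hB3; omega
  have hzi := card_mul_index (center H)
  have hipos := index_pos (center H)
  by_cases hBZ : B ≤ center H
  · left
    have h1 : p - 1 ≤ Nat.card (center H) :=
      (Nat.le_mul_of_pos_right _ hs0).trans (hB2 ▸ card_le_of_le hBZ)
    by_cases hZ : center H = ⊤
    · rw [hZ, index_top] at hk
      have h2 := Nat.le_mul_of_pos_right (p ^ 2 - 1) hs0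
      have h3 : 5 * p ≤ p ^ 2 := by nlinarith
      omega
    · obtain ⟨x, hx⟩ : ∃ x, x ∉ center H := by
        by_contra h; push Not at h; exact hZ (eq_top_iff.mpr fun x _ => h x)
      have h2 : 0 < a (c ⟨x, hx⟩) := by
        rw [hac]
        exact @Nat.card_pos _ ⟨⟨_, rfl⟩⟩ _
      have h3 := Finset.single_le_sum (f := fun i => a i * m i) (fun i _ => Nat.zero_le _)
        (Finset.mem_univ (c ⟨x, hx⟩))
      have h4 := Nat.mul_pos h2 (show 0 < m (c ⟨x, hx⟩) from by linarith [hm2 (c ⟨x, hx⟩)])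
      have h6 : Nat.card (center H) < Nat.card (ConjClasses H) :=
        Nat.lt_of_mul_lt_mul_right (a := (center H).index) (by omega)
      omega
  obtain ⟨b, hb, hbZ⟩ := SetLike.not_le_iff_exists.mp hBZ
  have hZB : center H ≤ B := hB4 b hb hbZ ▸ center_le_centralizer _
  have h1 : m (c ⟨b, hbZ⟩) = (center H).relIndex B := by rw [hm, hB4 b hb hbZ]
  have h2 : (center H).index = (p + 1) * m (c ⟨b, hbZ⟩) := by
    rw [h1, ← hB1, mul_comm, relIndex_mul_index hZB]
  have hq : ∀ i, (a i : ℚ) * f i * m i = Nat.card H * (m i - 1) := fun i => by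
    have := congrArg (Nat.cast : ℕ → ℚ) (ha i)
    rwa [Nat.cast_mul, Nat.cast_mul, Nat.cast_mul, Nat.cast_sub (by linarith [hm2 i]),
      Nat.cast_one] at this
  have hf0 : ∀ i, (f i : ℚ) ≠ 0 := fun i => by rcases hf i with h | h <;> simp [h]
  have hm0 : ∀ i, (m i : ℚ) ≠ 0 := fun i => by have := hm2 i; positivity
  have hH0 : (Nat.card H : ℚ) ≠ 0 := by positivity
  have hzi' : (Nat.card (center H) : ℚ) * ((p + 1) * m (c ⟨b, hbZ⟩)) = Nat.card H := by
    rw [← hzi, h2]; push_cast; ring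
  have hg0 : ((p + 1 : ℚ) * m (c ⟨b, hbZ⟩)) ≠ 0 := mul_ne_zero (by positivity) (hm0 _)
  have hreg : s = 1 → ∃ t : H, t ≠ 1 ∧ t ∈ center H ∧ ∀ x : H, x * x = 1 → x = 1 ∨ x = t := by
    rintro rfl
    have h3 : ∀ v ≠ 0, stab R v = ⊥ := fun v hv => by
      rw [← card_eq_one]
      have := index_mul_card (stab R v)
      rw [index_stab htr hv, hB3] at this
      exact Nat.eq_of_mul_eq_mul_left (by omega) this
    obtain ⟨t, ht⟩ := exists_prime_orderOf_dvd_card' (G := H) 2 (by
      rw [hB3, mul_one]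
      exact even_iff_two_dvd.mp (Nat.Odd.sub_odd (hp.out.odd_of_ne_two (by omega)).pow odd_one))
    have h4 : t ≠ 1 := fun h => by simp [h] at ht
    have h6 := eq_neg_one h3 (by rw [← sq, ← ht, pow_orderOf_eq_one]) h4
    refine ⟨t, h4, mem_center_iff.mpr fun g => hR (by simp [h6]), fun x hx => ?_⟩
    by_cases h : x = 1
    · exact Or.inl h
    · exact Or.inr (hR ((eq_neg_one h3 hx h).trans h6.symm))
  rcases CAClass.arith (k := Nat.card (ConjClasses H)) hm2 hf h5 hs0 (c ⟨b, hbZ⟩)
    (by rw [h1, card_mul_relIndex hZB, hB2]) (by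
      apply mul_left_cancel₀ hH0
      have h3 := congrArg (Nat.cast : ℕ → ℚ) hs
      push_cast at h3
      rw [Finset.mul_sum, Finset.sum_congr rfl fun i _ => show _ = (a i : ℚ) by
        rw [← mul_div_assoc, ← hq]; field_simp [hf0 i, hm0 i], mul_sub, ← hzi', mul_one_div,
        mul_div_cancel_right₀ _ hg0]
      linear_combination h3 - hzi') (by
      apply mul_right_cancel₀ hg0
      have h3 := congrArg (Nat.cast : ℕ → ℚ) hk
      rw [h2] at h3
      push_cast at h3
      rw [h3, mul_right_comm, hzi', mul_add, mul_one, Finset.mul_sum]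
      congr 1
      exact Finset.sum_congr rfl fun i _ => by
        rw [← mul_div_assoc, ← hq]; field_simp [hf0 i]) with h | ⟨-, h3, h4⟩ |
      ⟨rfl, h3, h4, h6, i₁, i₂, hI, h7, h8, h9, h10⟩
  · exact Or.inl h
  · obtain ⟨t, ht, ht', -⟩ := hreg h4
    exact absurd ((card_eq_one.mp h3).le ht') ht
  · obtain ⟨t, ht, ht', hinv⟩ := hreg h4
    have h120 : Nat.card H = 120 := by rw [hB3, h4]; norm_num
    refine Or.inr ⟨rfl, h6, h120, equiv_sl_of_classEq h120 ht (fun x => ⟨fun hx => hinv x ?_, ?_⟩)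
      hinv c hc hm (fun i => by rw [← hac, ← h120, ← h10 i, ha]) hcc hI h7 h8 h9⟩
    · have := pow_card_eq_one' (x := (⟨x, hx⟩ : center H))
      rw [h3, sq] at this
      exact congrArg Subtype.val this
    · rintro (rfl | rfl)
      exacts [one_mem _, ht']

end Cfsg.TransLin
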