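import Mathlib.Algebra.BigOperators.Field
import Mathlib.Algebra.Order.BigOperators.Group.Finset
import Mathlib.Algebra.Order.Field.Basic
import Mathlib.Data.Rat.Cast.Order
import Mathlib.Data.Nat.Factorial.Basic
import Mathlib.Data.Rat.Floor
import Mathlib.Data.Nat.Cast.Field
import Mathlib.Algebra.Group.Action.Defs
import Mathlib.Tactic.Linarith
import Mathlib.Tactic.Positivity
import Mathlib.Tactic.FieldSimp

/-!
# Unit fraction equations (Jordan's fundamental equation)
-/

set_option autoImplicit false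

namespace Cfsg

namespace Jordan

universe u

/-- Unit fraction lemma: `1/g + r = ∑ 1/nᵢ` with at most `k` terms, all `nᵢ < g`, bounds `g`. -/
theorem exists_bound_unit_frac (k : ℕ) : ∀ r : ℚ, ∃ C : ℕ, ∀ (g : ℕ) (s : Multiset ℕ),
    0 < g → s.card ≤ k → (∀ n ∈ s, 0 < n ∧ n < g) →
    1 / (g : ℚ) + r = (s.map fun n : ℕ => 1 / (n : ℚ)).sum → g ≤ C := by
  induction k with
  | zero =>
    intro r
    refine ⟨⌈-1 / r⌉₊, fun g s hg hs _ h => ?_⟩
    have hs0 : s = 0 := Multiset.card_eq_zero.1 (Nat.le_zero.1 hs)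
    subst hs0
    simp only [Multiset.map_zero, Multiset.sum_zero] at h
    have hg' : (0 : ℚ) < g := by exact_mod_cast hg
    have hr : r = -(1 / g) := by linarith
    have : (-1 / r) = g := by rw [hr]; field_simp
    rw [this]; simp
  | succ k ih =>
    intro r
    choose C hC using ih
    refine ⟨max (C r) ((Finset.range (⌈(k + 1) / r⌉₊ + 1)).sup fun n => C (r - 1 / (n : ℚ))),
      fun g s hg hs hn h => ?_⟩
    by_cases hk : s.card ≤ k
    · exact le_max_of_le_left (hC r g s hg hk hn h)
    have hs0 : s ≠ 0 := by rintro rfl; simp at hk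
    have hg' : (0 : ℚ) < g := by exact_mod_cast hg
    obtain ⟨n, hns, hmin⟩ := Finset.exists_min_image s.toFinset id
      (Multiset.toFinset_nonempty.2 hs0)
    rw [Multiset.mem_toFinset] at hns
    have hn0 : (0 : ℚ) < n := by exact_mod_cast (hn n hns).1
    have hng : (n : ℚ) < g := by exact_mod_cast (hn n hns).2
    have hsum : (s.map fun n : ℕ => 1 / (n : ℚ)).sum =
        1 / (n : ℚ) + ((s.erase n).map fun n : ℕ => 1 / (n : ℚ)).sum := by
      conv_lhs => rw [← Multiset.cons_erase hns]
      simp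
    have hnonneg : 0 ≤ ((s.erase n).map fun n : ℕ => 1 / (n : ℚ)).sum :=
      Multiset.sum_nonneg fun x hx => by
        obtain ⟨m, -, rfl⟩ := Multiset.mem_map.1 hx
        positivity
    have hr : 0 < r := by
      have : 1 / (g : ℚ) < 1 / n := one_div_lt_one_div_of_lt hn0 hng
      linarith
    have hle : (s.map fun n : ℕ => 1 / (n : ℚ)).sum ≤ (k + 1) * (1 / n) := by
      have h1 := Multiset.sum_le_card_nsmul (s.map fun n : ℕ => 1 / (n : ℚ)) (1 / (n : ℚ))
        (fun x hx => by
          obtain ⟨m, hm, rfl⟩ := Multiset.mem_map.1 hx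
          have : n ≤ m := hmin m (Multiset.mem_toFinset.2 hm)
          exact one_div_le_one_div_of_le hn0 (by exact_mod_cast this))
      rw [Multiset.card_map, nsmul_eq_mul] at h1
      refine h1.trans (mul_le_mul_of_nonneg_right ?_ (by positivity))
      exact_mod_cast hs
    have hnle : n ≤ ⌈(k + 1) / r⌉₊ := by
      have h2 : r ≤ (k + 1) * (1 / (n : ℚ)) := by
        have : 0 < 1 / (g : ℚ) := by positivity
        linarith
      have h3 : (n : ℚ) ≤ (k + 1) / r := by
        rw [le_div_iff₀ hr]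
        calc (n : ℚ) * r ≤ n * ((k + 1) * (1 / (n : ℚ))) := by gcongr
          _ = k + 1 := by field_simp
      exact_mod_cast h3.trans (Nat.le_ceil _)
    refine le_max_of_le_right (le_trans ?_ (Finset.le_sup
      (f := fun n : ℕ => C (r - 1 / (n : ℚ))) (Finset.mem_range.2 (Nat.lt_succ_of_le hnle))))
    refine hC _ g (s.erase n) hg ?_ (fun m hm => hn m (Multiset.mem_of_mem_erase hm)) (by linarith)
    rw [Multiset.card_erase_of_mem hns]
    exact Nat.pred_le_iff.2 hs

/-- Jordan's fundamental equation bounds `g`. -/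
theorem exists_bound_fund (B : ℕ) : ∃ C : ℕ, ∀ (ι : Type u) (I : Finset ι) (b n : ι → ℕ)
    (ε : ι → Prop) [DecidablePred ε] (g : ℕ), 0 < g → (∀ i ∈ I, 0 < b i ∧ b i ≤ B) →
    (∀ i ∈ I, ε i → 2 * b i ≤ n i ∧ n i < g) →
    1 - 1 / (g : ℚ) = ∑ i ∈ I, (1 / (b i : ℚ) - if ε i then 1 / (n i : ℚ) else 0) → g ≤ C := by
  choose C hC using exists_bound_unit_frac (2 * B)
  refine ⟨(Finset.range (2 * B * B.factorial + 1)).sup fun m => C ((m : ℚ) / B.factorial - 1),
    fun ι I b n ε _ g hg hb hn h => ?_⟩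
  have hg' : (0 : ℚ) < g := by exact_mod_cast hg
  have hf : (0 : ℚ) < B.factorial := by exact_mod_cast B.factorial_pos
  have hI : I.card ≤ 2 * B := by
    rcases I.eq_empty_or_nonempty with rfl | ⟨j, hj⟩
    · simp
    have hB : (0 : ℚ) < B := by exact_mod_cast (hb j hj).1.trans_le (hb j hj).2
    have h1 : ∀ i ∈ I, 1 / (2 * (B : ℚ)) ≤
        1 / (b i : ℚ) - if ε i then 1 / (n i : ℚ) else 0 := by
      intro i hi
      have hb0 : (0 : ℚ) < b i := by exact_mod_cast (hb i hi).1
      have hb1 : (b i : ℚ) ≤ B := by exact_mod_cast (hb i hi).2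
      have h2 : 1 / (2 * (B : ℚ)) ≤ 1 / (2 * b i) :=
        one_div_le_one_div_of_le (by positivity) (by linarith)
      have h3 : 1 / (b i : ℚ) = 1 / (2 * b i) + 1 / (2 * b i) := by field_simp; norm_num
      split_ifs with he
      · have : (2 * b i : ℚ) ≤ n i := by exact_mod_cast (hn i hi he).1
        have h4 : 1 / (n i : ℚ) ≤ 1 / (2 * b i) := one_div_le_one_div_of_le (by positivity) this
        linarith
      · have : 0 < 1 / (2 * (b i : ℚ)) := by positivity
        linarith
    have h2 := Finset.card_nsmul_le_sum I _ _ h1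
    rw [← h, nsmul_eq_mul] at h2
    have h3 : (I.card : ℚ) * (1 / (2 * B)) ≤ 1 := by
      have : 0 < 1 / (g : ℚ) := by positivity
      linarith
    rw [mul_one_div, div_le_one (by positivity)] at h3
    exact_mod_cast h3
  set m := ∑ i ∈ I, B.factorial / b i with hm
  have hm1 : (m : ℚ) / B.factorial = ∑ i ∈ I, 1 / (b i : ℚ) := by
    rw [hm, Nat.cast_sum, Finset.sum_div]
    refine Finset.sum_congr rfl fun i hi => ?_
    have hb0 : (0 : ℚ) < b i := by exact_mod_cast (hb i hi).1
    rw [Nat.cast_div (Nat.dvd_factorial (hb i hi).1 (hb i hi).2) hb0.ne']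
    field_simp
  have hm2 : m ≤ 2 * B * B.factorial := by
    have := Finset.sum_le_card_nsmul I (fun i => B.factorial / b i) B.factorial
      (fun i _ => Nat.div_le_self _ _)
    rw [smul_eq_mul] at this
    exact this.trans (Nat.mul_le_mul_right _ hI)
  refine le_trans ?_ (Finset.le_sup (f := fun m : ℕ => C ((m : ℚ) / B.factorial - 1))
    (Finset.mem_range.2 (Nat.lt_succ_of_le hm2)))
  refine hC _ g ((I.filter ε).val.map n) hg ?_ ?_ ?_
  · rw [Multiset.card_map]
    exact (Finset.card_filter_le _ _).trans hI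
  · intro x hx
    obtain ⟨i, hi, rfl⟩ := Multiset.mem_map.1 hx
    have hi' := Finset.mem_filter.1 (show i ∈ I.filter ε from hi)
    have := hn i hi'.1 hi'.2
    have := (hb i hi'.1).1
    omega
  · rw [Multiset.map_map, hm1]
    have : (Multiset.map ((fun n : ℕ => 1 / (n : ℚ)) ∘ n) (I.filter ε).val).sum =
        ∑ i ∈ I, if ε i then 1 / (n i : ℚ) else 0 := by
      rw [← Finset.sum_filter]; rfl
    rw [this]
    rw [Finset.sum_sub_distrib] at h
    linarith

end Jordan

end Cfsg
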