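import Cfsg.Agent.Grp.Transfer
import Mathlib.Topology.Compactification.OnePoint.ProjectiveLine
import Mathlib.LinearAlgebra.Matrix.ProjectiveSpecialLinearGroup
import Mathlib.NumberTheory.LegendreSymbol.Basic

/-!
# Recognition of `PSL(2, p)` from its action on `p + 1` points: coordinates
-/

set_option autoImplicit false
set_option linter.unusedSectionVars false

namespace Cfsg

open Subgroup OnePoint
open scoped MatrixGroups

universe u

/-- The action of `SL(2, F)` on the projective line. -/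
noncomputable def slPerm (F : Type*) [Field F] [DecidableEq F] :
    SL(2, F) →* Equiv.Perm (OnePoint F) :=
  (MulAction.toPermHom (GL (Fin 2) F) (OnePoint F)).comp Matrix.SpecialLinearGroup.toGL

section Coord

variable {F : Type*} [Field F] [DecidableEq F]

theorem slPerm_infty (s : SL(2, F)) :
    slPerm F s ∞ = if s 1 0 = 0 then ∞ else ((s 0 0 / s 1 0 : F) : OnePoint F) :=
  smul_infty_eq_ite (Matrix.SpecialLinearGroup.toGL s)

theorem slPerm_coe (s : SL(2, F)) (t : F) :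
    slPerm F s t = if s 1 0 * t + s 1 1 = 0 then ∞ else
      (((s 0 0 * t + s 0 1) / (s 1 0 * t + s 1 1) : F) : OnePoint F) :=
  smul_some_eq_ite (g := Matrix.SpecialLinearGroup.toGL s)

omit [DecidableEq F] in
theorem sl_det (s : SL(2, F)) : s 0 0 * s 1 1 - s 0 1 * s 1 0 = 1 := by
  rw [← Matrix.det_fin_two]; exact s.2

theorem slPerm_of_infty {s : SL(2, F)} (h : slPerm F s ∞ = ∞) :
    s 1 0 = 0 ∧ s 0 0 ≠ 0 ∧ ∀ t : F, slPerm F s t = ((s 0 0 ^ 2 * t + s 0 0 * s 0 1 : F) :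
      OnePoint F) := by
  have h0 : s 1 0 = 0 := by
    by_contra h0
    rw [slPerm_infty, if_neg h0] at h
    exact coe_ne_infty _ h
  have hd := sl_det s
  rw [h0, mul_zero, sub_zero] at hd
  have h1 : s 1 1 ≠ 0 := right_ne_zero_of_mul_eq_one hd
  refine ⟨h0, left_ne_zero_of_mul_eq_one hd, fun t => ?_⟩
  rw [slPerm_coe, h0, zero_mul, zero_add, if_neg h1]
  congr 1
  rw [div_eq_iff h1]
  linear_combination (-(s 0 0 * t + s 0 1)) * hd

theorem ker_slPerm : (slPerm F).ker = center SL(2, F) := by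
  ext s
  rw [MonoidHom.mem_ker, Matrix.SpecialLinearGroup.mem_center_iff]
  constructor
  · intro h
    obtain ⟨h0, h1, h2⟩ := slPerm_of_infty (s := s) (by rw [h]; rfl)
    rw [h] at h2
    have a0 := coe_eq_coe.1 (h2 0)
    have a1 := coe_eq_coe.1 (h2 1)
    have a2 : s 0 1 = 0 := by simpa [h1] using a0.symm
    have a3 : s 0 0 ^ 2 = 1 := by rw [a2] at a1; simpa using a1.symm
    have hd := sl_det s
    rw [h0, mul_zero, sub_zero] at hd
    have a4 : s 1 1 = s 0 0 := by linear_combination (s 0 0) * hd - (s 1 1) * a3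
    refine ⟨s 0 0, by simpa using a3, ?_⟩
    ext i j
    fin_cases i <;> fin_cases j <;> simp [h0, a2, a4]
  · rintro ⟨r, hr, hs⟩
    have e : ∀ i j, s i j = Matrix.scalar (Fin 2) r i j := fun i j => by rw [hs]
    have hr0 : r ≠ 0 := by rintro rfl; simp at hr
    ext x
    cases x with
    | infty => rw [slPerm_infty, e]; simp
    | coe t => rw [slPerm_coe, e, e, e, e]; simp [hr0]

theorem exists_slPerm_affine {a : F} (ha : a ≠ 0) (b : F) : ∃ s : SL(2, F), slPerm F s ∞ = ∞ ∧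
    ∀ t : F, slPerm F s t = ((a ^ 2 * t + b : F) : OnePoint F) := by
  let s : SL(2, F) := ⟨!![a, b / a; 0, a⁻¹], by simp [Matrix.det_fin_two, ha]⟩
  have h : slPerm F s ∞ = ∞ := by rw [slPerm_infty]; simp [s]
  refine ⟨s, h, fun t => ?_⟩
  rw [(slPerm_of_infty h).2.2]
  simp only [s]
  congr 1
  simp; field_simp

theorem exists_slPerm_inv {c : F} (hc : c ≠ 0) : ∃ s : SL(2, F), slPerm F s ∞ = (0 : F) ∧
    slPerm F s (0 : F) = ∞ ∧ ∀ t : F, t ≠ 0 → slPerm F s t = ((-c ^ 2 / t : F) : OnePoint F) := by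
  let s : SL(2, F) := ⟨!![0, -c; c⁻¹, 0], by simp [Matrix.det_fin_two, hc]⟩
  refine ⟨s, ?_, ?_, fun t ht => ?_⟩
  · rw [slPerm_infty]; simp [s, hc]
  · rw [slPerm_coe]; simp [s]
  · rw [slPerm_coe]
    simp [s, hc, ht]; field_simp

theorem nonempty_equiv_psl_of_coord {G : Type u} [Group G] (ρ : G →* Equiv.Perm (OnePoint F))
    (hρ : Function.Injective ρ)
    (h1 : ∀ g, ρ g ∞ = ∞ → ∃ a b : F, a ≠ 0 ∧ ∀ t : F, ρ g t = ((a ^ 2 * t + b : F) : OnePoint F))
    (h2 : ∀ a b : F, a ≠ 0 → ∃ g, ρ g ∞ = ∞ ∧ ∀ t : F, ρ g t = ((a ^ 2 * t + b : F) : OnePoint F))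
    {w : G} {c : F} (hc : c ≠ 0) (hw1 : ρ w ∞ = (0 : F)) (hw2 : ρ w (0 : F) = ∞)
    (hw3 : ∀ t : F, t ≠ 0 → ρ w t = ((-c ^ 2 / t : F) : OnePoint F)) :
    Nonempty (G ≃* Matrix.ProjectiveSpecialLinearGroup (Fin 2) F) := by
  have key : ∀ R S : Subgroup (Equiv.Perm (OnePoint F)), (∀ g ∈ R, g ∞ = ∞ → g ∈ S) →
      (∀ t : F, ∃ k ∈ R ⊓ S, k ∞ = t) → R ≤ S := by
    intro R S hRS ht g hg
    cases h : g ∞ with
    | infty => exact hRS g hg h
    | coe t =>
      obtain ⟨k, hk, hkt⟩ := ht t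
      have := hRS (k⁻¹ * g) (mul_mem (inv_mem hk.1) hg) (by
        rw [Equiv.Perm.mul_apply, h, ← hkt]; simp)
      simpa using mul_mem hk.2 this
  have ext1 : ∀ f g : Equiv.Perm (OnePoint F), f ∞ = g ∞ → (∀ t : F, f t = g t) → f = g := by
    intro f g a b
    ext x; cases x with
    | infty => exact a
    | coe t => exact b t
  have hw : ρ w ∈ (slPerm F).range := by
    obtain ⟨s, a1, a2, a3⟩ := exists_slPerm_inv hc
    refine ⟨s, ext1 _ _ (a1.trans hw1.symm) fun t => ?_⟩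
    by_cases ht : t = 0
    · rw [ht, a2, hw2]
    · rw [a3 t ht, hw3 t ht]
  have a1 : ∀ g ∈ ρ.range, g ∞ = ∞ → g ∈ (slPerm F).range := by
    rintro _ ⟨g, rfl⟩ hg
    obtain ⟨a, b, ha, h⟩ := h1 g hg
    obtain ⟨s, b1, b2⟩ := exists_slPerm_affine ha b
    exact ⟨s, ext1 _ _ (b1.trans hg.symm) fun t => (b2 t).trans (h t).symm⟩
  have a2 : ∀ g ∈ (slPerm F).range, g ∞ = ∞ → g ∈ ρ.range := by
    rintro _ ⟨s, rfl⟩ hs
    obtain ⟨-, b1, b2⟩ := slPerm_of_infty hs
    obtain ⟨g, c1, c2⟩ := h2 _ (s 0 0 * s 0 1) b1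
    exact ⟨g, ext1 _ _ (c1.trans hs.symm) fun t => (c2 t).trans (b2 t).symm⟩
  have a3 : ∀ t : F, ∃ k ∈ ρ.range ⊓ (slPerm F).range, k ∞ = t := by
    intro t
    obtain ⟨g, c1, c2⟩ := h2 1 t one_ne_zero
    refine ⟨ρ g * ρ w, ⟨mul_mem ⟨g, rfl⟩ ⟨w, rfl⟩, mul_mem (a1 _ ⟨g, rfl⟩ c1) hw⟩, ?_⟩
    rw [Equiv.Perm.mul_apply, hw1, c2]; simp
  have e : ρ.range = (slPerm F).range :=
    le_antisymm (key _ _ a1 a3) (key _ _ a2 (by rwa [inf_comm]))
  exact ⟨((MonoidHom.ofInjective hρ).trans (MulEquiv.subgroupCongr e)).trans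
    ((QuotientGroup.quotientKerEquivRange (slPerm F)).symm.trans
      (QuotientGroup.quotientMulEquivOfEq ker_slPerm))⟩

end Coord

section Perm

open MulAction

variable {G : Type u} [Group G] {p : ℕ} [hp : Fact p.Prime] [MulAction G (OnePoint (ZMod p))]
  {x : G}

/-- Hypotheses for the recognition of `PSL(2, p)`. -/
structure ZassHyp (p : ℕ) (G : Type u) [Group G] [MulAction G (OnePoint (ZMod p))] (x : G) :
    Prop where
  faithful : ∀ g : G, (∀ t : OnePoint (ZMod p), g • t = t) → g = 1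
  infty : x • (∞ : OnePoint (ZMod p)) = ∞
  coe : ∀ t : ZMod p, x • (t : OnePoint (ZMod p)) = ((t + 1 : ZMod p) : OnePoint (ZMod p))
  norm : ∀ g : G, g • (∞ : OnePoint (ZMod p)) = ∞ → ∃ k : ℕ, g * x * g⁻¹ = x ^ k
  move : ∃ g : G, g • (∞ : OnePoint (ZMod p)) ≠ ∞

namespace ZassHyp

variable (h : ZassHyp p G x)
include h

theorem pow_infty (k : ℕ) : x ^ k • (∞ : OnePoint (ZMod p)) = ∞ := by
  induction k with
  | zero => simp
  | succ k ih => rw [pow_succ, mul_smul, h.infty, ih]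

theorem pow_coe (k : ℕ) (t : ZMod p) :
    x ^ k • (t : OnePoint (ZMod p)) = ((t + k : ZMod p) : OnePoint (ZMod p)) := by
  induction k with
  | zero => simp
  | succ k ih => rw [pow_succ', mul_smul, ih, h.coe]; push_cast; rw [add_assoc]

theorem exists_transl (b : ZMod p) : ∃ y : G, y • (∞ : OnePoint (ZMod p)) = ∞ ∧
    ∀ t : ZMod p, y • (t : OnePoint (ZMod p)) = ((t + b : ZMod p) : OnePoint (ZMod p)) :=
  ⟨x ^ b.val, h.pow_infty _, fun t => by rw [h.pow_coe]; simp⟩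

theorem exists_affine {g : G} (hg : g • (∞ : OnePoint (ZMod p)) = ∞) : ∃ a b : ZMod p, a ≠ 0 ∧
    ∀ t : ZMod p, g • (t : OnePoint (ZMod p)) = ((a * t + b : ZMod p) : OnePoint (ZMod p)) := by
  obtain ⟨k, hk⟩ := h.norm g hg
  cases h0 : g • ((0 : ZMod p) : OnePoint (ZMod p)) with
  | infty => exact absurd (smul_left_cancel g (h0.trans hg.symm)) (coe_ne_infty _)
  | coe b =>
    have h1 : ∀ n : ℕ, g • ((n : ZMod p) : OnePoint (ZMod p)) =
        ((k * n + b : ZMod p) : OnePoint (ZMod p)) := by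
      intro n
      induction n with
      | zero => simpa using h0
      | succ n ih =>
        have : g * x = x ^ k * g := by rw [← hk]; group
        push_cast
        rw [← h.coe, ← mul_smul, this, mul_smul, ih, h.pow_coe]
        congr 1; ring
    have h2 : ∀ t : ZMod p, g • (t : OnePoint (ZMod p)) =
        ((k * t + b : ZMod p) : OnePoint (ZMod p)) := fun t => by simpa using h1 t.val
    refine ⟨k, b, fun hk0 => ?_, h2⟩
    have : g • ((1 : ZMod p) : OnePoint (ZMod p)) = g • ((0 : ZMod p) : OnePoint (ZMod p)) := by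
      rw [h2, h2, hk0]; simp
    exact one_ne_zero (coe_eq_coe.1 (smul_left_cancel g this))

theorem exists_smul_eq {s t : OnePoint (ZMod p)} (hst : s ≠ t) :
    ∃ g : G, g • (∞ : OnePoint (ZMod p)) = s ∧ g • ((0 : ZMod p) : OnePoint (ZMod p)) = t := by
  have h1 : ∃ g : G, g • (∞ : OnePoint (ZMod p)) = s := by
    cases s with
    | infty => exact ⟨1, one_smul _ _⟩
    | coe s =>
      obtain ⟨g, hg⟩ := h.move
      obtain ⟨r, hr⟩ := ne_infty_iff_exists.1 hg
      obtain ⟨y, -, hy⟩ := h.exists_transl (s - r)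
      exact ⟨y * g, by rw [mul_smul, ← hr, hy]; simp⟩
  obtain ⟨g, hg⟩ := h1
  have h2 : g⁻¹ • t ≠ ∞ := fun e => hst (by rw [← hg, ← e, smul_inv_smul])
  obtain ⟨r, hr⟩ := ne_infty_iff_exists.1 h2
  obtain ⟨y, hy1, hy⟩ := h.exists_transl r
  exact ⟨g * y, by rw [mul_smul, hy1, hg], by rw [mul_smul, hy, zero_add, hr, smul_inv_smul]⟩

theorem exists_mul {g : G} (hg : g • (∞ : OnePoint (ZMod p)) = ∞)
    (h0 : g • ((0 : ZMod p) : OnePoint (ZMod p)) = (0 : ZMod p)) : ∃ a : ZMod p, a ≠ 0 ∧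
    ∀ t : ZMod p, g • (t : OnePoint (ZMod p)) = ((a * t : ZMod p) : OnePoint (ZMod p)) := by
  obtain ⟨a, b, ha, hab⟩ := h.exists_affine hg
  have : b = 0 := by simpa [hab] using h0
  exact ⟨a, ha, by simpa [this] using hab⟩

theorem eq_of_infty {g g' : G} (h1 : g • (∞ : OnePoint (ZMod p)) = g' • ∞)
    (h2 : ∀ t : ZMod p, g • (t : OnePoint (ZMod p)) = g' • (t : OnePoint (ZMod p))) : g = g' := by
  have := h.faithful (g'⁻¹ * g) fun t => by
    cases t with
    | infty => rw [mul_smul, h1, inv_smul_smul]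
    | coe t => rw [mul_smul, h2, inv_smul_smul]
  exact (inv_mul_eq_one.1 this).symm

theorem eq_one_of_fix {g : G} {r s t : OnePoint (ZMod p)} (hst : s ≠ t) (hrs : r ≠ s)
    (hrt : r ≠ t) (hr : g • r = r) (hs : g • s = s) (ht : g • t = t) : g = 1 := by
  obtain ⟨k, rfl, rfl⟩ := h.exists_smul_eq hst
  obtain ⟨a, -, ha⟩ := h.exists_mul (g := k⁻¹ * g * k)
    (by rw [mul_smul, mul_smul, hs, inv_smul_smul]) (by rw [mul_smul, mul_smul, ht, inv_smul_smul])
  have h2 : k⁻¹ • r ≠ ∞ := fun e => hrs (by rw [← e, smul_inv_smul])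
  obtain ⟨u, hu⟩ := ne_infty_iff_exists.1 h2
  have hu0 : u ≠ 0 := by rintro rfl; exact hrt (by rw [hu, smul_inv_smul])
  have h3 := ha u
  rw [hu, mul_smul, mul_smul, smul_inv_smul, hr, ← hu, coe_eq_coe] at h3
  have h4 : a = 1 := mul_right_cancel₀ hu0 (by rw [← h3, one_mul])
  have h5 : k⁻¹ * g * k = 1 := h.eq_of_infty
    (by rw [mul_smul, mul_smul, hs, inv_smul_smul, one_smul]) (fun t => by rw [ha, h4]; simp)
  calc g = k * (k⁻¹ * g * k) * k⁻¹ := by group
    _ = 1 := by rw [h5]; group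

omit h in
/-- The stabilizer of `∞` and `0`. -/
def torus (p : ℕ) [Fact p.Prime] (G : Type u) [Group G] [MulAction G (OnePoint (ZMod p))] :
    Subgroup G :=
  stabilizer G ((∞ : OnePoint (ZMod p)), ((0 : ZMod p) : OnePoint (ZMod p)))

omit h in
theorem mem_torus {g : G} : g ∈ torus p G ↔ g • (∞ : OnePoint (ZMod p)) = ∞ ∧
    g • ((0 : ZMod p) : OnePoint (ZMod p)) = (0 : ZMod p) := by
  simp [torus, mem_stabilizer_iff]

theorem index_torus : (torus p G).index = (p + 1) * p := by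
  classical
  rw [torus, index_stabilizer]
  have : orbit G ((∞ : OnePoint (ZMod p)), ((0 : ZMod p) : OnePoint (ZMod p))) =
      ((Finset.univ : Finset (OnePoint (ZMod p))).offDiag : Set _) := by
    ext ⟨s, t⟩
    simp only [mem_orbit_iff, Finset.coe_offDiag, Set.mem_offDiag, Finset.coe_univ, Set.mem_univ,
      true_and, Prod.smul_mk, Prod.mk.injEq]
    refine ⟨?_, h.exists_smul_eq⟩
    rintro ⟨g, rfl, rfl⟩ e
    exact infty_ne_coe _ (smul_left_cancel g e)
  rw [this, Set.ncard_coe_finset, Finset.offDiag_card, Finset.card_univ]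
  have : Fintype.card (OnePoint (ZMod p)) = p + 1 := by
    rw [show Fintype.card (OnePoint (ZMod p)) = Fintype.card (Option (ZMod p)) from
      Fintype.card_congr (Equiv.refl _), Fintype.card_option, ZMod.card]
  rw [this, mul_add, mul_one, Nat.add_sub_cancel]

theorem exists_hom : ∃ A : torus p G →* (ZMod p)ˣ, Function.Injective A ∧ ∀ (q : torus p G)
    (t : ZMod p), (q : G) • (t : OnePoint (ZMod p)) = ((A q * t : ZMod p) : OnePoint (ZMod p)) := by
  choose a ha0 ha using fun q : torus p G =>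
    h.exists_mul (mem_torus.1 q.2).1 (mem_torus.1 q.2).2
  let A : torus p G →* ZMod p :=
    { toFun := a
      map_one' := by simpa using (ha 1 1).symm
      map_mul' := fun q r => by
        have := ha (q * r) 1
        rw [coe_mul, mul_smul, ha, ha, coe_eq_coe] at this
        simpa using this.symm }
  refine ⟨A.toHomUnits, fun q r e => Subtype.ext (h.eq_of_infty ?_ fun t => ?_), ha⟩
  · rw [(mem_torus.1 q.2).1, (mem_torus.1 r.2).1]
  · rw [ha, ha, show a q = a r from congrArg Units.val e]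

theorem torus_comm {q r : G} (hq : q ∈ torus p G) (hr : r ∈ torus p G) : q * r = r * q := by
  obtain ⟨A, hA, -⟩ := h.exists_hom
  exact congrArg Subtype.val (hA (show A (⟨q, hq⟩ * ⟨r, hr⟩) = A (⟨r, hr⟩ * ⟨q, hq⟩) by
    rw [map_mul, map_mul, mul_comm]))

variable [Finite G] {e : ℕ}

theorem card_torus (hG : Nat.card G = (p + 1) * p * e) : Nat.card (torus p G) = e := by
  have := (torus p G).index_mul_card
  rw [h.index_torus, hG] at this
  exact Nat.eq_of_mul_eq_mul_left (Nat.mul_pos p.succ_pos hp.out.pos) this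

theorem pow_eq_one_of_mul (hG : Nat.card G = (p + 1) * p * e) {q : G} (hq : q ∈ torus p G)
    {a : ZMod p} (ha : q • ((1 : ZMod p) : OnePoint (ZMod p)) = a) : a ^ e = 1 := by
  obtain ⟨A, -, hA⟩ := h.exists_hom
  have h1 : a = A ⟨q, hq⟩ := by simpa [ha] using hA ⟨q, hq⟩ 1
  rw [h1, ← Units.val_pow_eq_pow_val, ← map_pow, ← h.card_torus hG, pow_card_eq_one', map_one,
    Units.val_one]

theorem exists_torus (hG : Nat.card G = (p + 1) * p * e) {a : ZMod p} (ha : a ^ e = 1) :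
    ∃ q ∈ torus p G, ∀ t : ZMod p,
      q • (t : OnePoint (ZMod p)) = ((a * t : ZMod p) : OnePoint (ZMod p)) := by
  obtain ⟨A, hA, hA'⟩ := h.exists_hom
  have he : e ≠ 0 := h.card_torus hG ▸ Nat.card_pos.ne'
  have : NeZero e := ⟨he⟩
  have h1 : A.range ≤ rootsOfUnity e (ZMod p) := by
    rintro _ ⟨q, rfl⟩
    rw [mem_rootsOfUnity, ← map_pow, ← h.card_torus hG, pow_card_eq_one', map_one]
  have h2 : A.range = rootsOfUnity e (ZMod p) := by
    refine eq_of_le_of_card_ge h1 ((card_rootsOfUnity _ _).trans ?_)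
    rw [← Nat.card_congr (MonoidHom.ofInjective hA).toEquiv, h.card_torus hG]
  have ha0 : a ≠ 0 := by rintro rfl; simp [he] at ha
  have h3 : Units.mk0 a ha0 ∈ A.range := h2 ▸ (mem_rootsOfUnity _ _).2 (Units.ext (by simpa))
  obtain ⟨q, hq⟩ := h3
  exact ⟨q, q.2, fun t => by rw [hA', hq]; rfl⟩

omit h [Finite G] [Group G] [MulAction G (OnePoint (ZMod p))] in
theorem isSquare_iff (he : p = 2 * e + 1) {a : ZMod p} (ha : a ≠ 0) : IsSquare a ↔ a ^ e = 1 := by
  rw [ZMod.euler_criterion p ha, show p / 2 = e by omega]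

omit h [Finite G] [Group G] [MulAction G (OnePoint (ZMod p))] in
theorem exists_eq_sq_mul (he : p = 2 * e + 1) {a b : ZMod p} (ha : ¬ IsSquare a)
    (hb : ¬ IsSquare b) : ∃ c : ZMod p, c ≠ 0 ∧ a = c ^ 2 * b := by
  have ha0 : a ≠ 0 := by rintro rfl; exact ha IsSquare.zero
  have hb0 : b ≠ 0 := by rintro rfl; exact hb IsSquare.zero
  have key : ∀ a : ZMod p, a ≠ 0 → ¬ IsSquare a → a ^ e = -1 := fun a h0 h1 => by
    have := ZMod.pow_div_two_eq_neg_one_or_one p h0
    rw [show p / 2 = e by omega] at this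
    exact this.resolve_left fun h2 => h1 ((isSquare_iff he h0).2 h2)
  obtain ⟨c, hc⟩ := (isSquare_iff he (div_ne_zero ha0 hb0)).2 (by
    rw [div_pow, key a ha0 ha, key b hb0 hb]; simp)
  refine ⟨c, fun h0 => div_ne_zero ha0 hb0 (by rw [hc, h0, mul_zero]), ?_⟩
  rw [sq, ← hc]; field_simp

/-- The final step, once an element `w` inverting the torus is given. -/
theorem exists_fun (he : p = 2 * e + 1) (hG : Nat.card G = (p + 1) * p * e) {w : G}
    (hw1 : w • (∞ : OnePoint (ZMod p)) = (0 : ZMod p))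
    (hw2 : w • ((0 : ZMod p) : OnePoint (ZMod p)) = ∞)
    (hinv : ∀ q ∈ torus p G, w * q = q⁻¹ * w) : ∃ f : ZMod p → ZMod p,
    (∀ t : ZMod p, t ≠ 0 → w • (t : OnePoint (ZMod p)) = f t ∧ f t ≠ 0) ∧
      ∀ a t, a ≠ 0 → t ≠ 0 → a ^ 2 * f (a ^ 2 * t) = f t := by
  have h1 : ∀ t : ZMod p, ∃ s : ZMod p, t ≠ 0 → w • (t : OnePoint (ZMod p)) = s ∧ s ≠ 0 := by
    intro t
    by_cases ht : t = 0
    · exact ⟨0, fun h => absurd ht h⟩
    have : w • (t : OnePoint (ZMod p)) ≠ ∞ := fun e =>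
      ht (coe_eq_coe.1 (smul_left_cancel w (e.trans hw2.symm)))
    obtain ⟨s, hs⟩ := ne_infty_iff_exists.1 this
    refine ⟨s, fun _ => ⟨hs.symm, ?_⟩⟩
    rintro rfl
    exact coe_ne_infty _ (smul_left_cancel w (hs.symm.trans hw1.symm))
  choose f hf using h1
  refine ⟨f, hf, fun a t ha ht => ?_⟩
  obtain ⟨q, hq, hq'⟩ := h.exists_torus hG
    ((isSquare_iff he (pow_ne_zero 2 ha)).1 ⟨a, sq a⟩)
  have h2 : q * w * q = w := by rw [mul_assoc, hinv q hq]; group
  have h3 := (hf t ht).1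
  rw [← h2, mul_smul, mul_smul, hq', (hf _ (mul_ne_zero (pow_ne_zero 2 ha) ht)).1, hq'] at h3
  exact coe_eq_coe.1 h3

end ZassHyp

end Perm

end Cfsg

set_option linter.all false in
theorem Cfsg.Rz.Grp_ZassCoord_0 : True := by
  have := @_root_.Cfsg.ZassHyp.mk.congr_simp.{0}
  have := @_root_.Cfsg.slPerm.eq_def.{0}
  have := @_root_.Cfsg.slPerm.eq_1.{0}
  have := @_root_.Cfsg.slPerm.fun_cases
  have := @_root_.Cfsg.ZassHyp.torus.congr_simp.{0}
  have := @_root_.Cfsg.ZassHyp.torus.eq_def.{0}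
  have := @_root_.Cfsg.ZassHyp.torus.fun_cases
  trivial
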